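import Mathlib
import Cfsg.Agent.Lib.LocEven.ZC
import Cfsg.Agent.Lib.InvChar.SylowIn
import Cfsg.Agent.Lib.PGroup.Basic

/-! Elements of order three acting on 2-groups with few fixed points. -/

set_option autoImplicit false
set_option linter.unusedSectionVars false
set_option linter.unusedVariables false

namespace H50.SC6

open Subgroup H70

variable {G : Type*} [Group G]

/-- `g` conjugates `D` into itself. -/
def Nm (g : G) (D : Subgroup G) : Prop := ∀ d ∈ D, g * d * g⁻¹ ∈ D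

namespace Nm
variable {g h : G} {D E : Subgroup G}

theorem of_mem (hg : g ∈ D) : Nm g D := fun d hd => mul_mem (mul_mem hg hd) (inv_mem hg)

theorem mul (a : Nm g D) (b : Nm h D) : Nm (g * h) D := fun d hd => by
  have := a _ (b d hd)
  simpa [mul_assoc] using this

theorem one : Nm 1 D := of_mem (one_mem _)

theorem pow (a : Nm g D) (n : ℕ) : Nm (g ^ n) D := by
  induction n with
  | zero => simpa using one
  | succ n ih => rw [pow_succ]; exact ih.mul a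

theorem norm [Finite G] (a : Nm g D) : g ∈ normalizer (D : Set G) := H72.mem_normalizer_of_conj_mem a

theorem of_norm (a : g ∈ normalizer (D : Set G)) : Nm g D := fun d hd => H72.conj_mem_of_mem_normalizer a hd

theorem inv [Finite G] (a : Nm g D) : Nm g⁻¹ D := of_norm (inv_mem a.norm)

theorem inf (a : Nm g D) (b : Nm g E) : Nm g (D ⊓ E) := fun d hd => ⟨a d hd.1, b d hd.2⟩

theorem iff [Finite G] (a : Nm g D) {d : G} : g * d * g⁻¹ ∈ D ↔ d ∈ D :=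
  ⟨fun h => by simpa [mul_assoc] using a.inv _ h, a d⟩

end Nm

/-- The centraliser of `x` in `D`. -/
def Cn (D : Subgroup G) (x : G) : Subgroup G := D ⊓ centralizer {x}

theorem mem_Cn {D : Subgroup G} {x g : G} : g ∈ Cn D x ↔ g ∈ D ∧ g * x = x * g := by
  simp [Cn, mem_centralizer_iff, eq_comm]

theorem Cn_le {D : Subgroup G} {x : G} : Cn D x ≤ D := inf_le_left

theorem comm_cj {a b : G} (h : a * b = b * a) (g : G) :
    g * a * g⁻¹ * (g * b * g⁻¹) = g * b * g⁻¹ * (g * a * g⁻¹) := by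
  have : g * a * g⁻¹ * (g * b * g⁻¹) = g * (a * b) * g⁻¹ := by group
  rw [this, h]; group

theorem cj_eq {a b : G} (h : a * b = b * a) : a * b * a⁻¹ = b := by rw [h]; group

theorem comm_of_cj {a b : G} (h : a * b * a⁻¹ = b) : a * b = b * a := by
  rw [← mul_inv_eq_iff_eq_mul, h]

theorem sq_cj {a : G} (h : a * a = 1) (g : G) : g * a * g⁻¹ * (g * a * g⁻¹) = 1 := by
  have : g * a * g⁻¹ * (g * a * g⁻¹) = g * (a * a) * g⁻¹ := by group
  rw [this, h]; group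

theorem cj_ne {a b : G} (h : a ≠ b) (g : G) : g * a * g⁻¹ ≠ g * b * g⁻¹ := fun e => h (by simpa using e)

theorem cj_ne_one {a : G} (h : a ≠ 1) (g : G) : g * a * g⁻¹ ≠ 1 := fun e => h (by
  simpa using e)

theorem inv_self {a : G} (h : a * a = 1) : a⁻¹ = a := inv_eq_of_mul_eq_one_right h

theorem cj3 {ρ : G} (h3 : ρ * ρ * ρ = 1) (x : G) : ρ * (ρ * (ρ * x * ρ⁻¹) * ρ⁻¹) * ρ⁻¹ = x := by
  have : ρ * (ρ * (ρ * x * ρ⁻¹) * ρ⁻¹) * ρ⁻¹ = ρ * ρ * ρ * x * (ρ * ρ * ρ)⁻¹ := by group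
  rw [this, h3]; group

variable [Finite G]

theorem card_mod3 {D : Subgroup G} {ρ : G} (h3 : ρ * ρ * ρ = 1) (hn : Nm ρ D) :
    Nat.card D % 3 = Nat.card (Cn D ρ) % 3 := by
  classical
  have : Fact (Nat.Prime 3) := ⟨Nat.prime_three⟩
  have := Fintype.ofFinite D
  let f : Function.End D := fun d => ⟨ρ * d * ρ⁻¹, hn d d.2⟩
  have hf : f ^ 3 ^ 1 = 1 := by
    funext d
    exact Subtype.ext (cj3 h3 d)
  have h := Equiv.Perm.card_fixedPoints_modEq hf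
  rw [← Nat.card_eq_fintype_card, ← Nat.card_eq_fintype_card] at h
  have e : Nat.card (Function.fixedPoints f) = Nat.card (Cn D ρ) := Nat.card_congr
    { toFun := fun d => ⟨d.1.1, mem_Cn.2 ⟨d.1.2, (comm_of_cj (congrArg Subtype.val d.2)).symm⟩⟩
      invFun := fun d => ⟨⟨d.1, (mem_Cn.1 d.2).1⟩, Subtype.ext (cj_eq (mem_Cn.1 d.2).2.symm)⟩
      left_inv := fun _ => rfl
      right_inv := fun _ => rfl }
  rw [← e]
  exact h

theorem two_mod {D : Subgroup G} (hD : IsPGroup 2 D) : Nat.card D % 3 ≠ 0 := by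
  have : Fact (Nat.Prime 2) := ⟨Nat.prime_two⟩
  obtain ⟨k, hk⟩ := hD.exists_card_eq
  rw [hk]
  intro h
  have := (Nat.prime_three.dvd_of_dvd_pow (Nat.dvd_of_mod_eq_zero h))
  omega

/-- A fixed point in an invariant coset of a 2-group. -/
theorem exists_fix_coset {N : Subgroup G} (hN : IsPGroup 2 N) {ρ : G} (h3 : ρ * ρ * ρ = 1) (hn : Nm ρ N) {x : G}
    (hx : ρ * x * ρ⁻¹ * x⁻¹ ∈ N) : ∃ n ∈ N, ρ * (n * x) = n * x * ρ := by
  classical
  have : Fact (Nat.Prime 3) := ⟨Nat.prime_three⟩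
  have := Fintype.ofFinite N
  let f : Function.End N := fun d => ⟨ρ * d * ρ⁻¹ * (ρ * x * ρ⁻¹ * x⁻¹), mul_mem (hn d d.2) hx⟩
  have hf : f ^ 3 ^ 1 = 1 := by
    funext d
    refine Subtype.ext ?_
    show ρ * (ρ * (ρ * d * ρ⁻¹ * (ρ * x * ρ⁻¹ * x⁻¹)) * ρ⁻¹ * (ρ * x * ρ⁻¹ * x⁻¹)) * ρ⁻¹ *
      (ρ * x * ρ⁻¹ * x⁻¹) = d
    have : ρ * (ρ * (ρ * d * ρ⁻¹ * (ρ * x * ρ⁻¹ * x⁻¹)) * ρ⁻¹ * (ρ * x * ρ⁻¹ * x⁻¹)) * ρ⁻¹ *
      (ρ * x * ρ⁻¹ * x⁻¹) = ρ * ρ * ρ * (d * x) * (ρ * ρ * ρ)⁻¹ * x⁻¹ := by group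
    rw [this, h3]; group
  have h := Equiv.Perm.card_fixedPoints_modEq hf
  have h0 := two_mod hN
  rw [Nat.card_eq_fintype_card] at h0
  have : Fintype.card (Function.fixedPoints f) ≠ 0 := fun e => by
    rw [e] at h; exact h0 h
  obtain ⟨⟨d, hd⟩⟩ := Fintype.card_pos_iff.1 (Nat.pos_of_ne_zero this)
  refine ⟨d, d.2, ?_⟩
  have e : ρ * d * ρ⁻¹ * (ρ * x * ρ⁻¹ * x⁻¹) = d := congrArg Subtype.val hd
  calc ρ * (d * x) = ρ * d * ρ⁻¹ * (ρ * x * ρ⁻¹ * x⁻¹) * x * ρ := by group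
    _ = _ := by rw [e]

theorem abs_cent {K : Type*} [Group K] (σ : K →* K) (h : ∀ x, x * σ x * σ (σ x) = 1) {x w : K}
    (hc : x * w = w * x) : σ x * w = w * σ x := by
  have i2 : ∀ x, σ (σ x) = (x * σ x)⁻¹ := fun x => eq_inv_of_mul_eq_one_right (h x)
  have c1 : σ x * σ w = σ w * σ x := by rw [← map_mul, hc, map_mul]
  have c2 : σ (σ x) * σ (σ w) = σ (σ w) * σ (σ x) := by rw [← map_mul, c1, map_mul]
  have e := h (x * w)
  rw [map_mul, map_mul, hc, c2] at e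
  have e2 : w * (σ (σ x))⁻¹ * w⁻¹ * σ (σ x) = 1 := by
    rw [← e, i2 w, i2 x]; group
  have e3 : Commute w (σ (σ x))⁻¹ := comm_of_cj (eq_inv_of_mul_eq_one_left e2)
  have e4 : σ x = x⁻¹ * (σ (σ x))⁻¹ := by rw [i2 x]; group
  rw [e4]
  have a : Commute w x := hc.symm
  exact (a.inv_right.mul_right e3).symm

/-- `ρ` of order three acts without fixed points on `D / N`. -/
structure FP (D N : Subgroup G) (ρ : G) : Prop where
  h3 : ρ * ρ * ρ = 1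
  nD : Nm ρ D
  nN : Nm ρ N
  nn : ∀ d ∈ D, Nm d N
  fp : ∀ x ∈ D, ρ * x * ρ⁻¹ * x⁻¹ ∈ N → x ∈ N

theorem FP.of_fix {D N : Subgroup G} {ρ : G} (h3 : ρ * ρ * ρ = 1) (nD : Nm ρ D) (nN : Nm ρ N)
    (nn : ∀ d ∈ D, Nm d N) (hN : IsPGroup 2 N) (hND : N ≤ D) (hf : ∀ x ∈ D, ρ * x = x * ρ → x ∈ N) :
    FP D N ρ := by
  refine ⟨h3, nD, nN, nn, fun x hx h => ?_⟩
  obtain ⟨n, hn, e⟩ := exists_fix_coset hN h3 nN h
  exact (mul_mem_cancel_left hn).1 (hf _ (mul_mem (hND hn) hx) e)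

theorem FP.main {D N : Subgroup G} {ρ : G} (h : FP D N ρ) :
    (∀ x ∈ D, x * (ρ * x * ρ⁻¹) * (ρ * (ρ * x * ρ⁻¹) * ρ⁻¹) ∈ N) ∧
    ∀ x ∈ D, ∀ w ∈ D, x * w * x⁻¹ * w⁻¹ ∈ N → ρ * x * ρ⁻¹ * w * (ρ * x * ρ⁻¹)⁻¹ * w⁻¹ ∈ N := by
  have hn : (N.subgroupOf D).Normal := ⟨fun n hn g => by
    rw [mem_subgroupOf] at hn ⊢
    exact h.nn g g.2 n hn⟩
  let s : D →* D :=
    { toFun := fun d => ⟨ρ * d * ρ⁻¹, h.nD d d.2⟩
      map_one' := Subtype.ext (by simp)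
      map_mul' := fun a b => Subtype.ext (by simp [mul_assoc]) }
  let σ : D ⧸ N.subgroupOf D →* D ⧸ N.subgroupOf D := QuotientGroup.map _ _ s fun n hn => by
    rw [mem_comap, mem_subgroupOf]
    exact h.nN n hn
  have hs : ∀ d : D, σ (d : D ⧸ N.subgroupOf D) = (s d : D ⧸ N.subgroupOf D) := fun d => rfl
  have hfp : MonoidHom.FixedPointFree σ := by
    intro g hg
    obtain ⟨d, rfl⟩ := QuotientGroup.mk_surjective g
    rw [hs, ← mul_inv_eq_one, ← QuotientGroup.mk_inv, ← QuotientGroup.mk_mul, QuotientGroup.eq_one_iff,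
      mem_subgroupOf] at hg
    rw [QuotientGroup.eq_one_iff, mem_subgroupOf]
    exact h.fp d d.2 hg
  have h3 : σ^[3] = id := by
    funext g
    obtain ⟨d, rfl⟩ := QuotientGroup.mk_surjective g
    show σ (σ (σ _)) = _
    rw [hs, hs, hs]
    exact congrArg _ (Subtype.ext (cj3 h.h3 d))
  have hN : ∀ g, g * σ g * σ (σ g) = 1 := fun g => by
    have := hfp.prod_pow_eq_one h3 g
    simpa [List.range_succ, mul_assoc] using this
  refine ⟨fun x hx => ?_, fun x hx w hw hc => ?_⟩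
  · have := hN ((⟨x, hx⟩ : D) : D ⧸ N.subgroupOf D)
    rw [hs, hs, ← QuotientGroup.mk_mul, ← QuotientGroup.mk_mul, QuotientGroup.eq_one_iff, mem_subgroupOf] at this
    exact this
  · have key : ∀ a b : D, (a : D ⧸ N.subgroupOf D) * b = b * a ↔ (a * b * a⁻¹ * b⁻¹ : G) ∈ N := fun a b => by
      rw [← mul_inv_eq_one, mul_inv_rev, ← mul_assoc, ← QuotientGroup.mk_inv, ← QuotientGroup.mk_inv,
        ← QuotientGroup.mk_mul, ← QuotientGroup.mk_mul, ← QuotientGroup.mk_mul, QuotientGroup.eq_one_iff,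
        mem_subgroupOf]
      rfl
    have := abs_cent σ hN ((key ⟨x, hx⟩ ⟨w, hw⟩).2 hc)
    rw [hs] at this
    exact (key _ _).1 this

theorem FP.norm {D N : Subgroup G} {ρ : G} (h : FP D N ρ) {x : G} (hx : x ∈ D) :
    x * (ρ * x * ρ⁻¹) * (ρ * (ρ * x * ρ⁻¹) * ρ⁻¹) ∈ N := h.main.1 x hx

theorem FP.cent {D N : Subgroup G} {ρ : G} (h : FP D N ρ) {x w : G} (hx : x ∈ D) (hw : w ∈ D)
    (hc : x * w * x⁻¹ * w⁻¹ ∈ N) : ρ * x * ρ⁻¹ * w * (ρ * x * ρ⁻¹)⁻¹ * w⁻¹ ∈ N := h.main.2 x hx w hw hc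

/-- There is no invariant subgroup of index two above `N`. -/
theorem FP.le_of_le2 {D N : Subgroup G} {ρ : G} (h : FP D N ρ) {C : Subgroup G} (hC : Nm ρ C) (hN : N ≤ C)
    (h2 : Le2 C D) : D ≤ C := by
  intro x hx
  by_contra hx'
  have h1 : ρ * x * ρ⁻¹ ∉ C := fun e => hx' (hC.iff.1 e)
  have h2' : ρ * (ρ * x * ρ⁻¹) * ρ⁻¹ ∉ C := fun e => h1 (hC.iff.1 e)
  exact h2' ((mul_mem_cancel_left (h2 x hx _ (h.nD x hx) hx' h1)).1 (hN (h.norm hx)))

/-- The elements of `D` that commute with `w` modulo `N`. -/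
def Cm (D N : Subgroup G) (w : G) (nn : ∀ d ∈ D, Nm d N) : Subgroup G where
  carrier := {x | x ∈ D ∧ x * w * x⁻¹ * w⁻¹ ∈ N}
  one_mem' := ⟨one_mem _, by simp⟩
  mul_mem' := fun {a b} ha hb => ⟨mul_mem ha.1 hb.1, by
    have := mul_mem (nn a ha.1 _ hb.2) ha.2
    simpa [mul_assoc] using this⟩
  inv_mem' := fun {a} ha => ⟨inv_mem ha.1, by
    have := nn _ (inv_mem ha.1) _ (inv_mem ha.2)
    simpa [mul_assoc] using this⟩

/-- If `w` commutes modulo `N` with a subgroup of index at most two, it is central modulo `N`. -/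
theorem FP.comm_of_le2 {D N : Subgroup G} {ρ : G} (h : FP D N ρ) (hND : N ≤ D) {w : G} (hw : w ∈ D)
    {C : Subgroup G} (h2 : Le2 C D) (hC : ∀ x ∈ C, x ∈ D → x * w * x⁻¹ * w⁻¹ ∈ N) {x : G} (hx : x ∈ D) :
    x * w * x⁻¹ * w⁻¹ ∈ N := by
  refine (h.le_of_le2 (C := Cm D N w h.nn) (fun d hd => ⟨h.nD d hd.1, h.cent hd.1 hw hd.2⟩)
    (fun n hn => ⟨hND hn, ?_⟩) (h2.mono (fun c hc => ⟨hc.2, hC c hc.1 hc.2⟩) le_rfl) hx).2
  have := mul_mem hn (h.nn w hw _ (inv_mem hn))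
  simpa [mul_assoc] using this

theorem FP.comm_of_le2_bot {D : Subgroup G} {ρ : G} (h : FP D ⊥ ρ) {w : G} (hw : w ∈ D)
    (h2 : Le2 (Cn D w) D) {x : G} (hx : x ∈ D) : x * w = w * x := by
  have := h.comm_of_le2 bot_le hw h2 (fun x hx _ => by rw [(mem_Cn.1 hx).2]; simp) hx
  rw [mem_bot, mul_inv_eq_one] at this
  exact comm_of_cj this

/-- Elements of order three fix at most two elements of any 2-subgroup. -/
def Sm (G : Type*) [Group G] : Prop :=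
  ∀ ρ : G, ρ * ρ * ρ = 1 → ρ ≠ 1 → ∀ D : Subgroup G, IsPGroup 2 D → ∀ a ∈ D, ∀ b ∈ D,
    ρ * a = a * ρ → ρ * b = b * ρ → a ≠ 1 → b ≠ 1 → a = b

theorem Sm.fix (h : Sm G) {ρ : G} (h3 : ρ * ρ * ρ = 1) (h1 : ρ ≠ 1) {D : Subgroup G} (hD : IsPGroup 2 D)
    {v : G} (hv : v ∈ D) (v1 : v ≠ 1) (hc : ρ * v = v * ρ) {a : G} (ha : a ∈ D) (hac : ρ * a = a * ρ) :
    a = 1 ∨ a = v := by
  by_cases a1 : a = 1
  · exact .inl a1
  · exact .inr (h ρ h3 h1 D hD a ha v hv hac hc a1 v1)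

theorem Sm.mod_two (h : Sm G) {ρ : G} (h3 : ρ * ρ * ρ = 1) (h1 : ρ ≠ 1) {D : Subgroup G} (hD : IsPGroup 2 D)
    (hn : Nm ρ D) {v : G} (hv : v ∈ D) (v1 : v ≠ 1) (hc : ρ * v = v * ρ) : Nat.card D % 3 = 2 := by
  rw [card_mod3 h3 hn]
  have : Nat.card (Cn D ρ) = 2 := by
    rw [Nat.card_eq_two_iff' (1 : Cn D ρ)]
    refine ⟨⟨v, mem_Cn.2 ⟨hv, hc.symm⟩⟩, fun e => v1 (congrArg Subtype.val e), fun a ha => Subtype.ext ?_⟩
    exact (h.fix h3 h1 hD hv v1 hc (mem_Cn.1 a.2).1 (mem_Cn.1 a.2).2.symm).resolve_left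
      fun e => ha (Subtype.ext e)
  rw [this]

theorem mod_one {ρ : G} (h3 : ρ * ρ * ρ = 1) {D : Subgroup G} (hn : Nm ρ D)
    (hf : ∀ a ∈ D, ρ * a = a * ρ → a = 1) : Nat.card D % 3 = 1 := by
  rw [card_mod3 h3 hn]
  have : Cn D ρ = ⊥ := eq_bot_iff.2 fun a ha => mem_bot.2 (hf a (mem_Cn.1 ha).1 (mem_Cn.1 ha).2.symm)
  rw [this, card_bot]

theorem Sm.fp_bot (h : Sm G) {ρ : G} (h3 : ρ * ρ * ρ = 1) (h1 : ρ ≠ 1) {D : Subgroup G} (hD : IsPGroup 2 D)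
    (hn : Nm ρ D) (hm : Nat.card D % 3 = 1) : FP D ⊥ ρ := by
  refine FP.of_fix h3 hn (fun d hd => by simp [mem_bot.1 hd]) (fun _ _ d hd => by simp [mem_bot.1 hd])
    (IsPGroup.of_bot) bot_le fun x hx hc => mem_bot.2 ?_
  by_contra x1
  have := h.mod_two h3 h1 hD hn hx x1 hc
  omega

theorem exists_fix {ρ : G} (h3 : ρ * ρ * ρ = 1) {D : Subgroup G} (hn : Nm ρ D) (hm : Nat.card D % 3 = 2) :
    ∃ v ∈ D, v ≠ 1 ∧ ρ * v = v * ρ := by
  by_contra hh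
  push Not at hh
  have := mod_one h3 hn fun a ha hc => by
    by_contra a1
    exact hh a ha a1 hc
  omega

theorem card_le2 {A B : Subgroup G} (h : Le2 A B) (hA : A ≤ B) (hn : ¬ B ≤ A) : Nat.card B = 2 * Nat.card A := by
  rw [h.card_eq hn, inf_eq_left.2 hA]

/-- An element commuting with two different involutions that commute has order prime to three. -/
theorem Sm.not_dvd (h : Sm G) {a b g : G} (a2 : a * a = 1) (b2 : b * b = 1) (a1 : a ≠ 1) (b1 : b ≠ 1) (ab : a ≠ b)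
    (hc : a * b = b * a) (ga : g * a = a * g) (gb : g * b = b * g) : ¬ 3 ∣ orderOf g := by
  intro hd
  have : Fact (Nat.Prime 2) := ⟨Nat.prime_two⟩
  have ho := orderOf_pow_orderOf_div (orderOf_pos g).ne' hd
  set ρ := g ^ (orderOf g / 3) with hρ
  have h3 : ρ * ρ * ρ = 1 := by rw [← pow_three', ← ho, pow_orderOf_eq_one]
  have h1 : ρ ≠ 1 := fun e => by rw [e, orderOf_one] at ho; omega
  have pa : IsPGroup 2 (zpowers a) := IsPGroup.of_card (n := 1) (by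
    rw [Nat.card_zpowers, ord2 a2 a1]; rfl)
  have pb : IsPGroup 2 (zpowers b) := IsPGroup.of_card (n := 1) (by
    rw [Nat.card_zpowers, ord2 b2 b1]; rfl)
  have hn : zpowers a ≤ normalizer (zpowers b : Set G) := by
    rw [zpowers_le]
    refine Nm.norm fun d hd => ?_
    obtain ⟨k, rfl⟩ := hd
    rw [cj_eq ((show Commute a b from hc).zpow_right k)]
    exact ⟨k, rfl⟩
  exact ab (h ρ h3 h1 _ (pa.to_sup_of_normal_right' pb hn) a (mem_sup_left (mem_zpowers a)) b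
    (mem_sup_right (mem_zpowers b)) ((show Commute g a from ga).pow_left _) ((show Commute g b from gb).pow_left _)
    a1 b1)

end H50.SC6
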