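import Mathlib
import Cfsg.Agent.Lib.SC6.Basic

/-! One class of involutions and a self-centralising element of order six. -/

set_option autoImplicit false
set_option linter.unusedSectionVars false
set_option linter.unusedVariables false

namespace H50.SC6

open Subgroup H70

variable {G : Type*} [Group G] [Finite G]

/-- The common centraliser of `v` and `ρ` is generated by them. -/
def Six (v ρ : G) : Prop := ∀ g : G, g * v = v * g → g * ρ = ρ * g → ∃ k : ℕ, g = ρ ^ k ∨ g = v * ρ ^ k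

theorem Six.cj {v ρ : G} (h : Six v ρ) (a : G) : Six (a * v * a⁻¹) (a * ρ * a⁻¹) := by
  intro g h1 h2
  obtain ⟨k, hk⟩ := h (a⁻¹ * g * a) (by
    calc a⁻¹ * g * a * v = a⁻¹ * (g * (a * v * a⁻¹)) * a := by group
      _ = _ := by rw [h1]; group) (by
    calc a⁻¹ * g * a * ρ = a⁻¹ * (g * (a * ρ * a⁻¹)) * a := by group
      _ = _ := by rw [h2]; group)
  refine ⟨k, hk.imp (fun e => ?_) fun e => ?_⟩
  · rw [conj_pow, ← e]; group
  · rw [conj_pow]
    calc g = a * (a⁻¹ * g * a) * a⁻¹ := by group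
      _ = _ := by rw [e]; group

theorem sq_sq {ρ : G} (h3 : ρ * ρ * ρ = 1) : ρ * ρ * (ρ * ρ) = ρ := by
  rw [← mul_assoc, h3, one_mul]

theorem Six.sq {v ρ : G} (h : Six v ρ) (h3 : ρ * ρ * ρ = 1) : Six v (ρ * ρ) := by
  intro g h1 h2
  have e : ρ = (ρ * ρ) ^ 2 := by rw [pow_two, sq_sq h3]
  obtain ⟨k, hk⟩ := h g h1 (by rw [e]; exact (show Commute g (ρ * ρ) from h2).pow_right 2)
  refine ⟨2 * k, ?_⟩
  rw [pow_mul, ← e]
  exact hk

theorem pow_cases {ρ : G} (h3 : ρ * ρ * ρ = 1) (k : ℕ) : ρ ^ k = 1 ∨ ρ ^ k = ρ ∨ ρ ^ k = ρ * ρ := by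
  induction k with
  | zero => simp
  | succ k ih =>
    rw [pow_succ]
    rcases ih with e | e | e <;> rw [e]
    · simp
    · simp
    · exact .inl h3

theorem eq_one_of_two_three {a : G} {k : ℕ} (h2 : a ^ 2 ^ k = 1) (h3 : a * a * a = 1) : a = 1 := by
  have a1 := orderOf_dvd_of_pow_eq_one h2
  have a2 : orderOf a ∣ 3 := orderOf_dvd_of_pow_eq_one (by rw [pow_three', h3])
  exact orderOf_eq_one_iff.1 (Nat.eq_one_of_dvd_coprimes (Nat.Coprime.pow_left k (by norm_num)) a1 a2)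

theorem pow3 {ρ : G} (h3 : ρ * ρ * ρ = 1) (k : ℕ) : ρ ^ k * ρ ^ k * ρ ^ k = 1 := by
  rw [← pow_three', ← pow_mul, mul_comm, pow_mul, pow_three', h3, one_pow]

theorem Six.two {v ρ : G} (h : Six v ρ) (v2 : v * v = 1) (h3 : ρ * ρ * ρ = 1) (hc : ρ * v = v * ρ) {g : G}
    (h1 : g * v = v * g) (h2 : g * ρ = ρ * g) {n : ℕ} (hn : g ^ 2 ^ n = 1) : g = 1 ∨ g = v := by
  obtain ⟨k, e | e⟩ := h g h1 h2
  · exact .inl (eq_one_of_two_three hn (e ▸ pow3 h3 k))
  · refine .inr ?_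
    have c : Commute v (ρ ^ k) := (show Commute v ρ from hc.symm).pow_right k
    have : ρ ^ k = 1 := eq_one_of_two_three (k := n + 1) (by
      have e2 : ρ ^ k = v * g := by rw [e, ← mul_assoc, v2, one_mul]
      rw [e2, (show Commute v g from h1.symm).mul_pow, pow_succ, pow_mul g, hn, pow_mul', pow_two v, v2]
      simp) (pow3 h3 k)
    rw [e, this, mul_one]

theorem Six.three {v ρ : G} (h : Six v ρ) (v2 : v * v = 1) (v1 : v ≠ 1) (h3 : ρ * ρ * ρ = 1) (hc : ρ * v = v * ρ)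
    {g : G} (h1 : g * v = v * g) (h2 : g * ρ = ρ * g) (ho : Odd (orderOf g)) : g = 1 ∨ g = ρ ∨ g = ρ * ρ := by
  obtain ⟨k, e | e⟩ := h g h1 h2
  · rw [e]; exact pow_cases h3 k
  · exfalso
    have c : Commute v (ρ ^ k) := (show Commute v ρ from hc.symm).pow_right k
    have e3 : g ^ 3 = v := by
      rw [e, c.mul_pow, pow_three' (ρ ^ k), pow3 h3, pow_three', v2]; simp
    have : orderOf v ∣ orderOf g := e3 ▸ orderOf_pow_dvd 3
    rw [ord2 v2 v1] at this
    exact (Nat.not_even_iff_odd.2 ho) (even_iff_two_dvd.2 this)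

/-- One class of involutions; elements of order six are self-centralising. -/
structure Gl (G : Type*) [Group G] : Prop where
  conj : ∀ a b : G, a * a = 1 → a ≠ 1 → b * b = 1 → b ≠ 1 → ∃ g, g * a * g⁻¹ = b
  six : ∀ v ρ : G, v * v = 1 → v ≠ 1 → ρ * ρ * ρ = 1 → ρ ≠ 1 → ρ * v = v * ρ → Six v ρ

theorem odd_of_three {P : Subgroup G} (hP : IsPGroup 3 P) {g : G} (hg : g ∈ P) : Odd (orderOf g) := by
  have : Fact (Nat.Prime 3) := ⟨Nat.prime_three⟩
  obtain ⟨k, hk⟩ := IsPGroup.iff_orderOf.1 hP ⟨g, hg⟩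
  rw [← Subgroup.orderOf_coe] at hk
  rw [show orderOf g = 3 ^ k from hk]
  exact Odd.pow (by decide)

theorem ord3 {ρ : G} (h3 : ρ * ρ * ρ = 1) (h1 : ρ ≠ 1) : orderOf ρ = 3 :=
  have : Fact (Nat.Prime 3) := ⟨Nat.prime_three⟩
  orderOf_eq_prime (by rw [pow_three', h3]) h1

theorem pg3 {ρ : G} (h3 : ρ * ρ * ρ = 1) (h1 : ρ ≠ 1) : IsPGroup 3 (zpowers ρ) :=
  IsPGroup.of_card (n := 1) (by rw [Nat.card_zpowers, ord3 h3 h1]; rfl)

theorem Six.sylow {v y : G} (h : Six v y) (v2 : v * v = 1) (v1 : v ≠ 1) (h3 : y * y * y = 1) (y1 : y ≠ 1)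
    (hc : y * v = v * y) {Q : Subgroup G} (hQ : IsPGroup 3 Q) (hQv : ∀ g ∈ Q, g * v = v * g) (hy : y ∈ Q) {g : G}
    (hg : g ∈ Q) : g = 1 ∨ g = y ∨ g = y * y := by
  have : Fact (Nat.Prime 3) := ⟨Nat.prime_three⟩
  obtain ⟨z, hz, z1, hzc⟩ := H72.exists_mem_center_of_normal hQ le_rfl (fun g hg => Nm.of_mem hg)
    (fun e => y1 (by rw [e] at hy; exact hy))
  refine h.three v2 v1 h3 hc (hQv g hg) ?_ (odd_of_three hQ hg)
  rcases h.three v2 v1 h3 hc (hQv z hz) (hzc y hy).symm (odd_of_three hQ hz) with e | e | e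
  · exact absurd e z1
  · rw [← e]; exact hzc g hg
  · have c : Commute g (y * y) := e ▸ hzc g hg
    have := c.mul_right c
    rwa [sq_sq h3] at this

theorem gl_of (h1 : ∀ x y : G, orderOf x = 2 → orderOf y = 2 → IsConj x y) {x : G} (hx : orderOf x = 6)
    (hC : centralizer ({x} : Set G) = zpowers x) :
    Gl G ∧ ∃ t y : G, t * t = 1 ∧ t ≠ 1 ∧ y * y * y = 1 ∧ y ≠ 1 ∧ y * t = t * y := by
  have : Fact (Nat.Prime 3) := ⟨Nat.prime_three⟩
  have x6 : x ^ 6 = 1 := hx ▸ pow_orderOf_eq_one x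
  have t2 : x ^ 3 * x ^ 3 = 1 := by rw [← pow_add, x6]
  have y3 : x ^ 2 * x ^ 2 * x ^ 2 = 1 := by rw [← pow_add, ← pow_add, x6]
  have t1 : x ^ 3 ≠ 1 := fun e => by have := orderOf_dvd_of_pow_eq_one e; rw [hx] at this; omega
  have y1 : x ^ 2 ≠ 1 := fun e => by have := orderOf_dvd_of_pow_eq_one e; rw [hx] at this; omega
  have yt : x ^ 2 * x ^ 3 = x ^ 3 * x ^ 2 := by rw [← pow_add, ← pow_add]
  have cj : ∀ a b : G, a * a = 1 → a ≠ 1 → b * b = 1 → b ≠ 1 → ∃ g, g * a * g⁻¹ = b := fun a b a2 a1 b2 b1 =>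
    isConj_iff.1 (h1 a b (ord2 a2 a1) (ord2 b2 b1))
  have s0 : Six (x ^ 3) (x ^ 2) := by
    intro g h1 h2
    have e : x = x ^ 3 * (x ^ 2 * x ^ 2) := by
      rw [← pow_add, ← pow_add, show 3 + (2 + 2) = 6 + 1 by norm_num, pow_succ, x6, one_mul]
    have c : Commute g x := by
      rw [e]; exact (show Commute g _ from h1).mul_right ((show Commute g _ from h2).mul_right h2)
    have : g ∈ zpowers x := hC ▸ mem_centralizer_iff.2 (by simpa using c.symm.eq)
    obtain ⟨k, rfl⟩ := (mem_powers_iff_mem_zpowers ..).2 this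
    rcases Nat.even_or_odd' k with ⟨j, rfl | rfl⟩
    · exact ⟨j, .inl (pow_mul x 2 j)⟩
    · refine ⟨j + 2, .inr ?_⟩
      show x ^ (2 * j + 1) = _
      rw [← pow_mul, ← pow_add, show 3 + 2 * (j + 2) = 2 * j + 1 + 6 by ring, pow_add x _ 6, x6, mul_one]
  refine ⟨⟨cj, fun v ρ v2 v1 h3 ρ1 hc => ?_⟩, _, _, t2, t1, y3, y1, yt⟩
  obtain ⟨a, ha⟩ := cj v _ v2 v1 t2 t1
  have r3 : a * ρ * a⁻¹ * (a * ρ * a⁻¹) * (a * ρ * a⁻¹) = 1 := by
    calc _ = a * (ρ * ρ * ρ) * a⁻¹ := by group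
      _ = 1 := by rw [h3]; group
  have r1 := cj_ne_one ρ1 a
  obtain ⟨b, hb, Q, hQ, hQH, hyQ, hρ⟩ := H72.exists_conj_pgroup (H := centralizer {x ^ 3}) (pg3 r3 r1) (pg3 y3 y1)
    (zpowers_le.2 (mem_centralizer_singleton_iff.2 (ha ▸ comm_cj hc a)))
    (zpowers_le.2 (mem_centralizer_singleton_iff.2 yt))
  have hb' : b * x ^ 3 * b⁻¹ = x ^ 3 := cj_eq (mem_centralizer_singleton_iff.1 hb)
  have key : Six (x ^ 3) (b * (a * ρ * a⁻¹) * b⁻¹) := by
    rcases s0.sylow t2 t1 y3 y1 yt hQ (fun g hg => mem_centralizer_singleton_iff.1 (hQH hg))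
      (hyQ (mem_zpowers _)) (hρ _ (mem_zpowers _)) with e | e | e
    · exact absurd e (cj_ne_one r1 b)
    · rw [e]; exact s0
    · rw [e]; exact s0.sq y3
  have := key.cj (b * a)⁻¹
  rw [← hb', ← ha] at this
  simpa [mul_assoc] using this

theorem exists_pow_two {D : Subgroup G} (hD : IsPGroup 2 D) {a : G} (ha : a ∈ D) : ∃ k : ℕ, a ^ 2 ^ k = 1 := by
  obtain ⟨k, hk⟩ := hD ⟨a, ha⟩
  exact ⟨k, congrArg Subtype.val hk⟩

theorem exists_inv_cent {P W : Subgroup G} (hP : IsPGroup 2 P) (hWP : W ≤ P) (hn : ∀ g ∈ P, Nm g W) (hW : W ≠ ⊥) :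
    ∃ z ∈ W, z * z = 1 ∧ z ≠ 1 ∧ ∀ g ∈ P, g * z = z * g := by
  have : Fact (Nat.Prime 2) := ⟨Nat.prime_two⟩
  obtain ⟨z, hz, hc, ho⟩ := H5.exists_mem_centralizer_orderOf_eq hP hWP (fun g hg => (hn g hg).norm) hW
  exact ⟨z, hz, mul_self_of_ord2 ho, ne_one_of_ord2 ho, fun g hg => mem_centralizer_iff.1 hc g hg⟩

theorem Gl.sm (h : Gl G) : Sm G := by
  intro ρ h3 h1 D hD a ha b hb ca cb a1 b1
  have hC : IsPGroup 2 (Cn D ρ) := hD.to_le Cn_le
  have ma : a ∈ Cn D ρ := mem_Cn.2 ⟨ha, ca.symm⟩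
  have mb : b ∈ Cn D ρ := mem_Cn.2 ⟨hb, cb.symm⟩
  obtain ⟨v, hv, v2, v1, hc⟩ := exists_inv_cent hC le_rfl (fun g hg => Nm.of_mem hg)
    (fun e => a1 (by rw [e] at ma; exact ma))
  have s := h.six v ρ v2 v1 h3 h1 (mem_Cn.1 hv).2.symm
  obtain ⟨k, hk⟩ := exists_pow_two hD ha
  obtain ⟨l, hl⟩ := exists_pow_two hD hb
  rw [(s.two v2 h3 (mem_Cn.1 hv).2.symm (hc a ma) ca.symm hk).resolve_left a1,
    (s.two v2 h3 (mem_Cn.1 hv).2.symm (hc b mb) cb.symm hl).resolve_left b1]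

theorem Gl.card_three (h : Gl G) {v : G} (v2 : v * v = 1) (v1 : v ≠ 1) {P : Subgroup G} (hP : IsPGroup 3 P)
    (hv : ∀ g ∈ P, g * v = v * g) : Nat.card P ≤ 3 := by
  have : Fact (Nat.Prime 3) := ⟨Nat.prime_three⟩
  by_cases hb : P = ⊥
  · simp [hb]
  obtain ⟨z, hz, -, ho⟩ := H5.exists_mem_centralizer_orderOf_eq hP le_rfl le_normalizer hb
  have z3 : z * z * z = 1 := by rw [← pow_three', ← ho, pow_orderOf_eq_one]
  have z1 : z ≠ 1 := fun e => by rw [e, orderOf_one] at ho; omega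
  have : P ≤ zpowers z := fun g hg => by
    rcases (h.six v z v2 v1 z3 z1 (hv z hz)).sylow v2 v1 z3 z1 (hv z hz) hP hv hz hg with e | e | e <;> rw [e]
    · exact one_mem _
    · exact mem_zpowers z
    · exact mul_mem (mem_zpowers z) (mem_zpowers z)
  have := card_le_of_le this
  rwa [Nat.card_zpowers, ho] at this

/-- `t` is the only involution of the centre of `P`. -/
def Uq (P : Subgroup G) (t : G) : Prop := ∀ z ∈ P, z * z = 1 → (∀ g ∈ P, g * z = z * g) → z = 1 ∨ z = t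

/-- The central involutions of `E` lie in the four-group generated by `t` and `s`. -/
def Om (E : Subgroup G) (t s : G) : Prop :=
  ∀ z ∈ E, z * z = 1 → (∀ g ∈ E, g * z = z * g) → z = 1 ∨ z = t ∨ z = s ∨ z = s * t

theorem cj_cases {P E : Subgroup G} {t τ : G} (hU : Uq P t) (hE : E ≤ P) (h2 : Le2 E P) (hτ : τ ∈ P) (hτE : τ ∉ E)
    {z : G} (hz : z ∈ E) (z2 : z * z = 1) (zc : ∀ g ∈ E, g * z = z * g) :
    (τ * z * τ⁻¹ = z ∧ (z = 1 ∨ z = t)) ∨ τ * z * τ⁻¹ = z * t := by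
  have nE : ∀ g ∈ P, Nm g E := fun g hg d hd => by
    have := h2.comm_self (commutator_mem_commutator hg (hE hd))
    simpa [commutatorElement_def] using mul_mem this hd
  have all : ∀ a : G, (∀ g ∈ E, g * a = a * g) → τ * a = a * τ → ∀ g ∈ P, g * a = a * g := fun a h1 h2' g hg => by
    by_cases hgE : g ∈ E
    · exact h1 g hgE
    · have := h1 _ (h2.inv_mul hτ hg hτE hgE)
      calc g * a = τ * (τ⁻¹ * g * a) := by group
        _ = τ * a * (τ⁻¹ * g) := by rw [this]; group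
        _ = a * g := by rw [h2']; group
  have m1 := nE τ hτ z hz
  have c1 : ∀ g ∈ E, g * (τ * z * τ⁻¹) = τ * z * τ⁻¹ * g := fun g hg => by
    have := comm_cj (zc _ ((nE τ hτ).inv g hg)) τ
    simpa [mul_assoc] using this
  have hh := hU (z * (τ * z * τ⁻¹)) (hE (mul_mem hz m1)) (by
    rw [mul_assoc z, ← mul_assoc (τ * z * τ⁻¹) z, ← c1 z hz, mul_assoc z, sq_cj z2, mul_one, z2])
    (all _ (fun g hg => by rw [← mul_assoc, zc g hg, mul_assoc, c1 g hg, mul_assoc z]) (by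
      have := zc _ (h2.sq_mem hτ)
      calc τ * (z * (τ * z * τ⁻¹)) = τ * z * τ⁻¹ * (τ * τ * z) * τ⁻¹ := by group
        _ = τ * z * τ⁻¹ * z * τ := by rw [this]; group
        _ = _ := by rw [← c1 z hz]))
  rcases hh with e | e
  · have e' : τ * z * τ⁻¹ = z := by rw [eq_inv_of_mul_eq_one_right e, inv_self z2]
    exact .inl ⟨e', hU z (hE hz) z2 (all z zc (comm_of_cj e'))⟩
  · exact .inr (by rw [← e, ← mul_assoc, z2, one_mul])

theorem om_of {P E : Subgroup G} {t s : G} (hU : Uq P t) (t2 : t * t = 1) (tc : ∀ g ∈ P, g * t = t * g) (hE : E ≤ P)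
    (h2 : Le2 E P) (hn : ¬ P ≤ E) (hs : s ∈ E) (s2 : s * s = 1) (sc : ∀ g ∈ E, g * s = s * g) (s1 : s ≠ 1)
    (st : s ≠ t) : Om E t s := by
  obtain ⟨τ, hτ, hτE⟩ := exists_not_mem_of_not_le hn
  have es : τ * s * τ⁻¹ = s * t := by
    rcases cj_cases hU hE h2 hτ hτE hs s2 sc with ⟨-, e | e⟩ | e
    exacts [absurd e s1, absurd e st, e]
  intro z hz z2 zc
  rcases cj_cases hU hE h2 hτ hτE hz z2 zc with ⟨-, e | e⟩ | e
  · exact .inl e
  · exact .inr (.inl e)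
  have zs := zc s hs
  rcases cj_cases hU hE h2 hτ hτE (mul_mem hs hz) (by
      rw [mul_assoc, ← mul_assoc z, ← zs, mul_assoc s, z2, mul_one, s2])
      (fun g hg => by rw [← mul_assoc, sc g hg, mul_assoc, zc g hg, mul_assoc]) with ⟨-, e' | e'⟩ | e'
  · exact .inr (.inr (.inl (by rw [← inv_self s2, eq_inv_of_mul_eq_one_right e'])))
  · exact .inr (.inr (.inr (by rw [← e', ← mul_assoc, s2, one_mul])))
  · have : τ * (s * z) * τ⁻¹ = s * z := by
      calc _ = τ * s * τ⁻¹ * (τ * z * τ⁻¹) := by group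
        _ = s * (t * z) * t := by rw [es, e]; group
        _ = _ := by rw [← tc z (hE hz), mul_assoc, mul_assoc, t2, mul_one]
    rw [this] at e'
    have t1 : t = 1 := by simpa using e'
    rw [t1, mul_one] at es
    rcases cj_cases hU hE h2 hτ hτE hs s2 sc with ⟨-, e | e⟩ | e
    · exact absurd e s1
    · exact absurd e st
    · have := hU s (hE hs) s2 fun g hg => by
        by_cases hgE : g ∈ E
        · exact sc g hgE
        · have := sc _ (h2.inv_mul hτ hg hτE hgE)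
          calc g * s = τ * (τ⁻¹ * g * s) := by group
            _ = τ * s * (τ⁻¹ * g) := by rw [this]; group
            _ = s * g := by rw [comm_of_cj es]; group
      exact (this.elim s1 st).elim

theorem exists_over (T : Sylow 2 G) {C E : Subgroup G} (hT : (T : Subgroup G) ≤ C) (hE : IsPGroup 2 E) (hEC : E ≤ C) :
    ∃ S : Subgroup G, IsPGroup 2 S ∧ E ≤ S ∧ S ≤ C ∧ Nat.card S = Nat.card T := by
  have : Fact (Nat.Prime 2) := ⟨Nat.prime_two⟩
  obtain ⟨h, hh, he⟩ := H72.exists_conj_mem_sylow_of_le T hT hE hEC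
  refine ⟨_, H72.isPGroup_map_conj T.isPGroup' h⁻¹, fun e hE => H72.mem_map_conj.2 (by simpa using he e hE),
    fun g hg => ?_, H72.card_map_conj _ _⟩
  have := mul_mem (mul_mem (inv_mem hh) (hT (H72.mem_map_conj.1 hg))) hh
  simpa [mul_assoc] using this

theorem exists_over' (h : Gl G) (T : Sylow 2 G) {t s : G} (t2 : t * t = 1) (t1 : t ≠ 1) (tc : ∀ g ∈ (T : Subgroup G), g * t = t * g)
    (s2 : s * s = 1) (s1 : s ≠ 1) {E : Subgroup G} (hE : IsPGroup 2 E) (sc : ∀ g ∈ E, g * s = s * g) :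
    ∃ S : Subgroup G, IsPGroup 2 S ∧ E ≤ S ∧ (∀ g ∈ S, g * s = s * g) ∧ Nat.card S = Nat.card T := by
  obtain ⟨k, hk⟩ := h.conj t s t2 t1 s2 s1
  obtain ⟨S, h1, h2, h3, h4⟩ := exists_over (k • T) (C := centralizer {s}) (fun g hg => by
    have := comm_cj (tc _ (H72.mem_smul_sylow.1 hg)) k
    rw [hk] at this
    exact mem_centralizer_singleton_iff.2 (by simpa [mul_assoc] using this)) hE
    fun g hg => mem_centralizer_singleton_iff.2 (sc g hg)
  refine ⟨S, h1, h2, fun g hg => mem_centralizer_singleton_iff.1 (h3 hg), h4.trans ?_⟩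
  exact (Nat.card_congr (Sylow.equivSMul T k).toEquiv).symm

/-- An element of order three that permutes the involutions of a four-group. -/
theorem exists_r (h : Gl G) (T : Sylow 2 G) {t s τ : G} (t2 : t * t = 1) (t1 : t ≠ 1) (tc : ∀ g ∈ (T : Subgroup G), g * t = t * g)
    (s2 : s * s = 1) (s1 : s ≠ 1) (st : s ≠ t) {E : Subgroup G} (hE : IsPGroup 2 E) (ht : t ∈ E) (hs : s ∈ E)
    (tE : ∀ g ∈ E, g * t = t * g) (sE : ∀ g ∈ E, g * s = s * g) (om : Om E t s) (hlt : Nat.card E < Nat.card T)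
    (hmax : ∀ S : Subgroup G, IsPGroup 2 S → E ≤ S → (∀ g ∈ S, g * t = t * g) → (∀ g ∈ S, g * s = s * g) → S ≤ E)
    (nτ : Nm τ E) (τt : τ * t = t * τ) (τs : τ * s * τ⁻¹ = s * t) :
    ∃ r : G, r * r * r = 1 ∧ Nm r E ∧ r * t * r⁻¹ = s ∧ r * s * r⁻¹ = s * t := by
  have : Fact (Nat.Prime 2) := ⟨Nat.prime_two⟩
  obtain ⟨S, hS, hES, sS, hc⟩ := exists_over' h T t2 t1 tc s2 s1 hE sE
  obtain ⟨u, huS, huE, hu⟩ := H72.exists_mem_normalizer_not_mem hS
    (lt_of_le_of_ne hES fun e => by rw [e, hc] at hlt; omega)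
  have nu : Nm u E := .of_norm hu
  have us : u * s * u⁻¹ = s := cj_eq (sS u huS)
  have ut : u * t * u⁻¹ = s * t := by
    rcases om _ (nu t ht) (sq_cj t2 u) (fun g hg => by
      have := comm_cj (tE _ (nu.inv g hg)) u
      simpa [mul_assoc] using this) with e | e | e | e
    · exact absurd e (cj_ne_one t1 u)
    · exact absurd (hmax (Cn S t) (hS.to_le Cn_le) (fun g hg => mem_Cn.2 ⟨hES hg, tE g hg⟩)
        (fun g hg => (mem_Cn.1 hg).2) (fun g hg => sS g (mem_Cn.1 hg).1) (mem_Cn.2 ⟨huS, comm_of_cj e⟩)) huE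
    · exact absurd (e.trans us.symm) (cj_ne st.symm u)
    · exact e
  have gt : τ * u * t * (τ * u)⁻¹ = s := by
    calc _ = τ * (u * t * u⁻¹) * τ⁻¹ := by group
      _ = τ * s * τ⁻¹ * (τ * t * τ⁻¹) := by rw [ut]; group
      _ = s := by rw [τs, cj_eq τt, mul_assoc, t2, mul_one]
  have gs : τ * u * s * (τ * u)⁻¹ = s * t := by
    calc _ = τ * (u * s * u⁻¹) * τ⁻¹ := by group
      _ = _ := by rw [us, τs]
  have ng := nτ.mul nu
  generalize τ * u = g at gt gs ng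
  have ts := tE s hs
  have gst : g * (s * t) * g⁻¹ = t := by
    calc _ = g * s * g⁻¹ * (g * t * g⁻¹) := by group
      _ = t := by rw [gs, gt, ts, mul_assoc, s2, mul_one]
  have c3t : g * g * g * t = t * (g * g * g) := comm_of_cj (by
    calc _ = g * (g * (g * t * g⁻¹) * g⁻¹) * g⁻¹ := by group
      _ = t := by rw [gt, gs, gst])
  have c3s : g * g * g * s = s * (g * g * g) := comm_of_cj (by
    calc _ = g * (g * (g * s * g⁻¹) * g⁻¹) * g⁻¹ := by group
      _ = s := by rw [gs, gst, gt])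
  have nd := h.sm.not_dvd t2 s2 t1 s1 st.symm ts.symm c3t c3s
  set m := orderOf (g * g * g) with hm
  obtain ⟨k, hk⟩ : ∃ k, m * m = 3 * k + 1 := by
    refine ⟨m * m / 3, ?_⟩
    have : m % 3 = 1 ∨ m % 3 = 2 := by omega
    have : m * m % 3 = 1 := by rcases this with e | e <;> rw [Nat.mul_mod, e]
    omega
  have er : g ^ (m * m) = g * (g * g * g) ^ k := by rw [hk, pow_succ', pow_mul, pow_three']
  refine ⟨g ^ (m * m), ?_, ng.pow _, ?_, ?_⟩
  · rw [← pow_three', ← pow_mul, mul_comm, pow_mul, pow_three', pow_mul, hm, pow_orderOf_eq_one, one_pow]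
  · rw [er, mul_inv_rev, ← gt]
    have := cj_eq ((show Commute _ _ from c3t).pow_left k)
    calc _ = g * ((g * g * g) ^ k * t * ((g * g * g) ^ k)⁻¹) * g⁻¹ := by group
      _ = _ := by rw [this]
  · rw [er, mul_inv_rev, ← gs]
    have := cj_eq ((show Commute _ _ from c3s).pow_left k)
    calc _ = g * ((g * g * g) ^ k * s * ((g * g * g) ^ k)⁻¹) * g⁻¹ := by group
      _ = _ := by rw [this]

/-- `t` is an involution of the centre of the Sylow 2-subgroup `T`. -/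
structure Ce (T : Sylow 2 G) (t : G) : Prop where
  tT : t ∈ (T : Subgroup G)
  t2 : t * t = 1
  t1 : t ≠ 1
  tc : ∀ g ∈ (T : Subgroup G), g * t = t * g

theorem Ce.fuse (h : Gl G) {T : Sylow 2 G} {t z : G} (c : Ce T t) (d : Ce T z) :
    ∃ k, Nm k T ∧ k * t * k⁻¹ = z := by
  have : Fact (Nat.Prime 2) := ⟨Nat.prime_two⟩
  obtain ⟨g, hg⟩ := h.conj t z c.t2 c.t1 d.t2 d.t1
  obtain ⟨n, hn, e⟩ := T.conj_eq_normalizer_conj_of_mem_centralizer t g⁻¹ (mem_centralizer_iff.2 c.tc)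
    (by rw [inv_inv, hg]; exact mem_centralizer_iff.2 d.tc)
  exact ⟨n⁻¹, .of_norm (inv_mem hn), by rw [inv_inv, ← e, inv_inv, hg]⟩

/-- A normal four-subgroup `{1, t, s, s t}` of `T`. -/
structure Nf (T : Subgroup G) (t s : G) : Prop where
  sT : s ∈ T
  s2 : s * s = 1
  s1 : s ≠ 1
  st : s ≠ t
  cj : ∀ g ∈ T, g * s * g⁻¹ = s ∨ g * s * g⁻¹ = s * t

theorem le2_Cn {P : Subgroup G} {t s : G} (t2 : t * t = 1) (tc : ∀ g ∈ P, g * t = t * g)
    (h : ∀ g ∈ P, g * s * g⁻¹ = s ∨ g * s * g⁻¹ = s * t) : Le2 (Cn P s) P := by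
  intro a ha b hb h1 h2
  have e1 := (h a ha).resolve_left fun e => h1 (mem_Cn.2 ⟨ha, comm_of_cj e⟩)
  have e2 := (h b hb).resolve_left fun e => h2 (mem_Cn.2 ⟨hb, comm_of_cj e⟩)
  refine mem_Cn.2 ⟨mul_mem ha hb, comm_of_cj ?_⟩
  calc _ = a * (b * s * b⁻¹) * a⁻¹ := by group
    _ = a * s * a⁻¹ * (a * t * a⁻¹) := by rw [e2]; group
    _ = s := by rw [e1, cj_eq (tc a ha), mul_assoc, t2, mul_one]

theorem exists_nf {T : Sylow 2 G} {t : G} (c : Ce T t) (hU : Uq T t) (hr : ¬ Cfsg.PRankLE 2 2 G) :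
    ∃ s, Nf T t s := by
  have : Fact (Nat.Prime 2) := ⟨Nat.prime_two⟩
  simp only [Cfsg.PRankLE, not_forall, not_le] at hr
  obtain ⟨A, hA, hA2, hc⟩ := hr
  have pA : IsPGroup 2 A := fun a => ⟨1, Subtype.ext (by simpa using hA2 a a.2)⟩
  obtain ⟨P, hP⟩ := pA.exists_le_sylow
  obtain ⟨g, rfl⟩ := MulAction.exists_smul_eq G T P
  let B := A.map (MulAut.conj g⁻¹).toMonoidHom
  have hB : ∀ b ∈ B, b ∈ (T : Subgroup G) ∧ b * b = 1 := fun b hb => by
    have hb' := H72.mem_map_conj.1 hb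
    refine ⟨by simpa [mul_assoc] using H72.mem_smul_sylow.1 (hP hb'), ?_⟩
    have := sq_cj (a := g⁻¹⁻¹ * b * g⁻¹) (by rw [← pow_two]; exact hA2 _ hb') g⁻¹
    simpa [mul_assoc] using this
  have cB : 4 < Nat.card B := by rw [H72.card_map_conj]; exact hc
  have cyc : ∀ c : G, ∀ m : ℕ, orderOf c = 2 ^ (m + 1) → Nat.card (zpowers c ⊓ B : Subgroup G) ≤ 2 := fun c m hm => by
    have : zpowers c ⊓ B ≤ zpowers (c ^ 2 ^ m) := fun x hx => by
      rcases H5.eq_one_or_half hm hx.1 (hB x hx.2).2 with e | e <;> rw [e]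
      exacts [one_mem _, mem_zpowers _]
    have := card_le_of_le this
    rwa [Nat.card_zpowers, ord2 (H5.half_mul_self hm) (H5.half_ne_one hm)] at this
  rcases exists_normal_four_or T.isPGroup' (fun hcyc => by
      obtain ⟨a, ha⟩ := IsCyclic.exists_generator (α := (T : Subgroup G))
      obtain ⟨k, hk⟩ := IsPGroup.iff_orderOf.1 T.isPGroup' a
      rw [← Subgroup.orderOf_coe] at hk
      have hle : B ≤ zpowers (a : G) := fun b hb => by
        obtain ⟨i, hi⟩ := ha ⟨b, (hB b hb).1⟩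
        exact ⟨i, congrArg Subtype.val hi⟩
      rcases k with _ | k
      · have := card_le_of_le hle
        rw [Nat.card_zpowers, hk] at this
        omega
      · have := cyc a k hk
        rw [inf_eq_right.2 hle] at this
        omega) with ⟨a, m, ha, hL⟩ | ⟨U, hUT, hn, ea, h4⟩
  · have := (hL.mono_right (B' := B) fun b hb => (hB b hb).1).card_le
    have := cyc a m ha
    omega
  have u2 : ∀ u ∈ U, u * u = 1 := fun u hu => by rw [← pow_two]; exact ea.2 u hu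
  obtain ⟨z, hz, z2, z1, zc⟩ := exists_inv_cent T.isPGroup' hUT (fun g hg => .of_norm (hn hg))
    (fun e => by rw [e, card_bot] at h4; omega)
  obtain rfl : z = t := (hU z (hUT hz) z2 zc).resolve_left z1
  have hlt : ¬ U ≤ zpowers z := fun e => by
    have := card_le_of_le e
    rw [Nat.card_zpowers, ord2 z2 z1] at this
    omega
  obtain ⟨s, hs, hsz⟩ := exists_not_mem_of_not_le hlt
  have s1 : s ≠ 1 := fun e => hsz (e ▸ one_mem _)
  have sz : s ≠ z := fun e => hsz (e ▸ mem_zpowers _)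
  refine ⟨s, hUT hs, u2 s hs, s1, sz, fun g hg => ?_⟩
  have L : Le2 (zpowers z) U := le2_of_card_le (by
    rw [inf_eq_left.2 (zpowers_le.2 hz), Nat.card_zpowers, ord2 z2 z1, h4])
  have m := Nm.of_norm (hn hg) s hs
  have : g * s * g⁻¹ ∉ zpowers z := fun e => by
    rcases mem_zpowers_of_sq (by rw [pow_two, z2]) e with e | e
    · exact cj_ne_one s1 g e
    · exact cj_ne sz g (e.trans (cj_eq (zc g hg)).symm)
  rcases mem_zpowers_of_sq (by rw [pow_two, z2]) (L s hs _ m hsz this) with e | e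
  · exact .inl (by rw [eq_inv_of_mul_eq_one_right e, inv_self (u2 s hs)])
  · exact .inr (by rw [← e, ← mul_assoc, u2 s hs, one_mul])

/-- The centraliser of a normal four-subgroup and its automorphism of order three. -/
theorem Nf.main (h : Gl G) {T : Sylow 2 G} {t s : G} (c : Ce T t) (hU : Uq T t) (f : Nf T t s) :
    ¬ (T : Subgroup G) ≤ Cn T s ∧ Om (Cn T s) t s ∧
      ∃ r : G, r * r * r = 1 ∧ Nm r (Cn T s) ∧ r * t * r⁻¹ = s ∧ r * s * r⁻¹ = s * t := by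
  have : Fact (Nat.Prime 2) := ⟨Nat.prime_two⟩
  have hn : ¬ (T : Subgroup G) ≤ Cn T s := fun e =>
    (hU s f.sT f.s2 fun g hg => (mem_Cn.1 (e hg)).2).elim f.s1 f.st
  have L := le2_Cn c.t2 c.tc f.cj
  have ms : s ∈ Cn T s := mem_Cn.2 ⟨f.sT, rfl⟩
  have om := om_of hU c.t2 c.tc Cn_le L hn ms f.s2 (fun g hg => (mem_Cn.1 hg).2) f.s1 f.st
  obtain ⟨τ, hτ, hτ'⟩ := exists_not_mem_of_not_le hn
  have cc := card_le2 L Cn_le hn
  refine ⟨hn, om, exists_r h T (τ := τ) c.t2 c.t1 c.tc f.s2 f.s1 f.st (T.isPGroup'.to_le Cn_le)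
    (mem_Cn.2 ⟨c.tT, (c.tc s f.sT).symm⟩) ms (fun g hg => c.tc g (Cn_le hg)) (fun g hg => (mem_Cn.1 hg).2) om
    (by have := Nat.card_pos (α := Cn T s); omega) (fun S hS h1 h2 h3 => ?_) (fun d hd => ?_) (c.tc τ hτ)
    ((f.cj τ hτ).resolve_left fun e => hτ' (mem_Cn.2 ⟨hτ, comm_of_cj e⟩))⟩
  · by_contra hne
    obtain ⟨k, hk, he⟩ := H72.exists_conj_mem_sylow_of_le T (H := centralizer {t})
      (fun g hg => mem_centralizer_singleton_iff.2 (c.tc g hg)) hS fun g hg => mem_centralizer_singleton_iff.2 (h2 g hg)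
    have hle : S.map (MulAut.conj k).toMonoidHom ≤ T := by
      rintro _ ⟨g, hg, rfl⟩
      exact he g hg
    have heq : S.map (MulAut.conj k).toMonoidHom = T := by
      refine eq_of_le_of_card_ge hle ?_
      rw [H72.card_map_conj, cc]
      obtain ⟨d, hd⟩ := card_dvd_of_le h1
      have : d ≠ 1 := fun e => hne (eq_of_le_of_card_ge h1 (by rw [hd, e, mul_one])).ge
      have : d ≠ 0 := fun e => by rw [e] at hd; exact Nat.card_pos.ne' hd
      rw [hd, mul_comm]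
      exact Nat.mul_le_mul_left _ (by omega)
    have kt := cj_eq (mem_centralizer_singleton_iff.1 hk)
    rcases hU _ (he s (h1 ms)) (sq_cj f.s2 k) (fun g hg => by
      rw [← heq] at hg
      obtain ⟨g, hg, rfl⟩ := hg
      exact comm_cj (h3 g hg) k) with e | e
    · exact cj_ne_one f.s1 k e
    · exact cj_ne f.st k (e.trans kt.symm)
  · have := L.comm_self (commutator_mem_commutator hτ (Cn_le hd))
    simpa [commutatorElement_def] using mul_mem this hd

end H50.SC6
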