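import Mathlib
import Cfsg.Agent.Lib.SC6.Gl

/-! The case where the centraliser of an involution has a quotient `S₃`: the centre of a Sylow 2-subgroup. -/

set_option autoImplicit false
set_option linter.unusedSectionVars false
set_option linter.unusedVariables false

namespace H50.SC6

open Subgroup H70

variable {G : Type*} [Group G] [Finite G]

theorem mem_zt {t x : G} (t2 : t * t = 1) : x ∈ zpowers t ↔ x = 1 ∨ x = t :=
  ⟨mem_zpowers_of_sq (by rw [pow_two, t2]), fun h => by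
    rcases h with e | e <;> rw [e]
    exacts [one_mem _, mem_zpowers _]⟩

theorem nm_zt {t g : G} (t2 : t * t = 1) (h : g * t = t * g) : Nm g (zpowers t) := fun d hd => by
  rcases (mem_zt t2).1 hd with e | e <;> rw [e]
  · simp
  · rw [cj_eq h]; exact mem_zpowers t

theorem pg2 {t : G} (t2 : t * t = 1) : IsPGroup 2 (zpowers t) := fun a => ⟨1, Subtype.ext (by
  rcases (mem_zt t2).1 a.2 with e | e <;> simp [e, pow_two, t2])⟩

theorem nm_le2 {Q T : Subgroup G} (h : Le2 Q T) (hQ : Q ≤ T) {g : G} (hg : g ∈ T) : Nm g Q := fun d hd => by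
  have := h.comm_self (commutator_mem_commutator hg (hQ hd))
  simpa [commutatorElement_def] using mul_mem this hd

theorem act_eq {Q T : Subgroup G} (h : Le2 Q T) {g g' a : G} (hg : g ∈ T) (hg' : g' ∈ T) (n : g ∉ Q) (n' : g' ∉ Q)
    (ha : ∀ q ∈ Q, q * a = a * q) : g * a * g⁻¹ = g' * a * g'⁻¹ := by
  have := cj_eq (ha _ (h.inv_mul hg' hg n' n))
  calc g * a * g⁻¹ = g' * (g'⁻¹ * g * a * (g'⁻¹ * g)⁻¹) * g'⁻¹ := by group
    _ = _ := by rw [this]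

/-- The elements that normalise `X` and `Y` and act trivially on `X / Y`. -/
def Act (X Y : Subgroup G) : Subgroup G where
  carrier := {g | Nm g X ∧ Nm g Y ∧ ∀ x ∈ X, g * x * g⁻¹ * x⁻¹ ∈ Y}
  one_mem' := ⟨.one, .one, fun x _ => by simp⟩
  mul_mem' := fun {a b} ha hb => ⟨ha.1.mul hb.1, ha.2.1.mul hb.2.1, fun x hx => by
    have := mul_mem (ha.2.1 _ (hb.2.2 x hx)) (ha.2.2 x hx)
    simpa [mul_assoc] using this⟩
  inv_mem' := fun {a} ha => ⟨ha.1.inv, ha.2.1.inv, fun x hx => by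
    have := ha.2.1.inv _ (inv_mem (ha.2.2 x hx))
    simpa [mul_assoc] using this⟩

theorem nm_Act {X Y : Subgroup G} {g : G} (h1 : Nm g X) (h2 : Nm g Y) : Nm g (Act X Y) := fun d hd =>
  ⟨(h1.mul hd.1).mul h1.inv, (h2.mul hd.2.1).mul h2.inv, fun x hx => by
    have := h2 _ (hd.2.2 _ (h1.inv x hx))
    simpa [mul_assoc] using this⟩

theorem mem_Act {X Y : Subgroup G} (hYX : Y ≤ X) {g : G} (h : ∀ x ∈ X, g * x * g⁻¹ * x⁻¹ ∈ Y) : g ∈ Act X Y :=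
  ⟨fun x hx => by simpa using mul_mem (hYX (h x hx)) hx, fun x hx => by simpa using mul_mem (h x (hYX hx)) hx, h⟩

/-- The involutions of the centre, with the identity. -/
def Oz (Q : Subgroup G) : Subgroup G where
  carrier := {a | a ∈ Q ∧ a * a = 1 ∧ ∀ q ∈ Q, q * a = a * q}
  one_mem' := ⟨one_mem _, by simp, by simp⟩
  mul_mem' := fun {a b} ha hb => ⟨mul_mem ha.1 hb.1, by
    rw [mul_assoc, ← mul_assoc b, ha.2.2 b hb.1, mul_assoc a b, hb.2.1, mul_one, ha.2.1], fun q hq => by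
    rw [← mul_assoc, ha.2.2 q hq, mul_assoc, hb.2.2 q hq, mul_assoc]⟩
  inv_mem' := fun {a} ha => by rw [inv_self ha.2.1]; exact ha

theorem nm_Oz {Q : Subgroup G} {g : G} (h : Nm g Q) : Nm g (Oz Q) := fun d hd =>
  ⟨h d hd.1, sq_cj hd.2.1 g, fun q hq => by
    have := comm_cj (hd.2.2 _ (h.inv q hq)) g
    simpa [mul_assoc] using this⟩

/-- `Q` has index two in `T`, and `y` of order three normalises `Q` and is inverted by `τ`. -/
structure S0 (T : Sylow 2 G) (Q : Subgroup G) (t y τ : G) : Prop extends Ce T t where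
  y3 : y * y * y = 1
  y1 : y ≠ 1
  yt : y * t = t * y
  QT : Q ≤ T
  le2 : Le2 Q T
  τT : τ ∈ (T : Subgroup G)
  τQ : τ ∉ Q
  tQ : t ∈ Q
  yQ : Nm y Q
  τy : τ * y * τ⁻¹ = y * y

namespace S0
variable {T : Sylow 2 G} {Q : Subgroup G} {t y τ : G}

theorem pQ (c : S0 T Q t y τ) : IsPGroup 2 Q := T.isPGroup'.to_le c.QT

theorem nQ (c : S0 T Q t y τ) {g : G} (hg : g ∈ (T : Subgroup G)) : Nm g Q := nm_le2 c.le2 c.QT hg

theorem fix (c : S0 T Q t y τ) (h : Gl G) {q : G} (hq : q ∈ (T : Subgroup G)) (e : y * q = q * y) : q = 1 ∨ q = t :=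
  h.sm.fix c.y3 c.y1 T.isPGroup' c.tT c.t1 c.yt hq e

theorem fp (c : S0 T Q t y τ) (h : Gl G) {X Y : Subgroup G} (hX : X ≤ Q) (hYX : Y ≤ X) (ht : t ∈ Y) (yX : Nm y X)
    (yY : Nm y Y) (nn : ∀ d ∈ X, Nm d Y) : FP X Y y :=
  FP.of_fix c.y3 yX yY nn (c.pQ.to_le (hYX.trans hX)) hYX fun x hx e => by
    rcases c.fix h (c.QT (hX hx)) e with e | e <;> rw [e]
    exacts [one_mem _, ht]

theorem fpQ (c : S0 T Q t y τ) (h : Gl G) : FP Q (zpowers t) y :=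
  c.fp h le_rfl (zpowers_le.2 c.tQ) (mem_zpowers t) c.yQ (nm_zt c.t2 c.yt) fun d hd => nm_zt c.t2 (c.tc d (c.QT hd))

theorem mod2 (c : S0 T Q t y τ) (h : Gl G) {X : Subgroup G} (hX : X ≤ Q) (ht : t ∈ X) (yX : Nm y X) :
    Nat.card X % 3 = 2 := h.sm.mod_two c.y3 c.y1 (c.pQ.to_le hX) yX ht c.t1 c.yt

theorem outer (c : S0 T Q t y τ) (h : Gl G) {X Y : Subgroup G} (hX : X ≤ Q) (hYX : Y ≤ X) (ht : t ∈ Y) (yX : Nm y X)
    (yY : Nm y Y) (qX : ∀ q ∈ Q, Nm q X) (qY : ∀ q ∈ Q, Nm q Y) {e : G} (he : e ∈ (T : Subgroup G)) (heQ : e ∉ Q)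
    (hc : ∀ x ∈ X, e * x * e⁻¹ * x⁻¹ ∈ Y) : X ≤ Y := by
  have eC := mem_Act hYX hc
  have nC := nm_Act yX yY
  have tC : t ∈ Act X Y := mem_Act hYX fun x hx => by
    rw [cj_eq (c.tc x (c.QT (hX hx))).symm]; simp
  have yi : y⁻¹ = y * y := inv_eq_of_mul_eq_one_right (by rw [← mul_assoc, c.y3])
  have hq := c.le2.inv_mul c.τT he c.τQ heQ
  have m1 : e * y * e⁻¹ * (y * y)⁻¹ ∈ Q := by
    have := c.nQ c.τT _ (mul_mem hq (c.yQ _ (inv_mem hq)))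
    rw [← c.τy]
    simpa [mul_assoc] using this
  have m2 : y * e * y⁻¹ * e⁻¹ * (y * y)⁻¹ ∈ Q := by
    have := (c.yQ.mul c.yQ) _ (inv_mem m1)
    have e3 : y * y * (e * y * e⁻¹ * (y * y)⁻¹)⁻¹ * (y * y)⁻¹ = y * y * y * (y * e * y⁻¹ * e⁻¹ * (y * y)⁻¹) := by
      simp only [mul_inv_rev, inv_inv, mul_assoc]
    rwa [e3, c.y3, one_mul] at this
  have gC : y * e * y⁻¹ * e⁻¹ ∈ Act X Y := mul_mem (nC e eC) (inv_mem eC)
  generalize y * e * y⁻¹ * e⁻¹ = g at m2 gC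
  obtain ⟨n, hn, hf⟩ := exists_fix_coset (N := Act X Y ⊓ Q) (c.pQ.to_le inf_le_right) c.y3 (nC.inf c.yQ) (x := g)
    (mem_inf.2 ⟨mul_mem (nC g gC) (inv_mem gC), by
      have := mul_mem (c.yQ _ m2) (inv_mem m2)
      simpa [mul_assoc] using this⟩)
  have ng := mul_mem hn.1 gC
  have yy : y * y ∈ Act X Y := by
    rcases c.fix h (c.QT (mul_mem hn.2 m2)) (by
      calc y * (n * (g * (y * y)⁻¹)) = y * (n * g) * (y * y)⁻¹ := by group
        _ = _ := by rw [hf]; group) with e1 | e1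
    · rwa [show n * g = y * y by rw [← mul_inv_eq_one, mul_assoc, e1]] at ng
    · rw [show n * g = t * (y * y) by rw [← e1]; group] at ng
      exact (mul_mem_cancel_left tC).1 ng
  have yC : y ∈ Act X Y := sq_sq c.y3 ▸ mul_mem yy yy
  exact fun x hx => (c.fp h hX hYX ht yX yY fun d hd => qY d (hX hd)).fp x hx (yC.2.2 x hx)

theorem outer_t (c : S0 T Q t y τ) (h : Gl G) {X : Subgroup G} (hX : X ≤ Q) (ht : t ∈ X) (yX : Nm y X)
    (qX : ∀ q ∈ Q, Nm q X) {e : G} (he : e ∈ (T : Subgroup G)) (heQ : e ∉ Q)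
    (hc : ∀ x ∈ X, e * x * e⁻¹ * x⁻¹ ∈ zpowers t) : X ≤ zpowers t :=
  c.outer h hX (zpowers_le.2 ht) (mem_zpowers t) yX (nm_zt c.t2 c.yt) qX
    (fun q hq => nm_zt c.t2 (c.tc q (c.QT hq))) he heQ hc

theorem comm_of_small (c : S0 T Q t y τ) (hQ : Q ≤ zpowers t) {a b : G} (ha : a ∈ (T : Subgroup G))
    (hb : b ∈ (T : Subgroup G)) : a * b = b * a := by
  have key : ∀ q ∈ Q, ∀ g ∈ (T : Subgroup G), g * q = q * g := fun q hq g hg => by
    rcases (mem_zt c.t2).1 (hQ hq) with e | e <;> rw [e]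
    · simp
    · exact c.tc g hg
  by_cases h1 : a ∈ Q
  · exact (key a h1 b hb).symm
  by_cases h2 : b ∈ Q
  · exact key b h2 a ha
  have := key _ (c.le2.inv_mul ha hb h1 h2) a ha
  calc a * b = a * (a * (a⁻¹ * b)) := by group
    _ = _ := by rw [this]; group

theorem mem_Q (c : S0 T Q t y τ) (h : Gl G) (hQ : ¬ Q ≤ zpowers t) {s : G} (hs : s ∈ (T : Subgroup G))
    (hc : ∀ q ∈ Q, s * q * s⁻¹ * q⁻¹ ∈ zpowers t) : s ∈ Q := by
  by_contra hn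
  exact hQ (c.outer_t h le_rfl c.tQ c.yQ (fun q hq => .of_mem hq) hs hn hc)

theorem tOz (c : S0 T Q t y τ) : t ∈ Oz Q := ⟨c.tQ, c.t2, fun q hq => c.tc q (c.QT hq)⟩

theorem exists_moved (c : S0 T Q t y τ) (h : Gl G) (hQ : ¬ Q ≤ zpowers t) {z : G} (d : Ce T z) (zt : z ≠ t) :
    ∃ a ∈ Oz Q, τ * a * τ⁻¹ ≠ a := by
  by_contra hh
  push Not at hh
  have zQ := c.mem_Q h hQ d.tT fun q hq => by rw [← d.tc q (c.QT hq)]; simp
  have := c.outer_t h (X := Oz Q) (fun a ha => ha.1) c.tOz (nm_Oz c.yQ) (fun q hq => nm_Oz (.of_mem hq)) c.τT c.τQ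
    (fun x hx => by rw [hh x hx]; simp) ⟨zQ, d.t2, fun q hq => d.tc q (c.QT hq)⟩
  exact ((mem_zt c.t2).1 this).elim d.t1 zt

theorem cm_ne (c : S0 T Q t y τ) (h : Gl G) {a g : G} (ha : a ∈ Oz Q) (hg : g ∈ (T : Subgroup G)) :
    g * a * g⁻¹ * a ≠ t := by
  by_cases hgQ : g ∈ Q
  · rw [cj_eq (ha.2.2 g hgQ), ha.2.1]; exact c.t1.symm
  rw [act_eq c.le2 hg c.τT hgQ c.τQ ha.2.2]
  intro e
  have e0 : τ * a * τ⁻¹ = t * a := by rw [← e, mul_assoc _ a a, ha.2.1, mul_one]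
  have h1 := nm_Oz c.yQ a ha
  have h2 := nm_Oz c.yQ _ h1
  have e1 : τ * (y * a * y⁻¹) * τ⁻¹ = t * (y * (y * a * y⁻¹) * y⁻¹) := by
    calc _ = τ * y * τ⁻¹ * (τ * a * τ⁻¹) * (τ * y * τ⁻¹)⁻¹ := by group
      _ = y * (y * t * y⁻¹) * y⁻¹ * (y * (y * a * y⁻¹) * y⁻¹) := by rw [c.τy, e0]; group
      _ = _ := by rw [cj_eq c.yt, cj_eq c.yt]
  have e2 : τ * (y * (y * a * y⁻¹) * y⁻¹) * τ⁻¹ = t * (y * a * y⁻¹) := by
    calc _ = τ * y * τ⁻¹ * (τ * y * τ⁻¹) * (τ * a * τ⁻¹) * (τ * y * τ⁻¹ * (τ * y * τ⁻¹))⁻¹ := by group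
      _ = y * t * y⁻¹ * (y * a * y⁻¹) := by rw [c.τy, sq_sq c.y3, e0]; group
      _ = _ := by rw [cj_eq c.yt]
  have hn := (c.fpQ h).norm ha.1
  have e3 : τ * (a * (y * a * y⁻¹) * (y * (y * a * y⁻¹) * y⁻¹)) * τ⁻¹ =
      a * (y * a * y⁻¹) * (y * (y * a * y⁻¹) * y⁻¹) := by
    rcases (mem_zt c.t2).1 hn with e | e <;> rw [e]
    · simp
    · exact cj_eq (c.tc τ c.τT)
  have c1 := c.tOz.2.2 a ha.1
  have c2 := c.tOz.2.2 _ h1.1
  have c3 := c.tOz.2.2 _ h2.1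
  have c4 := h1.2.2 _ h2.1
  generalize y * (y * a * y⁻¹) * y⁻¹ = a2 at *
  generalize y * a * y⁻¹ = a1 at *
  have : τ * (a * a1 * a2) * τ⁻¹ = t * (a * a1 * a2) := by
    calc _ = τ * a * τ⁻¹ * (τ * a1 * τ⁻¹) * (τ * a2 * τ⁻¹) := by group
      _ = t * a * (t * (a2 * t)) * a1 := by rw [e0, e1, e2]; group
      _ = t * a * (a2 * a1) := by rw [c3, ← mul_assoc t t, c.t2]; group
      _ = _ := by rw [c4]; group
  rw [e3] at this
  exact c.t1 (by simpa using this)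

theorem cm_ce (c : S0 T Q t y τ) {a : G} (ha : a ∈ Oz Q) (hn : τ * a * τ⁻¹ ≠ a) : Ce T (τ * a * τ⁻¹ * a) := by
  have h1 := nm_Oz (c.nQ c.τT) a ha
  have m := mul_mem h1 ha
  refine ⟨c.QT m.1, m.2.1, fun e => hn (by rw [eq_inv_of_mul_eq_one_left e, inv_self ha.2.1]), fun g hg => ?_⟩
  by_cases hgQ : g ∈ Q
  · exact m.2.2 g hgQ
  refine comm_of_cj ?_
  rw [act_eq c.le2 hg c.τT hgQ c.τQ m.2.2]
  have := cj_eq (ha.2.2 _ (c.le2.sq_mem c.τT))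
  calc _ = τ * τ * a * (τ * τ)⁻¹ * (τ * a * τ⁻¹) := by group
    _ = _ := by rw [this, ← ha.2.2 _ h1.1]

theorem cj (c : S0 T Q t y τ) {k : G} (hk : Nm k T) :
    S0 T (Q.map (MulAut.conj k).toMonoidHom) (k * t * k⁻¹) (k * y * k⁻¹) (k * τ * k⁻¹) where
  tT := hk t c.tT
  t2 := sq_cj c.t2 k
  t1 := cj_ne_one c.t1 k
  tc := fun g hg => by
    have := comm_cj (c.tc _ (hk.inv g hg)) k
    simpa [mul_assoc] using this
  y3 := by
    calc _ = k * (y * y * y) * k⁻¹ := by group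
      _ = 1 := by rw [c.y3]; group
  y1 := cj_ne_one c.y1 k
  yt := comm_cj c.yt k
  QT := by
    rintro _ ⟨g, hg, rfl⟩
    exact hk g (c.QT hg)
  le2 := fun a ha b hb h1 h2 => H72.mem_map_conj.2 (by
    have := c.le2 _ (hk.inv a ha) _ (hk.inv b hb) (fun e => h1 (H72.mem_map_conj.2 (by simpa using e)))
      (fun e => h2 (H72.mem_map_conj.2 (by simpa using e)))
    simpa [mul_assoc] using this)
  τT := hk τ c.τT
  τQ := fun e => c.τQ (by simpa [mul_assoc] using H72.mem_map_conj.1 e)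
  tQ := H72.conj_mem_map_conj c.tQ
  yQ := fun d hd => H72.mem_map_conj.2 (by
    have := c.yQ _ (H72.mem_map_conj.1 hd)
    simpa [mul_assoc] using this)
  τy := by
    calc _ = k * (τ * y * τ⁻¹) * k⁻¹ := by group
      _ = _ := by rw [c.τy]; group

end S0

theorem exists_odd_pow (T : Sylow 2 G) {k : G} (hk : Nm k T) : ∃ m : ℕ, Odd m ∧ k ^ m ∈ (T : Subgroup G) := by
  have : Fact (Nat.Prime 2) := ⟨Nat.prime_two⟩
  obtain ⟨a, m, hm, e⟩ := Nat.exists_eq_two_pow_mul_odd (orderOf_pos k).ne'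
  have p : IsPGroup 2 (zpowers (k ^ m)) := IsPGroup.of_card (n := a) (by
    rw [Nat.card_zpowers, orderOf_pow' k hm.pos.ne', e, Nat.gcd_mul_left_left, Nat.mul_div_cancel _ hm.pos])
  have := p.inf_normalizer_sylow T
  exact ⟨m, hm, (this.le ⟨mem_zpowers _, (hk.pow m).norm⟩).2⟩

theorem S0.uq {T : Sylow 2 G} {Q : Subgroup G} {t y τ : G} (c : S0 T Q t y τ) (h : Gl G) (hQ : ¬ Q ≤ zpowers t) :
    Uq T t := by
  intro z0 hz0 z02 z0c
  by_contra hh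
  push Not at hh
  obtain ⟨a, ha, hm⟩ := c.exists_moved h hQ ⟨hz0, z02, hh.1, z0c⟩ hh.2
  have d := c.cm_ce ha hm
  have zt := c.cm_ne h ha c.τT
  obtain ⟨k, hk, hz⟩ := c.toCe.fuse h d
  have c' := c.cj hk
  have ha' : k * a * k⁻¹ ∈ Oz (Q.map (MulAut.conj k).toMonoidHom) :=
    ⟨H72.conj_mem_map_conj ha.1, sq_cj ha.2.1 k, by
      rintro _ ⟨q, hq, rfl⟩
      exact comm_cj (ha.2.2 q hq) k⟩
  have hm' : k * τ * k⁻¹ * (k * a * k⁻¹) * (k * τ * k⁻¹)⁻¹ ≠ k * a * k⁻¹ := fun e => cj_ne hm k (by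
    rw [← e]; group)
  have kz : k * (τ * a * τ⁻¹ * a) * k⁻¹ = k * τ * k⁻¹ * (k * a * k⁻¹) * (k * τ * k⁻¹)⁻¹ * (k * a * k⁻¹) := by group
  have cQ : Nat.card (Q.map (MulAut.conj k).toMonoidHom) = Nat.card Q := H72.card_map_conj _ _
  rw [hz] at c'
  generalize Q.map (MulAut.conj k).toMonoidHom = Q' at *
  generalize k * a * k⁻¹ = a' at *
  generalize k * τ * k⁻¹ = τ' at *
  obtain ⟨g, hg, hg'⟩ := exists_not_mem_of_not_le (show ¬ Q ≤ Q' from fun e => by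
    obtain rfl := eq_of_le_of_card_ge e cQ.le
    exact c'.cm_ne h ha c.τT rfl)
  have key : ∀ b ∈ Oz Q', b ∈ Q := fun b hb => by
    by_contra hn
    have e := act_eq c.le2 (c'.QT hb.1) c.τT hn c.τQ ha.2.2
    refine c'.cm_ne h hb (c.QT ha.1) ?_
    rw [← inv_self d.t2, ← e, inv_self ha.2.1, inv_self hb.2.1]
    simp [mul_assoc, inv_self ha.2.1, inv_self hb.2.1]
  have m := (c.fpQ h).comm_of_le2 (zpowers_le.2 c.tQ) (key a' ha') (c'.le2.mono_right c.QT)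
    (fun x hx _ => by rw [ha'.2.2 x hx]; simp) hg
  rw [act_eq c'.le2 (c.QT hg) c'.τT hg' c'.τQ ha'.2.2, inv_self ha'.2.1, ← kz] at m
  have kz' := ((mem_zt c.t2).1 m).resolve_left (cj_ne_one d.t1 k)
  obtain ⟨m, ⟨j, rfl⟩, hT⟩ := exists_odd_pow T hk
  have c2 : Commute (k * k) t := comm_of_cj (by
    calc _ = k * (k * t * k⁻¹) * k⁻¹ := by group
      _ = t := by rw [hz, kz'])
  refine zt ?_
  have e1 := cj_eq (c.tc _ hT)
  rw [pow_succ', pow_mul, pow_two] at e1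
  have e2 := cj_eq (c2.pow_left j)
  generalize (k * k) ^ j = w at e1 e2
  calc _ = k * (w * t * w⁻¹) * k⁻¹ := by rw [e2, hz]
    _ = k * w * t * (k * w)⁻¹ := by simp only [mul_inv_rev, mul_assoc]
    _ = t := e1

end H50.SC6
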