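import Mathlib
import Cfsg.Agent.Lib.SC6.S1

/-! The case where the centraliser of an involution has a quotient `S₃`: normal four-subgroups of `Q`. -/

set_option autoImplicit false
set_option linter.unusedSectionVars false
set_option linter.unusedVariables false

namespace H50.SC6

open Subgroup H70

variable {G : Type*} [Group G] [Finite G]

/-- Equality modulo `t`. -/
def Md (t a b : G) : Prop := a = b ∨ a = b * t

namespace Md
variable {t a b c d g : G}

theorem rfl' : Md t a a := .inl rfl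

theorem symm (t2 : t * t = 1) (h : Md t a b) : Md t b a := by
  rcases h with e | e
  · exact .inl e.symm
  · exact .inr (by rw [e, mul_assoc, t2, mul_one])

theorem trans (t2 : t * t = 1) (h : Md t a b) (h' : Md t b c) : Md t a c := by
  rcases h with e | e <;> rcases h' with e' | e' <;> rw [e, e']
  exacts [.inl rfl, .inr rfl, .inr rfl, .inl (by rw [mul_assoc, t2, mul_one])]

theorem mul (t2 : t * t = 1) (h : Md t a b) (h' : Md t c d) (hd : d * t = t * d) : Md t (a * c) (b * d) := by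
  rcases h with e | e <;> rcases h' with e' | e' <;> rw [e, e']
  · exact .inl rfl
  · exact .inr (mul_assoc ..).symm
  · exact .inr (by rw [mul_assoc, ← hd, mul_assoc])
  · exact .inl (by rw [hd, mul_assoc, ← mul_assoc t t, t2, one_mul])

theorem cj (h : Md t a b) (hg : g * t = t * g) : Md t (g * a * g⁻¹) (g * b * g⁻¹) := by
  rcases h with e | e <;> rw [e]
  · exact .inl rfl
  · refine .inr ?_
    calc _ = g * b * g⁻¹ * (g * t * g⁻¹) := by group
      _ = _ := by rw [cj_eq hg]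

theorem left (h : Md t (a * b) (a * c)) : Md t b c := by
  rcases h with e | e
  · exact .inl (mul_left_cancel e)
  · exact .inr (mul_left_cancel (e.trans (mul_assoc ..)))

theorem right (h : Md t (b * a) (c * a)) (ha : a * t = t * a) : Md t b c := by
  rcases h with e | e
  · exact .inl (mul_right_cancel e)
  · exact .inr (mul_right_cancel (by rw [e, mul_assoc, ha, mul_assoc]))

theorem comm (h : Md t a b) (hg : g * t = t * g) (e : g * b = b * g) : g * a = a * g := by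
  rcases h with e' | e' <;> rw [e']
  · exact e
  · rw [← mul_assoc, e, mul_assoc, hg, mul_assoc]

theorem mem (h : Md t a b) {X : Subgroup G} (ht : t ∈ X) (hb : b ∈ X) : a ∈ X := by
  rcases h with e | e <;> rw [e]
  exacts [hb, mul_mem hb ht]

theorem of_left (t2 : t * t = 1) (h : b⁻¹ * a ∈ zpowers t) : Md t a b := by
  rcases (mem_zt t2).1 h with e | e
  · exact .inl (by rw [inv_mul_eq_one] at e; exact e.symm)
  · exact .inr (by rw [← e]; group)

theorem of_right (t2 : t * t = 1) (hb : b * t = t * b) (h : a * b⁻¹ ∈ zpowers t) : Md t a b := by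
  rcases (mem_zt t2).1 h with e | e
  · exact .inl (mul_inv_eq_one.1 e)
  · exact .inr (by rw [hb, ← e]; group)

theorem to_left (h : Md t a b) : b⁻¹ * a ∈ zpowers t := by
  rcases h with e | e <;> rw [e] <;> simp

theorem to_right (h : Md t a b) (hb : b * t = t * b) : a * b⁻¹ ∈ zpowers t := by
  rcases h with e | e <;> rw [e]
  · simp
  · rw [hb]; simp

end Md

theorem comm_of_sq {a b : G} (a2 : a * a = 1) (b2 : b * b = 1) (h : a * b * (a * b) = 1) : a * b = b * a := by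
  rw [← inv_self h, mul_inv_rev, inv_self a2, inv_self b2]

theorem sq_of_comm {a b : G} (a2 : a * a = 1) (b2 : b * b = 1) (h : a * b = b * a) : a * b * (a * b) = 1 := by
  rw [mul_assoc, ← mul_assoc b, ← h, mul_assoc a b, b2, mul_one, a2]

theorem norm_inv {t a b c : G} (t2 : t * t = 1) (a2 : a * a = 1) (b2 : b * b = 1) (c2 : c * c = 1)
    (hc : c * t = t * c) (h : a * b * c ∈ zpowers t) : a * b = b * a ∧ Md t c (a * b) := by
  have m : Md t (a * b) c := .of_right t2 hc (by rwa [inv_self c2])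
  refine ⟨comm_of_sq a2 b2 ?_, m.symm t2⟩
  rcases m with e | e <;> rw [e]
  · exact c2
  · exact sq_of_comm c2 t2 hc

theorem mem_sup2 {A : Subgroup G} {w x : G} (hn : Nm w A) (hw : w * w ∈ A) :
    x ∈ A ⊔ zpowers w ↔ x ∈ A ∨ x * w ∈ A := by
  constructor
  · intro hx
    obtain ⟨k, hk, i, rfl⟩ := (H5.mem_sup_zpowers_iff_nat hn.norm).1 hx
    rcases Nat.even_or_odd' i with ⟨j, rfl | rfl⟩
    · exact .inl (mul_mem hk (by rw [pow_mul, pow_two]; exact pow_mem hw j))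
    · refine .inr ?_
      rw [mul_assoc, ← pow_succ, show 2 * j + 1 + 1 = 2 * (j + 1) by ring, pow_mul, pow_two]
      exact mul_mem hk (pow_mem hw _)
  · rintro (hx | hx)
    · exact mem_sup_left hx
    · exact (mul_mem_cancel_right (mem_sup_right (mem_zpowers w))).1 (mem_sup_left hx)

theorem le2_sup {A : Subgroup G} {w : G} (hn : Nm w A) (hw : w * w ∈ A) : Le2 A (A ⊔ zpowers w) := by
  intro a ha b hb h1 h2
  have e1 := ((mem_sup2 hn hw).1 ha).resolve_left h1
  have e2 := ((mem_sup2 hn hw).1 hb).resolve_left h2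
  have := mul_mem (mul_mem e1 (hn.inv _ e2)) (inv_mem hw)
  simpa [mul_assoc] using this

theorem nm_sup {A : Subgroup G} {w g : G} (hn : Nm w A) (hw : w * w ∈ A) (h1 : ∀ a ∈ A, g * a * g⁻¹ ∈ A ⊔ zpowers w)
    (h2 : g * w * g⁻¹ ∈ A ⊔ zpowers w) : Nm g (A ⊔ zpowers w) := fun x hx => by
  rcases (mem_sup2 hn hw).1 hx with e | e
  · exact h1 x e
  · have := mul_mem (h1 _ e) (inv_mem h2)
    simpa [mul_assoc] using this

/-- The four-group generated by `t` and `s`. -/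
def V4 (t s : G) : Subgroup G := zpowers t ⊔ zpowers s

theorem t_V4 {t s : G} : t ∈ V4 t s := mem_sup_left (mem_zpowers t)
theorem s_V4 {t s : G} : s ∈ V4 t s := mem_sup_right (mem_zpowers s)

theorem mem_V4 {t s x : G} (t2 : t * t = 1) (s2 : s * s = 1) (st : s * t = t * s) :
    x ∈ V4 t s ↔ x ∈ zpowers t ∨ Md t x s := by
  rw [V4, mem_sup2 (nm_zt t2 st) (s2 ▸ one_mem _)]
  exact or_congr Iff.rfl ⟨fun h => .of_right t2 st (by rwa [inv_self s2]), fun h => by
    have := h.to_right st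
    rwa [inv_self s2] at this⟩

theorem V4_le {t s : G} {X : Subgroup G} (ht : t ∈ X) (hs : s ∈ X) : V4 t s ≤ X :=
  sup_le (zpowers_le.2 ht) (zpowers_le.2 hs)

theorem nm_V4 {t s g : G} (t2 : t * t = 1) (s2 : s * s = 1) (st : s * t = t * s) (h1 : g * t * g⁻¹ ∈ V4 t s)
    (h2 : g * s * g⁻¹ ∈ V4 t s) : Nm g (V4 t s) :=
  nm_sup (nm_zt t2 st) (s2 ▸ one_mem _) (fun a ha => by
    rcases (mem_zt t2).1 ha with e | e <;> rw [e]
    exacts [by simp, h1]) h2

theorem comm_V4 {t s g x : G} (h1 : g * t = t * g) (h2 : g * s = s * g) (hx : x ∈ V4 t s) : g * x = x * g :=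
  (mem_centralizer_singleton_iff.1 (V4_le (X := centralizer {g}) (mem_centralizer_singleton_iff.2 h1.symm)
    (mem_centralizer_singleton_iff.2 h2.symm) hx)).symm

theorem Om.mem {E : Subgroup G} {t s z : G} (h : Om E t s) (hz : z ∈ E) (z2 : z * z = 1)
    (zc : ∀ g ∈ E, g * z = z * g) : z ∈ V4 t s := by
  rcases h z hz z2 zc with e | e | e | e <;> rw [e]
  exacts [one_mem _, t_V4, s_V4, mul_mem s_V4 t_V4]

theorem Nf.mono {T Q : Subgroup G} {t s : G} (f : Nf T t s) (hQ : Q ≤ T) (hs : s ∈ Q) : Nf Q t s :=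
  ⟨hs, f.s2, f.s1, f.st, fun g hg => f.cj g (hQ hg)⟩

theorem Nf.md {T : Subgroup G} {t s g : G} (f : Nf T t s) (hg : g ∈ T) : Md t (g * s * g⁻¹) s := f.cj g hg

theorem Nf.nzt {T : Subgroup G} {t s : G} (f : Nf T t s) (t2 : t * t = 1) : s ∉ zpowers t := fun e =>
  ((mem_zt t2).1 e).elim f.s1 f.st

theorem Nf.flip {T : Subgroup G} {t s g : G} (f : Nf T t s) (hg : g ∈ T) (hn : g * s ≠ s * g) :
    g * s * g⁻¹ = s * t := (f.cj g hg).resolve_left fun e => hn (comm_of_cj e)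

namespace S0
variable {T : Sylow 2 G} {Q : Subgroup G} {t y τ : G}

theorem qt (c : S0 T Q t y τ) {q : G} (hq : q ∈ Q) : q * t = t * q := c.tc q (c.QT hq)

theorem uqQ (c : S0 T Q t y τ) (h : Gl G) (hU : Uq T t) : Uq Q t := fun z hz z2 zc => by
  rcases cj_cases hU c.QT c.le2 c.τT c.τQ hz z2 zc with ⟨-, e⟩ | e
  · exact e
  · refine absurd ?_ (c.cm_ne h ⟨hz, z2, zc⟩ c.τT)
    rw [e, c.qt hz, mul_assoc, z2, mul_one]

theorem nf_of (c : S0 T Q t y τ) {a : G} (ha : a ∈ Q) (a2 : a * a = 1) (hn : a ∉ zpowers t)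
    (hc : ∀ q ∈ Q, Md t (q * a * q⁻¹) a) : Nf Q t a :=
  ⟨ha, a2, fun e => hn (e ▸ one_mem _), fun e => hn (e ▸ mem_zpowers _), hc⟩

theorem nfy (c : S0 T Q t y τ) {a : G} (f : Nf Q t a) : Nf Q t (y * a * y⁻¹) :=
  ⟨c.yQ a f.sT, sq_cj f.s2 y, cj_ne_one f.s1 y, fun e => cj_ne f.st y (e.trans (cj_eq c.yt).symm), fun g hg => by
    have := (f.md (c.yQ.inv g hg)).cj c.yt
    show Md t _ _
    simpa [mul_assoc] using this⟩

theorem not_md (c : S0 T Q t y τ) (h : Gl G) {a : G} (ha : a ∈ Q) (hn : a ∉ zpowers t) : ¬ Md t (y * a * y⁻¹) a :=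
  fun e => hn ((c.fpQ h).fp a ha (e.to_right (c.qt ha)))

theorem nrm (c : S0 T Q t y τ) (h : Gl G) {a : G} (ha : a ∈ Q) (a2 : a * a = 1) :
    a * (y * a * y⁻¹) = y * a * y⁻¹ * a ∧ Md t (y * (y * a * y⁻¹) * y⁻¹) (a * (y * a * y⁻¹)) :=
  norm_inv c.t2 a2 (sq_cj a2 y) (sq_cj (sq_cj a2 y) y) (c.qt (c.yQ _ (c.yQ _ ha))) ((c.fpQ h).norm ha)

theorem nfT (c : S0 T Q t y τ) {a : G} (f : Nf Q t a) (e : Md t (τ * a * τ⁻¹) a) : Nf T t a :=
  ⟨c.QT f.sT, f.s2, f.s1, f.st, fun g hg => by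
    by_cases hq : g ∈ Q
    · exact f.cj g hq
    · have := ((f.md (c.le2.inv_mul c.τT hg c.τQ hq)).cj (c.tc τ c.τT)).trans c.t2 e
      show Md t _ _
      simpa [mul_assoc] using this⟩

theorem τ1 (c : S0 T Q t y τ) (a : G) : τ * (y * a * y⁻¹) * τ⁻¹ = y * (y * (τ * a * τ⁻¹) * y⁻¹) * y⁻¹ := by
  calc _ = τ * y * τ⁻¹ * (τ * a * τ⁻¹) * (τ * y * τ⁻¹)⁻¹ := by group
    _ = _ := by rw [c.τy]; group

theorem τ2 (c : S0 T Q t y τ) (a : G) : τ * (y * (y * a * y⁻¹) * y⁻¹) * τ⁻¹ = y * (τ * a * τ⁻¹) * y⁻¹ := by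
  rw [c.τ1, c.τ1, cj3 c.y3]

theorem big (c : S0 T Q t y τ) (hU : Uq T t) {s : G} (f : Nf T t s) : ¬ Q ≤ zpowers t := fun e =>
  (hU s f.sT f.s2 fun g hg => c.comm_of_small e hg f.sT).elim f.s1 f.st

theorem nfQ (c : S0 T Q t y τ) (h : Gl G) (hU : Uq T t) {s : G} (f : Nf T t s) : Nf Q t s :=
  f.mono c.QT (c.mem_Q h (c.big hU f) f.sT fun q hq => by
    have := (f.md (c.QT hq)).to_left
    simpa [inv_self f.s2, mul_assoc] using this)

theorem cardQ (c : S0 T Q t y τ) : Nat.card T = 2 * Nat.card Q := card_le2 c.le2 c.QT fun e => c.τQ (e c.τT)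

end S0

/-- The centraliser of `t` is generated by `Q`, `y`, `τ` and elements of odd order that centralise `Q`. -/
structure SS (T : Sylow 2 G) (Q : Subgroup G) (t y τ : G) : Prop extends S0 T Q t y τ where
  dec : ∀ g : G, g * t = t * g → ∃ o : G, Odd (orderOf o) ∧ (∀ q ∈ Q, o * q = q * o) ∧ ∃ q ∈ Q, ∃ i : ℕ,
    g = o * q * y ^ i ∨ g = o * q * (y ^ i * τ)

theorem eq_one_of_odd {o : G} (ho : Odd (orderOf o)) {k : ℕ} (h : o ^ 2 ^ k = 1) : o = 1 :=
  orderOf_eq_one_iff.1 (Nat.eq_one_of_dvd_coprimes (Nat.Coprime.pow_left k ((Nat.coprime_two_left).2 ho))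
    (orderOf_dvd_of_pow_eq_one h) dvd_rfl)

theorem SS.claim {T : Sylow 2 G} {Q : Subgroup G} {t y τ : G} (c : SS T Q t y τ) (h : Gl G) (hU : Uq T t) {a : G}
    (f : Nf Q t a) : Nf T t a ∨ Nf T t (y * a * y⁻¹) ∨ Nf T t (y * (y * a * y⁻¹) * y⁻¹) := by
  by_contra hh
  push Not at hh
  obtain ⟨n0, n1, n2⟩ := hh
  have uq := c.uqQ h hU
  have hn : ¬ Q ≤ Cn Q a := fun e => (uq a f.sT f.s2 fun g hg => (mem_Cn.1 (e hg)).2).elim f.s1 f.st
  have L := le2_Cn c.t2 (fun g hg => c.qt hg) f.cj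
  have ms : a ∈ Cn Q a := mem_Cn.2 ⟨f.sT, rfl⟩
  have om := om_of uq c.t2 (fun g hg => c.qt hg) Cn_le L hn ms f.s2 (fun g hg => (mem_Cn.1 hg).2) f.s1 f.st
  obtain ⟨q0, hq0, hq0'⟩ := exists_not_mem_of_not_le hn
  have cc := card_le2 L Cn_le hn
  have cQ := c.cardQ
  have f1 := c.nfy f
  have nm := c.not_md h f.sT (f.nzt c.t2)
  obtain ⟨r, r3, nr, rt, -⟩ := exists_r h T (τ := q0) c.t2 c.t1 c.tc f.s2 f.s1 f.st (c.pQ.to_le Cn_le)
    (mem_Cn.2 ⟨c.tQ, (c.qt f.sT).symm⟩) ms (fun g hg => c.qt (Cn_le hg)) (fun g hg => (mem_Cn.1 hg).2) om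
    (by have := Nat.card_pos (α := Cn Q a); omega) (fun S hS h1 h2 h3 g hg => by
      obtain ⟨o, ho, oc, q, hq, i, hi⟩ := c.dec g (h2 g hg)
      have key : ∀ w, g = o * q * w → Md t (w * a * w⁻¹) a := fun w e => by
        have e1 := cj_eq (h3 g hg)
        have e2 := cj_eq ((show Commute o a from oc a f.sT).inv_left)
        have : w * a * w⁻¹ = q⁻¹ * a * q⁻¹⁻¹ := by
          calc _ = q⁻¹ * (o⁻¹ * (g * a * g⁻¹) * o⁻¹⁻¹) * q⁻¹⁻¹ := by rw [e]; group
            _ = _ := by rw [e1, e2]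
        rw [this]
        exact f.md (inv_mem hq)
      rcases hi with e | e
      · have k := key _ e
        rcases pow_cases c.y3 i with e' | e' | e' <;> rw [e'] at k e
        · obtain ⟨m, hm⟩ := exists_pow_two hS hg
          obtain ⟨n, hn⟩ := exists_pow_two c.pQ hq
          rw [mul_one] at e
          have : o = 1 := eq_one_of_odd ho (k := m + n) (by
            have := (show Commute o q from oc q hq).mul_pow (2 ^ (m + n))
            rw [← e, pow_add, pow_mul, hm, one_pow, pow_mul' q, hn, one_pow, mul_one, ← pow_add] at this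
            exact this.symm)
          rw [this, one_mul] at e
          exact mem_Cn.2 ⟨e ▸ hq, h3 g hg⟩
        · exact absurd k nm
        · have := k.cj c.yt
          rw [show y * (y * y * a * (y * y)⁻¹) * y⁻¹ = a from (by simp only [mul_inv_rev, mul_assoc] : _ = y * (y * (y * a * y⁻¹) * y⁻¹) * y⁻¹).trans (cj3 c.y3 a)] at this
          exact absurd (this.symm c.t2) nm
      · have k := key _ e
        exfalso
        rcases pow_cases c.y3 i with e' | e' | e' <;> rw [e'] at k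
        · exact n0 (c.nfT f (by rwa [one_mul] at k))
        · refine n1 (c.nfT f1 ?_)
          rw [c.τ1]
          have := k.cj c.yt
          simpa [mul_assoc] using this
        · refine n2 (c.nfT (c.nfy f1) ?_)
          rw [c.τ2]
          have := (k.cj c.yt).cj c.yt
          rwa [show y * (y * (y * y * τ * a * (y * y * τ)⁻¹) * y⁻¹) * y⁻¹ = y * (τ * a * τ⁻¹) * y⁻¹ by
            rw [← cj3 c.y3 (y * (τ * a * τ⁻¹) * y⁻¹)]; simp only [mul_inv_rev, mul_assoc]] at this)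
    (nm_le2 L Cn_le hq0) (c.qt hq0) (f.flip hq0 fun e => hq0' (mem_Cn.2 ⟨hq0, e⟩))
  have r1 : r ≠ 1 := fun e => f.st (by rw [← rt, e]; simp)
  have m2 := c.mod2 h le_rfl c.tQ c.yQ
  have fp := h.sm.fp_bot r3 r1 (c.pQ.to_le Cn_le) nr (by omega)
  have m1 : y * a * y⁻¹ ∈ Cn Q a := mem_Cn.2 ⟨f1.sT, (c.nrm h f.sT f.s2).1.symm⟩
  have := om.mem m1 f1.s2 fun g hg => fp.comm_of_le2_bot m1
    (le2_Cn c.t2 (fun g hg => c.qt (Cn_le hg)) fun g hg => f1.cj g (Cn_le hg)) hg
  exact ((mem_V4 c.t2 f.s2 (c.qt f.sT)).1 this).elim (f1.nzt c.t2) nm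

end H50.SC6
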