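import Mathlib
import Cfsg.Agent.Lib.SC6.S2

/-! The case where the centraliser of an involution has a quotient `S₃`: the subgroups `W` and `K`. -/

set_option autoImplicit false
set_option linter.unusedSectionVars false
set_option linter.unusedVariables false

namespace H50.SC6

open Subgroup H70
open scoped commutatorElement

variable {G : Type*} [Group G] [Finite G]

/-- A normal four-subgroup of `T` and its conjugates under `y`. -/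
structure Tri (T : Sylow 2 G) (Q : Subgroup G) (t y τ s s1 s2 : G) : Prop extends S0 T Q t y τ where
  gl : Gl G
  uq : Uq T t
  f : Nf T t s
  e1 : y * s * y⁻¹ = s1
  e2 : y * s1 * y⁻¹ = s2

/-- The elementary abelian group generated by `t`, `s` and `s1`. -/
def W8 (t s s1 : G) : Subgroup G := V4 t s ⊔ zpowers s1

/-- The centraliser of `s` and `s1` in `Q`. -/
def KK (Q : Subgroup G) (s s1 : G) : Subgroup G := Cn (Cn Q s) s1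

theorem mem_KK {Q : Subgroup G} {s s1 x : G} : x ∈ KK Q s s1 ↔ x ∈ Q ∧ x * s = s * x ∧ x * s1 = s1 * x := by
  rw [KK, mem_Cn, mem_Cn, and_assoc]

theorem V4_W8 {t s s1 : G} : V4 t s ≤ W8 t s s1 := le_sup_left
theorem s1_W8 {t s s1 : G} : s1 ∈ W8 t s s1 := mem_sup_right (mem_zpowers s1)

namespace Tri
variable {T : Sylow 2 G} {Q : Subgroup G} {t y τ s s1 s2 : G} (c : Tri T Q t y τ s s1 s2)
include c

theorem e0 : y * s2 * y⁻¹ = s := by rw [← c.e2, ← c.e1, cj3 c.y3]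
theorem f0 : Nf Q t s := c.nfQ c.gl c.uq c.f
theorem f1 : Nf Q t s1 := c.e1 ▸ c.nfy c.f0
theorem f2 : Nf Q t s2 := c.e2 ▸ c.nfy c.f1
theorem st : s * t = t * s := c.qt c.f0.sT
theorem c01 : s * s1 = s1 * s := c.e1 ▸ (c.nrm c.gl c.f0.sT c.f0.s2).1
theorem m2 : Md t s2 (s * s1) := by
  have := (c.nrm c.gl c.f0.sT c.f0.s2).2
  rwa [c.e1, c.e2] at this
theorem n01 : ¬ Md t s1 s := c.e1 ▸ c.not_md c.gl c.f0.sT (c.f0.nzt c.t2)
theorem n12 : ¬ Md t s2 s1 := c.e2 ▸ c.not_md c.gl c.f1.sT (c.f1.nzt c.t2)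
theorem τs1 : Md t (τ * s1 * τ⁻¹) s2 := by
  have := ((c.f.md c.τT).cj c.yt).cj c.yt
  rwa [← c.τ1, c.e1, c.e2] at this
theorem τs2 : Md t (τ * s2 * τ⁻¹) s1 := by
  have := (c.f.md c.τT).cj c.yt
  rwa [← c.τ2, c.e1, c.e2] at this

theorem out1 {g : G} (hg : g ∈ (T : Subgroup G)) (hq : g ∉ Q) : Md t (g * s1 * g⁻¹) s2 := by
  have := ((c.f1.md (c.le2.inv_mul c.τT hg c.τQ hq)).cj (c.tc τ c.τT)).trans c.t2 c.τs1
  simpa [mul_assoc] using this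

theorem comm2 {g : G} (ht : g * t = t * g) (h0 : g * s = s * g) (h1 : g * s1 = s1 * g) : g * s2 = s2 * g :=
  c.m2.comm ht ((show Commute g s from h0).mul_right h1)

theorem comm1 {g : G} (ht : g * t = t * g) (h0 : g * s = s * g) (h2 : g * s2 = s2 * g) : g * s1 = s1 * g := by
  have := (show Commute g s from h0).mul_right ((c.m2.symm c.t2).comm ht h2)
  rwa [← mul_assoc, c.f0.s2, one_mul] at this

theorem comm0 {g : G} (ht : g * t = t * g) (h1 : g * s1 = s1 * g) (h2 : g * s2 = s2 * g) : g * s = s * g := by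
  have := (show Commute g _ from (c.m2.symm c.t2).comm ht h2).mul_right h1
  rwa [mul_assoc, c.f1.s2, mul_one] at this

theorem memV {x : G} : x ∈ V4 t s ↔ x ∈ zpowers t ∨ Md t x s := mem_V4 c.t2 c.f0.s2 c.st

theorem n1V : Nm s1 (V4 t s) := fun d hd => by
  rwa [cj_eq (comm_V4 (c.qt c.f1.sT) c.c01.symm hd)]

theorem memW {x : G} : x ∈ W8 t s s1 ↔ x ∈ V4 t s ∨ x * s1 ∈ V4 t s := mem_sup2 c.n1V (c.f1.s2 ▸ one_mem _)

theorem s2W : s2 ∈ W8 t s s1 := c.m2.mem (V4_W8 t_V4) (mul_mem (V4_W8 s_V4) s1_W8)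

theorem W_le {X : Subgroup G} (ht : t ∈ X) (h0 : s ∈ X) (h1 : s1 ∈ X) : W8 t s s1 ≤ X :=
  sup_le (V4_le ht h0) (zpowers_le.2 h1)

theorem nmW {g : G} (ht : g * t * g⁻¹ ∈ W8 t s s1) (h0 : g * s * g⁻¹ ∈ W8 t s s1) (h1 : g * s1 * g⁻¹ ∈ W8 t s s1) :
    Nm g (W8 t s s1) := fun d hd =>
  c.W_le (X := (W8 t s s1).comap (MulAut.conj g).toMonoidHom) ht h0 h1 hd

theorem commW {g x : G} (ht : g * t = t * g) (h0 : g * s = s * g) (h1 : g * s1 = s1 * g) (hx : x ∈ W8 t s s1) :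
    g * x = x * g :=
  (mem_centralizer_singleton_iff.1 (c.W_le (X := centralizer {g}) (mem_centralizer_singleton_iff.2 ht.symm)
    (mem_centralizer_singleton_iff.2 h0.symm) (mem_centralizer_singleton_iff.2 h1.symm) hx)).symm

theorem nyW : Nm y (W8 t s s1) :=
  c.nmW (by rw [cj_eq c.yt]; exact V4_W8 t_V4) (c.e1 ▸ s1_W8) (c.e2 ▸ c.s2W)

theorem Ts1 {g : G} (hg : g ∈ (T : Subgroup G)) : g * s1 * g⁻¹ * s1⁻¹ ∈ V4 t s := by
  rw [c.memV]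
  by_cases hq : g ∈ Q
  · exact .inl ((c.f1.md hq).to_right (c.qt c.f1.sT))
  · have := (((c.out1 hg hq).trans c.t2 c.m2).mul c.t2 (Md.rfl' (a := s1⁻¹)) (c.qt (inv_mem c.f1.sT)))
    exact .inr (by simpa using this)

theorem nTV {g : G} (hg : g ∈ (T : Subgroup G)) : Nm g (V4 t s) :=
  nm_V4 c.t2 c.f0.s2 c.st (by rw [cj_eq (c.tc g hg)]; exact t_V4) ((c.f.md hg).mem t_V4 s_V4)

theorem nTW {g : G} (hg : g ∈ (T : Subgroup G)) : Nm g (W8 t s s1) :=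
  c.nmW (V4_W8 (c.nTV hg t t_V4)) (V4_W8 (c.nTV hg s s_V4)) (by
    simpa using mul_mem (V4_W8 (s1 := s1) (c.Ts1 hg)) (s1_W8 (s1 := s1)))

theorem WK : W8 t s s1 ≤ KK Q s s1 :=
  c.W_le (mem_KK.2 ⟨c.tQ, c.st.symm, (c.qt c.f1.sT).symm⟩) (mem_KK.2 ⟨c.f0.sT, rfl, c.c01⟩)
    (mem_KK.2 ⟨c.f1.sT, c.c01.symm, rfl⟩)

theorem W_sq {x : G} (hx : x ∈ W8 t s s1) : x * x = 1 := by
  have k : ∀ a ∈ KK Q s s1, a * a = 1 → (∀ q ∈ KK Q s s1, q * a = a * q) → a ∈ Oz (KK Q s s1) :=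
    fun a h1 h2 h3 => ⟨h1, h2, h3⟩
  exact (c.W_le (X := Oz (KK Q s s1)) (k t (c.WK (V4_W8 t_V4)) c.t2 fun q hq => c.qt (mem_KK.1 hq).1)
    (k s (c.WK (V4_W8 s_V4)) c.f0.s2 fun q hq => (mem_KK.1 hq).2.1)
    (k s1 (c.WK s1_W8) c.f1.s2 fun q hq => (mem_KK.1 hq).2.2) hx).2.1

theorem nyK : Nm y (KK Q s s1) := fun d hd => by
  obtain ⟨h1, h2, h3⟩ := mem_KK.1 hd
  exact mem_KK.2 ⟨c.yQ d h1, c.e0 ▸ comm_cj (c.comm2 (c.qt h1) h2 h3) y, c.e1 ▸ comm_cj h2 y⟩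

theorem nTK {g : G} (hg : g ∈ (T : Subgroup G)) : Nm g (KK Q s s1) := fun d hd => by
  obtain ⟨h1, h2, h3⟩ := mem_KK.1 hd
  have k : ∀ w ∈ W8 t s s1, g * d * g⁻¹ * w = w * (g * d * g⁻¹) := fun w hw => by
    have := comm_cj (c.commW (c.qt h1) h2 h3 ((c.nTW hg).inv w hw)) g
    simpa [mul_assoc] using this
  exact mem_KK.2 ⟨c.nQ hg d h1, k s (V4_W8 s_V4), k s1 s1_W8⟩

theorem memK {d : G} (hd : d ∈ (T : Subgroup G)) (h0 : d * s = s * d) (h1 : d * s1 = s1 * d) : d ∈ KK Q s s1 := by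
  refine mem_KK.2 ⟨?_, h0, h1⟩
  by_contra hq
  have := c.out1 hd hq
  rw [cj_eq h1] at this
  exact c.n12 (this.symm c.t2)

theorem L0 : Le2 (Cn Q s) Q := le2_Cn c.t2 (fun g hg => c.qt hg) c.f0.cj

theorem L1 : Le2 (KK Q s s1) (Cn Q s) := le2_Cn c.t2 (fun g hg => c.qt (Cn_le hg)) fun g hg => c.f1.cj g (Cn_le hg)

theorem not0 : ¬ Q ≤ Cn Q s := fun e =>
  (c.uqQ c.gl c.uq s c.f0.sT c.f0.s2 fun g hg => (mem_Cn.1 (e hg)).2).elim c.f0.s1 c.f0.st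

theorem not1 : ¬ Cn Q s ≤ KK Q s s1 := fun e =>
  c.not0 ((c.fpQ c.gl).le_of_le2 (fun d hd => (mem_Cn.1 (c.nyK d (e hd))).1)
    (zpowers_le.2 (mem_Cn.2 ⟨c.tQ, c.st.symm⟩)) c.L0)

theorem sqK {q : G} (hq : q ∈ Q) : q * q ∈ KK Q s s1 :=
  mem_KK.2 ⟨mul_mem hq hq, (mem_Cn.1 (c.L0.sq_mem hq)).2,
    (mem_Cn.1 ((le2_Cn c.t2 (fun g hg => c.qt hg) c.f1.cj).sq_mem hq)).2⟩

theorem nn : ∀ d ∈ Q, Nm d (zpowers t) := fun d hd => nm_zt c.t2 (c.qt hd)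

theorem Wcen {w q : G} (hw : w ∈ W8 t s s1) (hq : q ∈ Q) : w * q * w⁻¹ * q⁻¹ ∈ zpowers t := by
  have k : ∀ a, Nf Q t a → a ∈ Act Q (zpowers t) := fun a fa => mem_Act (zpowers_le.2 c.tQ) fun x hx => by
    have := (fa.md hx).to_left
    simpa [inv_self fa.s2, mul_assoc] using this
  exact (c.W_le (X := Act Q (zpowers t)) (mem_Act (zpowers_le.2 c.tQ) fun x hx => by
    rw [cj_eq (c.qt hx).symm]; simp) (k s c.f0) (k s1 c.f1) hw).2.2 q hq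

theorem small (hK : KK Q s s1 ≤ W8 t s s1) : ∃ a, Nf Q t a ∧ a ∉ W8 t s s1 := by
  obtain ⟨q, hq, hq'⟩ := exists_not_mem_of_not_le c.not1
  have qQ := Cn_le hq
  have nc : q * s1 ≠ s1 * q := fun e => hq' (mem_Cn.2 ⟨hq, e⟩)
  have fp := c.fpQ c.gl
  have le : Cn Q s ≤ Cm Q (zpowers t) q c.nn :=
    c.L1.le_of_mem (fun x hx => ⟨(mem_KK.1 hx.1).1, c.Wcen (hK hx.1) qQ⟩) hq hq' ⟨qQ, by simp⟩
  have cen : ∀ x ∈ Q, Md t (x * q * x⁻¹) q := fun x hx => .of_right c.t2 (c.qt qQ)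
    (fp.comm_of_le2 (zpowers_le.2 c.tQ) qQ c.L0 (fun x hx _ => (le hx).2) hx)
  have q2 : q * q = 1 ∨ q * q = t := c.uqQ c.gl c.uq _ (mul_mem qQ qQ) (c.W_sq (hK (c.sqK qQ))) fun g hg =>
    comm_of_cj (by
      calc g * (q * q) * g⁻¹ = g * q * g⁻¹ * (g * q * g⁻¹) := by group
        _ = q * q := by
          rcases cen g hg with e | e <;> rw [e]
          rw [mul_assoc, ← mul_assoc t, ← c.qt qQ, mul_assoc q t, c.t2, mul_one])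
  have out : ∀ a, a * s1 ≠ s1 * a → a ∉ W8 t s s1 := fun a h1 h2 => h1 (mem_KK.1 (c.WK h2)).2.2
  rcases q2 with e | e
  · exact ⟨q, c.nf_of qQ e (fun h => out q nc (V4_W8 (zpowers_le.2 t_V4 h))) cen, out q nc⟩
  · have nc' : q * s1 * s1 ≠ s1 * (q * s1) := fun h => nc (mul_right_cancel (h.trans (mul_assoc ..).symm))
    refine ⟨q * s1, c.nf_of (mul_mem qQ c.f1.sT) ?_ (fun h => out _ nc' (V4_W8 (zpowers_le.2 t_V4 h))) fun x hx => ?_,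
      out _ nc'⟩
    · have e1 := c.f1.flip qQ nc
      calc q * s1 * (q * s1) = q * s1 * q⁻¹ * (q * q) * s1 := by group
        _ = s1 * (t * t) * s1 := by rw [e1, e]; group
        _ = 1 := by rw [c.t2, mul_one, c.f1.s2]
    · have := (cen x hx).mul c.t2 (c.f1.md hx) (c.qt c.f1.sT)
      simpa [mul_assoc] using this

theorem inQ (hK : ¬ KK Q s s1 ≤ W8 t s s1) {e : G} (he : e ∈ (T : Subgroup G))
    (hc : ∀ x ∈ KK Q s s1, e * x * e⁻¹ * x⁻¹ ∈ W8 t s s1) : e ∈ Q := by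
  by_contra hq
  exact hK (c.outer c.gl (fun x hx => (mem_KK.1 hx).1) c.WK (V4_W8 t_V4) c.nyK c.nyW (fun q hq => c.nTK (c.QT hq))
    (fun q hq => c.nTW (c.QT hq)) he hq hc)

theorem KD {x : G} (hx : x ∈ KK Q s s1) : x ∈ Cn T s := mem_Cn.2 ⟨c.QT (mem_KK.1 hx).1, (mem_KK.1 hx).2.1⟩

theorem good (hK : ¬ KK Q s s1 ≤ W8 t s s1) (hβ : ∀ a, Nf Q t a → a ∈ W8 t s s1) {e : G} (he : e ∈ Cn T s)
    (e2 : e * e = 1) (hc : ∀ d ∈ Cn T s, d * e * d⁻¹ * e⁻¹ ∈ V4 t s) :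
    e ∈ W8 t s s1 ∨ (e ∈ KK Q s s1 ∧ ∀ x ∈ Q, x * e * x⁻¹ * e⁻¹ ∈ zpowers t ↔ x ∈ KK Q s s1) := by
  have eQ := c.inQ hK (Cn_le he) fun x hx => by
    have := inv_mem (V4_W8 (s1 := s1) (hc x (c.KD hx)))
    simpa [mul_assoc] using this
  have fp := c.fpQ c.gl
  have nC : Nm y (Cm Q (zpowers t) e c.nn) := fun d hd => ⟨c.yQ d hd.1, fp.cent hd.1 eQ hd.2⟩
  have tC : zpowers t ≤ Cm Q (zpowers t) e c.nn := zpowers_le.2 ⟨c.tQ, by rw [cj_eq (c.qt eQ).symm]; simp⟩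
  by_cases hQ : Q ≤ Cm Q (zpowers t) e c.nn
  · by_cases het : e ∈ zpowers t
    · exact .inl (V4_W8 (zpowers_le.2 t_V4 het))
    · exact .inl (hβ e (c.nf_of eQ e2 het fun q hq => .of_right c.t2 (c.qt eQ) (hQ hq).2))
  have L : Le2 (Cm Q (zpowers t) e c.nn) (Cn Q s) := fun a ha b hb h1 h2 => by
    have ha' : a ∈ Cn T s := mem_Cn.2 ⟨c.QT (Cn_le ha), (mem_Cn.1 ha).2⟩
    have hb' : b ∈ Cn T s := mem_Cn.2 ⟨c.QT (Cn_le hb), (mem_Cn.1 hb).2⟩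
    have m1 := (c.memV.1 (hc a ha')).resolve_left fun h => h1 ⟨Cn_le ha, h⟩
    have m2 := ((c.memV.1 (hc b hb')).resolve_left fun h => h2 ⟨Cn_le hb, h⟩).cj (c.qt (Cn_le ha))
    rw [cj_eq (mem_Cn.1 ha).2] at m2
    have := (m2.mul c.t2 m1 c.st).to_left
    rw [c.f0.s2] at this
    exact ⟨mul_mem (Cn_le ha) (Cn_le hb), by simpa [mul_assoc] using this⟩
  have le : Cm Q (zpowers t) e c.nn ≤ Cn Q s := fun x hx => by
    by_contra hx'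
    refine hQ (fp.le_of_le2 nC tC fun a ha b hb h1 h2 => ?_)
    have k1 : ∃ u ∈ Cm Q (zpowers t) e c.nn, u * a ∈ Cn Q s := by
      by_cases h : a ∈ Cn Q s
      · exact ⟨1, one_mem _, by rwa [one_mul]⟩
      · exact ⟨x, hx, c.L0 x hx.1 a ha hx' h⟩
    have k2 : ∃ u ∈ Cm Q (zpowers t) e c.nn, b * u ∈ Cn Q s := by
      by_cases h : b ∈ Cn Q s
      · exact ⟨1, one_mem _, by rwa [mul_one]⟩
      · exact ⟨x, hx, c.L0 b hb x hx.1 h hx'⟩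
    obtain ⟨u, hu, hu'⟩ := k1
    obtain ⟨v, hv, hv'⟩ := k2
    have := L _ hu' _ hv' (fun h => h1 ((mul_mem_cancel_left hu).1 h)) fun h => h2 ((mul_mem_cancel_right hv).1 h)
    rw [mul_assoc, mul_mem_cancel_left hu, ← mul_assoc, mul_mem_cancel_right hv] at this
    exact this
  have le' : Cm Q (zpowers t) e c.nn ≤ KK Q s s1 := fun x hx => mem_Cn.2 ⟨le hx, by
    have := comm_cj (mem_Cn.1 (le (nC.inv x hx))).2 y
    rw [c.e1] at this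
    simpa [mul_assoc] using this⟩
  refine .inr ⟨le' ⟨eQ, by simp⟩, fun x hx => ⟨fun h => le' ⟨hx, h⟩, fun h => ?_⟩⟩
  by_contra hn
  exact c.not1 (L.le_of_mem (fun a ha => le' ha.1) (mem_Cn.1 h).1 (fun h' => hn h'.2) h)

theorem D_not_le : ¬ Cn T s ≤ Q := fun e => by
  obtain ⟨q, hq, hq'⟩ := exists_not_mem_of_not_le c.not0
  have := le2_Cn c.t2 c.tc c.f.cj q (c.QT hq) τ c.τT (fun h => hq' (mem_Cn.2 ⟨hq, (mem_Cn.1 h).2⟩)) fun h => c.τQ (e h)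
  exact c.τQ ((mul_mem_cancel_left hq).1 (e this))

theorem caseW (hK : ¬ KK Q s s1 ≤ W8 t s s1) {r : G} (r3 : r * r * r = 1) (r1 : r ≠ 1) (nD : Nm r (Cn T s))
    (nW : Nm r (W8 t s s1)) : False := by
  have : Fact (Nat.Prime 2) := ⟨Nat.prime_two⟩
  have WQ : W8 t s s1 ≤ Q := fun x hx => (mem_KK.1 (c.WK hx)).1
  have WD : W8 t s s1 ≤ Cn T s := fun x hx => c.KD (c.WK hx)
  have pD : IsPGroup 2 (Cn T s) := T.isPGroup'.to_le Cn_le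
  obtain ⟨v, hv, v1, hvc⟩ := exists_fix r3 nW (c.mod2 c.gl WQ (V4_W8 t_V4) c.nyW)
  have fp : FP (Cn T s) (W8 t s s1) r := FP.of_fix r3 nD nW (fun d hd => c.nTW (Cn_le hd)) (pD.to_le WD) WD
    fun x hx e => by
      rcases c.gl.sm.fix r3 r1 pD (WD hv) v1 hvc hx e with e | e <;> rw [e]
      exacts [one_mem _, hv]
  obtain ⟨x, hx, hxW, -, hxc⟩ := H5.exists_step_of_le c.pQ (W8 t s s1) (N := KK Q s s1) (fun x hx => (mem_KK.1 hx).1)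
    (fun q hq => (c.nTK (c.QT hq)).norm) hK
  obtain ⟨d, hd, hdQ⟩ := exists_not_mem_of_not_le c.D_not_le
  refine hxW (c.outer c.gl (X := KK Q s s1 ⊓ Act Q (W8 t s s1)) (fun x hx => (mem_KK.1 hx.1).1)
    (fun w hw => ⟨c.WK hw, mem_Act WQ fun q hq => V4_W8 (zpowers_le.2 t_V4 (c.Wcen hw hq))⟩) (V4_W8 t_V4)
    (c.nyK.inf (nm_Act c.yQ c.nyW)) c.nyW
    (fun q hq => (c.nTK (c.QT hq)).inf (nm_Act (.of_mem hq) (c.nTW (c.QT hq)))) (fun q hq => c.nTW (c.QT hq))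
    (Cn_le hd) hdQ (fun a ha => fp.comm_of_le2 WD (c.KD ha.1) (c.le2.mono_right Cn_le) (fun q hq _ => ?_) hd)
    ⟨hx, mem_Act WQ hxc⟩)
  have := inv_mem (ha.2.2.2 q hq)
  simpa [mul_assoc] using this

theorem caseA {e : G} (he : e ∈ KK Q s s1) (e2 : e * e = 1) (hA : ∀ x ∈ KK Q s s1, x * e = e * x)
    (hc : ∀ x ∈ Cn Q s, x ∉ KK Q s s1 → Md t (x * e * x⁻¹ * e) s) : False := by
  obtain ⟨q, hq, hq'⟩ := exists_not_mem_of_not_le c.not1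
  have qQ := Cn_le hq
  have eZ : e ∈ Oz (KK Q s s1) := ⟨he, e2, hA⟩
  have nZ : Nm y (Oz (KK Q s s1)) := nm_Oz c.nyK
  have qZ : ∀ g ∈ Q, Nm g (Oz (KK Q s s1)) := fun g hg => nm_Oz (c.nTK (c.QT hg))
  have cm : ∀ a ∈ Oz (KK Q s s1), ∀ b ∈ Oz (KK Q s s1), a * b = b * a := fun a ha b hb => hb.2.2 a ha.1
  have fp := c.fpQ c.gl
  obtain ⟨q1, hq1⟩ : ∃ q1, y * q * y⁻¹ = q1 := ⟨_, rfl⟩
  obtain ⟨q2, hq2⟩ : ∃ q2, y * q1 * y⁻¹ = q2 := ⟨_, rfl⟩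
  have hq0 : y * q2 * y⁻¹ = q := by rw [← hq2, ← hq1, cj3 c.y3]
  have q1Q : q1 ∈ Q := hq1 ▸ c.yQ q qQ
  have q2Q : q2 ∈ Q := hq2 ▸ c.yQ q1 q1Q
  have q1s : q1 * s1 = s1 * q1 := hq1 ▸ c.e1 ▸ comm_cj (mem_Cn.1 hq).2 y
  have n1 : q1 * s ≠ s * q1 := fun h => hq' (c.nyK.iff.1 (hq1 ▸ mem_KK.2 ⟨q1Q, h, q1s⟩))
  have n0 : q * s1 ≠ s1 * q := fun h => hq' (mem_Cn.2 ⟨hq, h⟩)
  have q2s : q2 * s2 = s2 * q2 := hq2 ▸ c.e2 ▸ comm_cj q1s y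
  have q2K : q2 ∉ KK Q s s1 := fun h => hq' (hq0 ▸ c.nyK q2 h)
  have a2 : q2 * e * q2⁻¹ = q1 * (q * e * q⁻¹) * q1⁻¹ := by
    have m : (q1 * q)⁻¹ * q2 ∈ KK Q s s1 := by
      refine mem_Cn.2 ⟨c.L0.inv_mul (mul_mem q1Q qQ) q2Q
        (fun h => n1 (mem_Cn.1 ((mul_mem_cancel_right hq).1 h)).2)
        (fun h => q2K (mem_KK.2 ⟨q2Q, (mem_Cn.1 h).2, c.comm1 (c.qt q2Q) (mem_Cn.1 h).2 q2s⟩)), (mem_Cn.1
          ((le2_Cn c.t2 (fun g hg => c.qt hg) c.f1.cj).inv_mul (mul_mem q1Q qQ) q2Q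
          (fun h => n0 (mem_Cn.1 ((mul_mem_cancel_left (mem_Cn.2 ⟨q1Q, q1s⟩)).1 h)).2)
          (fun h => q2K (mem_KK.2 ⟨q2Q, c.comm0 (c.qt q2Q) (mem_Cn.1 h).2 q2s, (mem_Cn.1 h).2⟩)))).2⟩
    have := cj_eq (hA _ m)
    calc _ = q1 * q * ((q1 * q)⁻¹ * q2 * e * ((q1 * q)⁻¹ * q2)⁻¹) * (q1 * q)⁻¹ := by group
      _ = _ := by rw [this]; group
  have m0 := hc q hq hq'
  have m1 : Md t (q1 * (q * e * q⁻¹ * e) * q1⁻¹) s := (m0.cj (c.qt q1Q)).trans c.t2 (c.f0.md q1Q)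
  have nrm := fp.norm (mem_KK.1 he).1
  have eZ1 := nZ e eZ
  have eZ2 := nZ _ eZ1
  have dZ : q1 * e * q1⁻¹ * e ∈ Oz (KK Q s s1) := mul_mem (qZ q1 q1Q e eZ) eZ
  have nrd := fp.norm (mem_KK.1 dZ.1).1
  have dq : q1 * (q1 * e * q1⁻¹ * e) = q1 * e * q1⁻¹ * e * q1 := comm_of_cj (by
    have := cj_eq (hA _ (c.sqK q1Q))
    calc _ = q1 * q1 * e * (q1 * q1)⁻¹ * (q1 * e * q1⁻¹) := by group
      _ = _ := by rw [this, cm e eZ _ (qZ q1 q1Q e eZ)])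
  have r1 : q * (y * e * y⁻¹) * q⁻¹ * (y * e * y⁻¹) =
      y * (q1 * (q * e * q⁻¹ * e) * q1⁻¹) * y⁻¹ * (y * (q1 * e * q1⁻¹ * e) * y⁻¹) := by
    calc _ = y * (q2 * e * q2⁻¹ * e) * y⁻¹ := by rw [← hq0]; group
      _ = y * (q1 * (q * e * q⁻¹ * (e * e)) * q1⁻¹ * e) * y⁻¹ := by rw [a2, e2, mul_one]
      _ = _ := by group
  have r2 : q * (y * (y * e * y⁻¹) * y⁻¹) * q⁻¹ * (y * (y * e * y⁻¹) * y⁻¹) =
      y * (y * (q1 * e * q1⁻¹ * e) * y⁻¹) * y⁻¹ := by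
    rw [← hq0, ← hq2]; group
  have row : q * e * q⁻¹ * e * (q * (y * e * y⁻¹) * q⁻¹ * (y * e * y⁻¹)) *
      (q * (y * (y * e * y⁻¹) * y⁻¹) * q⁻¹ * (y * (y * e * y⁻¹) * y⁻¹)) = 1 := by
    have hn : q * (e * (y * e * y⁻¹) * (y * (y * e * y⁻¹) * y⁻¹)) * q⁻¹ =
        e * (y * e * y⁻¹) * (y * (y * e * y⁻¹) * y⁻¹) := by
      rcases (mem_zt c.t2).1 nrm with h | h <;> rw [h]
      · simp
      · exact cj_eq (c.qt qQ)
    have z := (mul_mem (mul_mem eZ eZ1) eZ2).2.1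
    have c1 := cm e eZ _ (qZ q qQ _ eZ1)
    have c2 := cm e eZ _ (qZ q qQ _ eZ2)
    have c3 := cm _ eZ1 _ (qZ q qQ _ eZ2)
    generalize y * (y * e * y⁻¹) * y⁻¹ = b at *
    generalize y * e * y⁻¹ = a at *
    calc _ = q * e * q⁻¹ * (e * (q * a * q⁻¹)) * (a * (q * b * q⁻¹)) * b := by simp only [mul_assoc]
      _ = q * e * q⁻¹ * (q * a * q⁻¹) * (e * (q * b * q⁻¹)) * (a * b) := by rw [c1, c3]; simp only [mul_assoc]
      _ = q * (e * a * b) * q⁻¹ * (e * a * b) := by rw [c2]; group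
      _ = 1 := by rw [hn, z]
  rw [r1, r2] at row
  have m2 := m1.cj c.yt
  rw [c.e1] at m2
  have tC : t ∈ centralizer {q1} := mem_centralizer_singleton_iff.2 (c.qt q1Q).symm
  have k1 := m2.mem tC (mem_centralizer_singleton_iff.2 q1s.symm)
  have k2 := zpowers_le.2 tC nrd
  have k3 : q1 * e * q1⁻¹ * e ∈ centralizer {q1} := mem_centralizer_singleton_iff.2 dq.symm
  rw [mul_assoc, mul_mem_cancel_left k3] at k2
  rw [mul_assoc, mul_assoc _ (y * _ * y⁻¹)] at row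
  have k4 : q * e * q⁻¹ * e ∈ centralizer {q1} := by
    rw [eq_inv_of_mul_eq_one_left row]
    exact inv_mem (mul_mem k1 k2)
  exact n1 (mem_centralizer_singleton_iff.1 ((m0.symm c.t2).mem tC k4)).symm

theorem beta (hβ : ∀ a, Nf Q t a → a ∈ W8 t s s1) : False := by
  by_cases hK : KK Q s s1 ≤ W8 t s s1
  · obtain ⟨a, h1, h2⟩ := c.small hK
    exact h2 (hβ a h1)
  obtain ⟨-, -, r, r3, nD, rt, rs⟩ := c.f.main c.gl c.toCe c.uq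
  have r1 : r ≠ 1 := fun e => c.f.st (by rw [← rt, e]; simp)
  have nV : Nm r (V4 t s) := nm_V4 c.t2 c.f0.s2 c.st (rt ▸ s_V4) (rs ▸ mul_mem s_V4 t_V4)
  have step : ∀ e ∈ Cn T s, (∀ d ∈ Cn T s, d * e * d⁻¹ * e⁻¹ ∈ V4 t s) →
      ∀ d ∈ Cn T s, d * (r * e * r⁻¹) * d⁻¹ * (r * e * r⁻¹)⁻¹ ∈ V4 t s := fun e he hc d hd => by
    have := nV _ (hc _ (nD.inv d hd))
    simpa [mul_assoc] using this
  have D1 : s1 ∈ Cn T s := c.KD (c.WK s1_W8)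
  have g1 := step s1 D1 fun d hd => c.Ts1 (Cn_le hd)
  have g2 := step _ (nD s1 D1) g1
  have a2 := sq_cj c.f1.s2 r
  have b2 := sq_cj a2 r
  have aD := nD s1 D1
  have bD := nD _ aD
  have b1 := cj3 r3 s1
  obtain ⟨a, ha⟩ : ∃ a, r * s1 * r⁻¹ = a := ⟨_, rfl⟩
  rw [ha] at g1 g2 a2 b2 aD bD b1
  obtain ⟨b, hb⟩ : ∃ b, r * a * r⁻¹ = b := ⟨_, rfl⟩
  rw [hb] at g2 b2 bD b1
  have tW : t ∈ W8 t s s1 := V4_W8 t_V4
  rcases c.good hK hβ aD a2 g1 with aW | ⟨aK, hA⟩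
  · exact c.caseW hK r3 r1 nD (c.nmW (V4_W8 (nV t t_V4)) (V4_W8 (nV s s_V4)) (ha ▸ aW))
  rcases c.good hK hβ bD b2 g2 with bW | ⟨bK, hB⟩
  · refine c.caseW hK r3 r1 nD ?_
    have := (c.nmW (V4_W8 (nV.inv t t_V4)) (V4_W8 (nV.inv s s_V4)) (by
      rwa [show r⁻¹ * s1 * r⁻¹⁻¹ = b by rw [← b1]; group])).inv
    rwa [inv_inv] at this
  have ab : b * a = a * b := by
    have := comm_cj (mem_KK.1 aK).2.2 r
    rwa [ha, hb] at this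
  have md : ∀ e, (∀ d ∈ Cn T s, d * e * d⁻¹ * e⁻¹ ∈ V4 t s) →
      (∀ x ∈ Q, x * e * x⁻¹ * e⁻¹ ∈ zpowers t ↔ x ∈ KK Q s s1) →
      ∀ x ∈ Cn Q s, x ∉ KK Q s s1 → Md t (x * e * x⁻¹ * e⁻¹) s := fun e h1 h2 x hx hx' =>
    (c.memV.1 (h1 x (mem_Cn.2 ⟨c.QT (Cn_le hx), (mem_Cn.1 hx).2⟩))).resolve_left fun h =>
      hx' ((h2 x (Cn_le hx)).1 h)
  have aV : ∀ v ∈ V4 t s, a * v = v * a := fun v hv => comm_V4 (c.tc a (Cn_le aD)) (mem_Cn.1 aD).2 hv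
  have abW : a * b ∈ W8 t s s1 := by
    refine (c.good hK hβ (mul_mem aD bD) (sq_of_comm a2 b2 ab.symm) fun d hd => ?_).resolve_right fun ⟨_, h⟩ => ?_
    · have := mul_mem (g1 d hd) (c.nTV (Cn_le aD) _ (g2 d hd))
      simpa [mul_assoc] using this
    · obtain ⟨q, hq, hq'⟩ := exists_not_mem_of_not_le c.not1
      refine hq' ((h q (Cn_le hq)).1 ?_)
      have m := (md b g2 hB q hq hq').cj (c.tc a (Cn_le aD))
      rw [cj_eq (mem_Cn.1 aD).2] at m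
      have := ((md a g1 hA q hq hq').mul c.t2 m c.st).to_left
      rw [c.f0.s2] at this
      simpa [mul_assoc] using this
  by_cases hKA : KK Q s s1 ≤ Cn (KK Q s s1) a
  · refine c.caseA aK a2 (fun x hx => (mem_Cn.1 (hKA hx)).2) fun x hx hx' => ?_
    have := md a g1 hA x hx hx'
    rwa [inv_self a2] at this
  have KQ : KK Q s s1 ≤ Q := fun x hx => (mem_KK.1 hx).1
  have cjA : ∀ x ∈ KK Q s s1, Md t (x * a * x⁻¹) a := fun x hx =>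
    .of_right c.t2 (c.qt (KQ aK)) ((hA x (KQ hx)).2 hx)
  have L := le2_Cn c.t2 (fun g hg => c.qt (KQ hg)) cjA
  have cc := card_le2 L Cn_le hKA
  have mK := c.mod2 c.gl KQ (c.WK tW) c.nyK
  have nA : Nm r (Cn (KK Q s s1) a) := by
    suffices h : Nm r⁻¹ (Cn (KK Q s s1) a) by simpa using h.inv
    intro x hx
    obtain ⟨h1, h2⟩ := mem_Cn.1 hx
    have h3 : x * b = b * x := by
      have := (show Commute x a from h2).mul_right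
        (c.commW (c.qt (KQ h1)) (mem_KK.1 h1).2.1 (mem_KK.1 h1).2.2 abW)
      rwa [← mul_assoc, a2, one_mul] at this
    have hD := nD.inv x (c.KD h1)
    refine mem_Cn.2 ⟨c.memK (Cn_le hD) (mem_Cn.1 hD).2 ?_, ?_⟩
    · have := comm_cj h2 r⁻¹
      rw [← ha] at this
      simpa [mul_assoc] using this
    · have := comm_cj h3 r⁻¹
      rw [← hb] at this
      simpa [mul_assoc] using this
  have fp := c.gl.sm.fp_bot r3 r1 (c.pQ.to_le (Cn_le.trans KQ)) nA (by omega)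
  have uA : y * a * y⁻¹ ∈ Cn (KK Q s s1) a := mem_Cn.2 ⟨c.nyK a aK, (c.nrm c.gl (KQ aK) a2).1.symm⟩
  have cu := fun x hx => fp.comm_of_le2_bot uA (le2_Cn c.t2 (fun g hg => c.qt (KQ (Cn_le hg))) fun g hg => by
    have := (cjA _ (c.nyK.inv g (Cn_le hg))).cj c.yt
    show Md t _ _
    simpa [mul_assoc] using this) (x := x) hx
  have yA : Nm y (Cn (KK Q s s1) a) := by
    suffices h : Nm y⁻¹ (Cn (KK Q s s1) a) by simpa using h.inv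
    intro x hx
    refine mem_Cn.2 ⟨c.nyK.inv x (Cn_le hx), ?_⟩
    have := comm_cj (cu x hx) y⁻¹
    simpa [mul_assoc] using this
  have := c.mod2 c.gl (Cn_le.trans KQ) (mem_Cn.2 ⟨c.WK tW, (c.qt (KQ aK)).symm⟩) yA
  omega

end Tri

end H50.SC6
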