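import Mathlib
import Cfsg.Agent.Lib.SC6.Gl
import Cfsg.Agent.Lib.Ree2.PSL0
import Cfsg.Prelude.Def_Classical

/-! Linear groups with a self-centralising element of order six. -/

set_option autoImplicit false
set_option linter.unusedSectionVars false
set_option linter.unusedVariables false

namespace H50.SC6

open Subgroup H64.SL2
open scoped MatrixGroups

section two

variable {F : Type*} [Field F]

theorem uni_pow {g : SL(2, F)} (h : tr g = 2) :
    (∀ i j, (g ^ 2) i j = 2 * g i j - (1 : SL(2, F)) i j) ∧ (∀ i j, (g ^ 3) i j = 3 * g i j - 2 * (1 : SL(2, F)) i j) ∧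
      ∀ i j, (g ^ 6) i j = 6 * g i j - 5 * (1 : SL(2, F)) i j := by
  have d := det_eq g
  have e : g 1 1 = 2 - g 0 0 := by rw [← h, tr]; ring
  have o00 : (1 : SL(2, F)) 0 0 = 1 := by simp
  have o01 : (1 : SL(2, F)) 0 1 = 0 := by simp
  have o10 : (1 : SL(2, F)) 1 0 = 0 := by simp
  have o11 : (1 : SL(2, F)) 1 1 = 1 := by simp
  rw [e] at d
  have h2 : ∀ i j, (g ^ 2) i j = 2 * g i j - (1 : SL(2, F)) i j := by
    simp only [Fin.forall_fin_two, pow_two, mul_apply', o00, o01, o10, o11, e]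
    refine ⟨⟨?_, ?_⟩, ?_, ?_⟩
    · linear_combination -d
    · ring
    · ring
    · linear_combination -d
  have h3 : ∀ i j, (g ^ 3) i j = 3 * g i j - 2 * (1 : SL(2, F)) i j := by
    simp only [Fin.forall_fin_two, pow_succ g 2, mul_apply', h2, o00, o01, o10, o11, e]
    refine ⟨⟨?_, ?_⟩, ?_, ?_⟩
    · linear_combination -2 * d
    · ring
    · ring
    · linear_combination -2 * d
  refine ⟨h2, h3, ?_⟩
  simp only [Fin.forall_fin_two, pow_add g 3 3, mul_apply', h3, o00, o01, o10, o11, e]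
  refine ⟨⟨?_, ?_⟩, ?_, ?_⟩
  · linear_combination -9 * d
  · ring
  · ring
  · linear_combination -9 * d

theorem uni_not_six {g : SL(2, F)} (h : tr g = 2) (h6 : g ^ 6 ∈ center SL(2, F)) :
    g ^ 2 ∈ center SL(2, F) ∨ g ^ 3 ∈ center SL(2, F) := by
  obtain ⟨h2, h3, h6'⟩ := uni_pow h
  have o00 : (1 : SL(2, F)) 0 0 = 1 := by simp
  have o01 : (1 : SL(2, F)) 0 1 = 0 := by simp
  have o10 : (1 : SL(2, F)) 1 0 = 0 := by simp
  have o11 : (1 : SL(2, F)) 1 1 = 1 := by simp
  simp only [mem_center_iff_entries, h2, h3, h6', o00, o01, o10, o11] at h6 ⊢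
  obtain ⟨a, b, c⟩ := h6
  by_cases t : (3 : F) = 0
  · exact .inr ⟨by rw [t]; ring, by rw [t]; ring, by rw [t]; ring⟩
  · refine .inl ⟨mul_left_cancel₀ t ?_, mul_left_cancel₀ t ?_, mul_left_cancel₀ t ?_⟩
    · linear_combination a
    · linear_combination b
    · linear_combination c

theorem psl2 [Fintype F] {x : PSL(2, F)} (hx : orderOf x = 6) (hC : ∀ g, g * x = x * g → g ∈ zpowers x) :
    Fintype.card F = 11 ∨ Fintype.card F = 13 := by
  obtain ⟨g, rfl⟩ := QuotientGroup.mk_surjective x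
  have ne : ∀ {k : ℕ}, 0 < k → k < 6 → ∀ a : SL(2, F), (a : PSL(2, F)) = g → a ^ k ∉ center SL(2, F) := by
    intro k k0 k6 a ha hk
    have := orderOf_dvd_of_pow_eq_one (x := (g : PSL(2, F))) (n := k) (by
      rw [← ha, ← QuotientGroup.mk_pow, QuotientGroup.eq_one_iff]; exact hk)
    rw [hx] at this
    exact absurd (Nat.le_of_dvd k0 this) (by omega)
  have key : ∀ a : SL(2, F), (a : PSL(2, F)) = g → tr a ≠ 2 := fun a ha h => by
    have h6 : a ^ 6 ∈ center SL(2, F) := by
      rw [← QuotientGroup.eq_one_iff, QuotientGroup.mk_pow, ha, ← hx, pow_orderOf_eq_one]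
    rcases uni_not_six h h6 with e | e
    · exact ne (by norm_num) (by norm_num) a ha e
    · exact ne (by norm_num) (by norm_num) a ha e
  have h4 : tr g ^ 2 ≠ 4 := fun h => by
    have : (tr g - 2) * (tr g + 2) = 0 := by linear_combination h
    rcases mul_eq_zero.1 this with e | e
    · exact key g rfl (by linear_combination e)
    · refine key (-g) ?_ (by rw [tr_neg]; linear_combination -e)
      rw [QuotientGroup.eq]
      have : (-g)⁻¹ * g = -1 := by
        rw [inv_mul_eq_iff_eq_mul, H14.JR.sl_mul_neg, mul_one, neg_neg]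
      rw [this]; exact neg_one_mem_center
  set C := centralizer ({g} : Set SL(2, F)) with hCd
  have hZ : center SL(2, F) ≤ C := center_le_centralizer _
  have hm : C.map (QuotientGroup.mk' (center SL(2, F))) = zpowers (g : PSL(2, F)) := by
    refine le_antisymm ?_ ?_
    · rintro _ ⟨a, ha, rfl⟩
      refine hC _ ?_
      rw [QuotientGroup.mk'_apply, ← QuotientGroup.mk_mul, ← QuotientGroup.mk_mul,
        (mem_centralizer_singleton_iff.1 ha)]
    · rw [zpowers_le]
      exact ⟨g, mem_centralizer_singleton_iff.2 rfl, rfl⟩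
  have hc : Nat.card C = Nat.card (center SL(2, F)) * 6 := by
    have a := relIndex_ker C (QuotientGroup.mk' (center SL(2, F)))
    rw [hm, Nat.card_zpowers, hx, QuotientGroup.ker_mk', relIndex] at a
    rw [← a, ← Nat.card_congr (subgroupOfEquivOfLe hZ).toEquiv, card_mul_index]
  have hq := H14.JR.card_cent_cases h4
  rw [← hCd, hc, H10.card_center_SL, Fintype.card_fin, Nat.card_eq_fintype_card] at hq
  have q2 : 2 ≤ Fintype.card F := Fintype.one_lt_card
  rcases Nat.even_or_odd' (Fintype.card F) with ⟨k, hk | hk⟩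
  · have : Nat.gcd 2 (Fintype.card F - 1) = 1 := by
      rw [← Nat.coprime_iff_gcd_eq_one, Nat.coprime_two_left, hk]
      exact ⟨k - 1, by omega⟩
    rw [this] at hq
    omega
  · have : Nat.gcd 2 (Fintype.card F - 1) = 2 := Nat.gcd_eq_left ⟨k, by omega⟩
    rw [this] at hq
    omega

end two

section three

variable {F : Type*} [Field F]

/-- Diagonal matrices of determinant one. -/
def dg (a b : Fˣ) : SL(3, F) :=
  ⟨!![(a : F), 0, 0; 0, (b : F), 0; 0, 0, ((a * b)⁻¹ : Fˣ)], by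
    rw [Matrix.det_fin_three]; simp; field_simp⟩

/-- The cyclic permutation matrix. -/
def pm : SL(3, F) := ⟨!![0, 1, 0; 0, 0, 1; 1, 0, 0], by rw [Matrix.det_fin_three]; simp⟩

theorem dg_val (a b : Fˣ) : (dg a b).1 = !![(a : F), 0, 0; 0, (b : F), 0; 0, 0, ((a * b)⁻¹ : Fˣ)] := rfl

theorem pm_val : (pm : SL(3, F)).1 = !![0, 1, 0; 0, 0, 1; 1, 0, 0] := rfl

theorem mul3 (g h : SL(3, F)) (i j : Fin 3) :
    (g * h).1 i j = g.1 i 0 * h.1 0 j + g.1 i 1 * h.1 1 j + g.1 i 2 * h.1 2 j := by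
  rw [show (g * h).1 = g.1 * h.1 from rfl, Matrix.mul_apply, Fin.sum_univ_three]

theorem dg_mul (a b c d : Fˣ) : dg a b * dg c d = dg (a * c) (b * d) := by
  refine Subtype.ext ?_
  ext i j
  fin_cases i <;> fin_cases j <;> simp [dg_val, mul3, -Matrix.SpecialLinearGroup.coe_mul]
  ring

theorem dg_one : dg (1 : Fˣ) 1 = 1 := by
  refine Subtype.ext ?_
  ext i j
  fin_cases i <;> fin_cases j <;> simp [dg_val]

theorem dg_pow (a b : Fˣ) (n : ℕ) : dg a b ^ n = dg (a ^ n) (b ^ n) := by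
  induction n with
  | zero => simp [dg_one]
  | succ n ih => rw [pow_succ, ih, dg_mul, pow_succ, pow_succ]

theorem dg_pm {a b : Fˣ} (h : dg a b * pm = pm * dg a b) : a = b ∧ a ^ 3 = 1 := by
  have e := fun i j => congrFun (congrFun (congrArg Subtype.val h) i) j
  have e1 := e 0 1
  have e2 := e 1 2
  simp [dg_val, pm_val, mul3, -Matrix.SpecialLinearGroup.coe_mul] at e1 e2
  obtain rfl := Units.ext e1
  refine ⟨rfl, Units.ext ?_⟩
  have := a.ne_zero
  field_simp at e2
  simpa using e2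

theorem block (h2 : (2 : F) ≠ 0) {y : SL(3, F)} (h : y * dg (-1) (-1) = dg (-1) (-1) * y) (a : Fˣ) :
    dg a a * y = y * dg a a := by
  have e := fun i j => congrFun (congrFun (congrArg Subtype.val h) i) j
  have z : ∀ x : F, x = -x → x = 0 := fun x hx => mul_left_cancel₀ h2 (by linear_combination hx)
  have e02 := e 0 2
  have e12 := e 1 2
  have e20 := e 2 0
  have e21 := e 2 1
  simp [dg_val, mul3, -Matrix.SpecialLinearGroup.coe_mul] at e02 e12 e20 e21
  replace e02 := z _ e02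
  replace e12 := z _ e12
  replace e20 := z _ e20.symm
  replace e21 := z _ e21.symm
  refine Subtype.ext ?_
  ext i j
  fin_cases i <;> fin_cases j <;> simp [dg_val, mul3, -Matrix.SpecialLinearGroup.coe_mul, e02, e12, e20, e21, mul_comm]

theorem scalar (h2 : (2 : F) ≠ 0) {c : SL(3, F)} (h1 : c * dg (-1) (-1) = dg (-1) (-1) * c)
    (h1' : c * dg (-1) 1 = dg (-1) 1 * c) (hp : c * pm = pm * c) : c * c * c = 1 := by
  have e := fun i j => congrFun (congrFun (congrArg Subtype.val h1) i) j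
  have f := fun i j => congrFun (congrFun (congrArg Subtype.val h1') i) j
  have p := fun i j => congrFun (congrFun (congrArg Subtype.val hp) i) j
  have z : ∀ x : F, x = -x → x = 0 := fun x hx => mul_left_cancel₀ h2 (by linear_combination hx)
  have e02 := e 0 2
  have e12 := e 1 2
  have e20 := e 2 0
  have e21 := e 2 1
  have e01 := f 0 1
  have e10 := f 1 0
  have p1 := p 0 1
  have p2 := p 1 2
  simp [dg_val, pm_val, mul3, -Matrix.SpecialLinearGroup.coe_mul] at e02 e12 e20 e21 e01 e10 p1 p2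
  replace e02 := z _ e02
  replace e12 := z _ e12
  replace e20 := z _ e20.symm
  replace e21 := z _ e21.symm
  replace e01 := z _ e01
  replace e10 := z _ e10.symm
  have d := c.2
  rw [Matrix.det_fin_three] at d
  simp [e02, e12, e20, e21, e01, e10, ← p2, ← p1] at d
  refine Subtype.ext ?_
  ext i j
  fin_cases i <;> fin_cases j <;>
    simp [mul3, -Matrix.SpecialLinearGroup.coe_mul, e02, e12, e20, e21, e01, e10, ← p2, ← p1, d]

variable {G : Type*} [Group G] [Finite G]

theorem lin3 (h2 : (2 : F) ≠ 0) {H : Type*} [Group H] (ι : H →* SL(3, F)) (hι : Function.Injective ι)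
    (A : Subgroup Fˣ) (hA : ∀ a ∈ A, ∀ b ∈ A, ∃ d, ι d = dg a b) (Am : -1 ∈ A) (hP : ∃ p, ι p = pm)
    (π : H →* G) (hπ : Function.Surjective π) (hk : ∀ c, π c = 1 ↔ c ∈ center H) (h : Gl G) {t y : G}
    (t2 : t * t = 1) (t1 : t ≠ 1) (y3 : y * y * y = 1) (y1 : y ≠ 1) (yt : y * t = t * y) :
    ∀ a ∈ A, a * a = 1 := by
  obtain ⟨p, hp⟩ := hP
  have m1 : (-1 : Fˣ) ≠ 1 := fun e => h2 (by
    have := congrArg Units.val e
    simp only [Units.val_neg, Units.val_one] at this
    linear_combination -this)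
  have cen : ∀ {d : H} {a b : Fˣ}, ι d = dg a b → π d = 1 → a = b ∧ a ^ 3 = 1 := fun hd e =>
    dg_pm (by rw [← hd, ← hp, ← map_mul, ← map_mul, mem_center_iff.1 ((hk _).1 e) p])
  have com : ∀ {d e : H} {a b a' b' : Fˣ}, ι d = dg a b → ι e = dg a' b' → π d * π e = π e * π d :=
    fun hd he => by
      rw [← map_mul, ← map_mul]
      congr 1
      exact hι (by rw [map_mul, map_mul, hd, he, dg_mul, dg_mul, mul_comm, mul_comm _ (_ : Fˣ)]; congr 1; exact mul_comm _ _)
  obtain ⟨u, hu⟩ := hA _ Am _ Am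
  obtain ⟨v, hv⟩ := hA _ Am _ A.one_mem
  have uu : u * u = 1 := hι (by rw [map_mul, hu, dg_mul, map_one, ← dg_one]; simp)
  have vv : v * v = 1 := hι (by rw [map_mul, hv, dg_mul, map_one, ← dg_one]; simp)
  have u2 : π u * π u = 1 := by rw [← map_mul, uu, map_one]
  have v2 : π v * π v = 1 := by rw [← map_mul, vv, map_one]
  have u1 : π u ≠ 1 := fun e => m1 (by have := (cen hu e).2; rwa [Odd.neg_one_pow (by decide)] at this)
  have v1 : π v ≠ 1 := fun e => m1 (cen hv e).1
  have uv : π u ≠ π v := fun e => by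
    have : ι (u * v) = dg 1 (-1) := by rw [map_mul, hu, hv, dg_mul]; simp
    exact m1 (cen this (by rw [map_mul, e, v2])).1.symm
  have no3 : ∀ w ∈ A, w ^ 3 = 1 → w = 1 := fun w hw w3 => by
    by_contra w1
    obtain ⟨d, hd⟩ := hA _ A.one_mem _ hw
    refine h.sm.not_dvd u2 v2 u1 v1 uv (com hu hv) (com hd hu) (com hd hv) ?_
    rw [ord3 (ρ := π d) ?_ fun e => w1 (cen hd e).1.symm]
    rw [← pow_three', ← map_pow, show d ^ 3 = 1 from hι (by rw [map_pow, hd, dg_pow, one_pow, w3, dg_one, map_one]),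
      map_one]
  obtain ⟨g, hg⟩ := h.conj t (π u) t2 t1 u2 u1
  obtain ⟨Y, hY⟩ := hπ (g * y * g⁻¹)
  have Yu : π Y * π u = π u * π Y := by rw [hY, ← hg]; exact comm_cj yt g
  have Y3 : π Y * π Y * π Y = 1 := by
    rw [hY]
    calc _ = g * (y * y * y) * g⁻¹ := by group
      _ = 1 := by rw [y3]; group
  have Y1 : π Y ≠ 1 := by rw [hY]; exact cj_ne_one y1 g
  have hc : Y * u * Y⁻¹ * u⁻¹ ∈ center H := (hk _).1 (by
    rw [map_mul, map_mul, map_mul, map_inv, map_inv, Yu]; group)
  have c1 : Y * u * Y⁻¹ * u⁻¹ = 1 := by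
    set c := Y * u * Y⁻¹ * u⁻¹ with hcd
    have cc := mem_center_iff.1 hc
    have c3 : c * c * c = 1 := hι (by
      rw [map_mul, map_mul, map_one]
      exact scalar h2 (by rw [← hu, ← map_mul, ← map_mul, cc]) (by rw [← hv, ← map_mul, ← map_mul, cc])
        (by rw [← hp, ← map_mul, ← map_mul, cc]))
    have c2 : c * c = 1 := by
      have e : c * u = Y * u * Y⁻¹ := by rw [hcd]; group
      calc c * c = c * c * (u * u) := by rw [uu, mul_one]
        _ = c * (c * u) * u := by group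
        _ = c * (u * c) * u := by rw [cc u]
        _ = c * u * (c * u) := by group
        _ = 1 := by rw [e]; exact sq_cj uu Y
    rw [c2, one_mul] at c3
    exact c3
  have Yu' : Y * u = u * Y := comm_of_cj (by rw [← mul_inv_eq_one]; exact c1)
  intro a ha
  obtain ⟨d, hd⟩ := hA _ ha _ ha
  have dY : π d * π Y = π Y * π d := by
    rw [← map_mul, ← map_mul]
    congr 1
    exact hι (by rw [map_mul, map_mul, hd]; exact block h2 (by rw [← hu, ← map_mul, ← map_mul, Yu']) a)
  have d6 : π d ^ 6 = 1 := by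
    have a6 : π Y ^ 6 = 1 := by rw [show 6 = 3 * 2 from rfl, pow_mul, pow_three', Y3, one_pow]
    obtain ⟨k, e | e⟩ := h.six _ _ u2 u1 Y3 Y1 Yu _ (com hd hu) dY
    · rw [e, ← pow_mul, mul_comm, pow_mul, a6, one_pow]
    · rw [e, ((show Commute (π u) (π Y) from Yu.symm).pow_right k).mul_pow, ← pow_mul, mul_comm k, pow_mul _ 6, a6,
        one_pow, mul_one, show 6 = 2 * 3 from rfl, pow_mul, pow_two, u2, one_pow]
  have a18 := (cen (d := d ^ 6) (by rw [map_pow, hd, dg_pow]) (by rw [map_pow, d6])).2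
  have a6 := no3 _ (A.pow_mem ha 6) a18
  rw [← pow_two]
  exact no3 _ (A.pow_mem ha 2) (by rw [← pow_mul]; exact a6)

theorem units_le {A : Subgroup Fˣ} (h : ∀ a ∈ A, a * a = 1) {a : Fˣ} (ha : a ∈ A) : orderOf a ≤ 2 :=
  orderOf_le_of_pow_eq_one (by norm_num) (by rw [pow_two]; exact h a ha)

theorem psl3 [Fintype F] (ho : Odd (Fintype.card F)) (e : G ≃* PSL(3, F)) (h : Gl G) {t y : G}
    (t2 : t * t = 1) (t1 : t ≠ 1) (y3 : y * y * y = 1) (y1 : y ≠ 1) (yt : y * t = t * y) : Fintype.card F = 3 := by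
  have := lin3 (two_ne_zero_of_odd ho) (MonoidHom.id _) Function.injective_id ⊤ (fun a _ b _ => ⟨_, rfl⟩) (mem_top _)
    ⟨_, rfl⟩ (e.symm.toMonoidHom.comp (QuotientGroup.mk' _)) (e.symm.surjective.comp (QuotientGroup.mk'_surjective _))
    (fun c => by
      rw [MonoidHom.comp_apply, MulEquiv.coe_toMonoidHom, EmbeddingLike.map_eq_one_iff, QuotientGroup.mk'_apply,
        QuotientGroup.eq_one_iff]) h t2 t1 y3 y1 yt
  obtain ⟨γ, hγ⟩ := IsCyclic.exists_ofOrder_eq_natCard (α := Fˣ)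
  have l := units_le this (mem_top γ)
  rw [hγ, Nat.card_units, Nat.card_eq_fintype_card] at l
  have q2 : 2 ≤ Fintype.card F := Fintype.one_lt_card
  obtain ⟨k, hk⟩ := ho
  omega

theorem psu3 [Fintype F] {q : ℕ} (hq : Fintype.card F = q ^ 2) (ho : Odd q) (e : G ≃* Cfsg.PSU 3 F q) (h : Gl G)
    {t y : G} (t2 : t * t = 1) (t1 : t ≠ 1) (y3 : y * y * y = 1) (y1 : y ≠ 1) (yt : y * t = t * y) : False := by
  have q2 : 2 ≤ Fintype.card F := Fintype.one_lt_card
  have q3 : 3 ≤ q := by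
    obtain ⟨k, rfl⟩ := ho
    rcases k with _ | k
    · simp [hq] at q2
    · omega
  have := lin3 (two_ne_zero_of_odd (hq ▸ ho.pow)) (Cfsg.SU 3 F q).subtype (Subgroup.subtype_injective _)
    (powMonoidHom (q + 1) : Fˣ →* Fˣ).ker (fun a ha b hb => ⟨⟨dg a b, fun u v => by
      have ha' : (a : F) * a ^ q = 1 := by
        have := congrArg Units.val (MonoidHom.mem_ker.1 ha)
        simpa [pow_succ'] using this
      have hb' : (b : F) * b ^ q = 1 := by
        have := congrArg Units.val (MonoidHom.mem_ker.1 hb)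
        simpa [pow_succ'] using this
      have hc' : ((b : F)⁻¹ * (a : F)⁻¹) * ((b : F)⁻¹ * (a : F)⁻¹) ^ q = 1 := by
        rw [mul_pow, inv_pow, inv_pow, mul_mul_mul_comm, ← mul_inv, ← mul_inv, ha', hb']; simp
      simp [Cfsg.hermForm, dg_val, Matrix.mulVec, dotProduct, Fin.sum_univ_three, mul_pow] at hc' ⊢
      linear_combination (u 0 * v 0 ^ q) * ha' + (u 1 * v 1 ^ q) * hb' + (u 2 * v 2 ^ q) * hc'⟩, rfl⟩)
    (by rw [MonoidHom.mem_ker, powMonoidHom_apply]; exact ho.add_one.neg_one_pow)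
    ⟨⟨pm, fun u v => by
      simp [Cfsg.hermForm, pm_val, Matrix.mulVec, dotProduct, Fin.sum_univ_three]
      ring⟩, rfl⟩
    (e.symm.toMonoidHom.comp (QuotientGroup.mk' _)) (e.symm.surjective.comp (QuotientGroup.mk'_surjective _))
    (fun c => by
      rw [MonoidHom.comp_apply, MulEquiv.coe_toMonoidHom, EmbeddingLike.map_eq_one_iff, QuotientGroup.mk'_apply,
        QuotientGroup.eq_one_iff]) h t2 t1 y3 y1 yt
  obtain ⟨γ, hγ⟩ := IsCyclic.exists_ofOrder_eq_natCard (α := Fˣ)
  have f : q ^ 2 - 1 = (q - 1) * (q + 1) := by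
    obtain ⟨k, rfl⟩ : ∃ k, q = k + 1 := ⟨q - 1, by omega⟩
    rw [Nat.add_sub_cancel, Nat.sub_eq_iff_eq_add (Nat.one_le_pow _ _ (by omega))]; ring
  rw [Nat.card_units, Nat.card_eq_fintype_card, hq, f] at hγ
  have m := this (γ ^ (q - 1)) (by rw [MonoidHom.mem_ker, powMonoidHom_apply, ← pow_mul, ← hγ, pow_orderOf_eq_one])
  rw [← pow_two, ← pow_mul] at m
  have := Nat.le_of_dvd (Nat.mul_pos (by omega) (by norm_num)) (orderOf_dvd_of_pow_eq_one m)
  rw [hγ] at this
  have := Nat.le_of_mul_le_mul_left this (by omega)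
  omega

end three

end H50.SC6
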