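import Mathlib
import Cfsg.Agent.Lib.SC6.Gl

/-! Automorphisms of order three of a group of order at most sixteen. -/

set_option autoImplicit false
set_option linter.unusedSectionVars false
set_option linter.unusedVariables false

namespace H50.SC6

open Subgroup H70

theorem comm15 {M : Type*} [Group M] [Finite M] (h : Nat.card M ≤ 15) (ho : ¬ 2 ∣ Nat.card M) {a b : M}
    (a3 : a * a * a = 1) (b3 : b * b * b = 1) : a * b = b * a := by
  have : Fact (Nat.Prime 3) := ⟨Nat.prime_three⟩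
  by_cases a1 : a = 1
  · simp [a1]
  by_cases b1 : b = 1
  · simp [b1]
  obtain ⟨S, hS⟩ := (pg3 a3 a1).exists_le_sylow
  obtain ⟨S', hS'⟩ := (pg3 b3 b1).exists_le_sylow
  have c3 := card_dvd_of_le hS
  rw [Nat.card_zpowers, ord3 a3 a1] at c3
  have ci := (S : Subgroup M).card_mul_index
  have hi : (S : Subgroup M).index ≤ 5 := by
    have := Nat.le_of_dvd Nat.card_pos c3
    nlinarith
  have io : ¬ 2 ∣ (S : Subgroup M).index := fun e => ho (ci ▸ e.mul_left _)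
  have n1 := card_sylow_modEq_one 3 M
  have n2 := S.card_dvd_index
  have n3 : Nat.card (Sylow 3 M) = 1 := by
    have := Nat.le_of_dvd (Nat.pos_of_ne_zero (S : Subgroup M).index_ne_zero_of_finite) n2
    have h4 : Nat.card (Sylow 3 M) ≠ 4 := fun e => io (Dvd.dvd.trans (by rw [e]; norm_num) n2)
    unfold Nat.ModEq at n1
    omega
  obtain rfl : S = S' := (Nat.card_eq_one_iff_unique.1 n3).1.elim _ _
  obtain ⟨k, hk⟩ := S.isPGroup'.exists_card_eq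
  have hk2 : k ≤ 2 := by
    by_contra hh
    have := Nat.pow_le_pow_right (n := 3) (by norm_num) (show 3 ≤ k by omega)
    have := card_le_card_group (S : Subgroup M)
    omega
  have := H5.isMulCommutative_of_card_dvd_sq (G := (S : Subgroup M)) (p := 3) (hk ▸ pow_dvd_pow 3 hk2)
  exact congrArg Subtype.val (this.is_comm.comm ⟨a, hS (mem_zpowers a)⟩ ⟨b, hS' (mem_zpowers b)⟩)

theorem gamma0 {Γ X : Type*} [Group Γ] [Finite Γ] [MulAction Γ X] [Finite X] (P : Sylow 2 Γ) {x x0 : X}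
    (hX : Nat.card X ≤ 16) (hne : ∀ γ : Γ, γ • x ≠ x0) (st : ∀ γ : Γ, γ • x = x → γ ∈ (P : Subgroup Γ))
    (hP : normalizer (P : Set Γ) ≤ centralizer (P : Set Γ)) {a b : Γ} (a3 : a * a * a = 1) (b3 : b * b * b = 1) :
    a * b = b * a := by
  have : Fact (Nat.Prime 2) := ⟨Nat.prime_two⟩
  have hc := MonoidHom.ker_transferSylow_isComplement' P hP
  have cM : Nat.card (MonoidHom.transferSylow P hP).ker = (P : Subgroup Γ).index := hc.index_eq_card.symm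
  have hi : (P : Subgroup Γ).index ≤ 15 := by
    have i1 := Nat.le_of_dvd (Nat.pos_of_ne_zero index_ne_zero_of_finite)
      (index_dvd_of_le (show MulAction.stabilizer Γ x ≤ (P : Subgroup Γ) from st))
    rw [MulAction.index_stabilizer] at i1
    have : (MulAction.orbit Γ x).ncard < (Set.univ : Set X).ncard :=
      Set.ncard_lt_ncard (Set.ssubset_univ_iff.2 fun e => by
        obtain ⟨γ, hγ⟩ : x0 ∈ MulAction.orbit Γ x := e ▸ Set.mem_univ _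
        exact hne γ hγ)
    rw [Set.ncard_univ] at this
    omega
  have mem : ∀ γ, γ * γ * γ = 1 → γ ∈ (MonoidHom.transferSylow P hP).ker := fun γ e => by
    obtain ⟨k, hk⟩ := P.isPGroup' (MonoidHom.transferSylow P hP γ)
    exact eq_one_of_two_three hk (by rw [← map_mul, ← map_mul, e, map_one])
  exact congrArg Subtype.val (comm15 (M := (MonoidHom.transferSylow P hP).ker) (cM ▸ hi) (cM ▸ P.not_dvd_index)
    (a := ⟨_, mem _ a3⟩) (b := ⟨_, mem _ b3⟩) (Subtype.ext a3) (Subtype.ext b3))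

variable {G : Type*} [Group G] [Finite G]

theorem gamma (T : Sylow 2 G) {J : Subgroup G} {t : G} (hJ : Nat.card J ≤ 16) (tJ : t ∈ J) (t1 : t ≠ 1)
    (nT : ∀ g ∈ (T : Subgroup G), Nm g J) (tc : ∀ g ∈ (T : Subgroup G), g * t = t * g)
    (uq : ∀ j ∈ J, (∀ g ∈ (T : Subgroup G), g * j = j * g) → j = 1 ∨ j = t)
    (ab : ∀ a ∈ (T : Subgroup G), ∀ b ∈ (T : Subgroup G), ∀ j ∈ J, a * b * j * (a * b)⁻¹ = b * a * j * (b * a)⁻¹)
    (stab : ∀ n, Nm n J → n * t = t * n → ∃ g ∈ (T : Subgroup G), ∀ j ∈ J, n * j * n⁻¹ = g * j * g⁻¹)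
    {r0 r1 : G} (h0 : r0 * r0 * r0 = 1) (h1 : r1 * r1 * r1 = 1) (n0 : Nm r0 J) (n1 : Nm r1 J) :
    ∀ j ∈ J, r0 * r1 * j * (r0 * r1)⁻¹ = r1 * r0 * j * (r1 * r0)⁻¹ := by
  classical
  have : Fact (Nat.Prime 2) := ⟨Nat.prime_two⟩
  let φ := J.normalizerMonoidHom.rangeRestrict
  have hs : Function.Surjective φ := MonoidHom.rangeRestrict_surjective _
  have ap : ∀ (n : normalizer (J : Set G)) (j : J), ((φ n • j : J) : G) = n * j * (n : G)⁻¹ := fun _ _ => rfl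
  have key : ∀ a b : normalizer (J : Set G), φ a = φ b ↔ ∀ j ∈ J, (a : G) * j * (a : G)⁻¹ = b * j * (b : G)⁻¹ :=
    fun a b => ⟨fun e j hj => by rw [← ap a ⟨j, hj⟩, e, ap], fun e => Subtype.ext (MulEquiv.ext fun j =>
      Subtype.ext (e j j.2))⟩
  have hT : (T : Subgroup G) ≤ normalizer (J : Set G) := fun g hg => (nT g hg).norm
  let P := (T.subtype hT).mapSurjective hs
  have mP : ∀ γ, γ ∈ (P : Subgroup _) ↔ ∃ g, ∃ hg : g ∈ (T : Subgroup G), φ ⟨g, hT hg⟩ = γ := fun γ =>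
    ⟨fun ⟨g, hg, e⟩ => ⟨g, hg, e⟩, fun ⟨g, hg, e⟩ => ⟨_, hg, e⟩⟩
  have st : ∀ γ, γ • (⟨t, tJ⟩ : J) = ⟨t, tJ⟩ → γ ∈ (P : Subgroup _) := fun γ e => by
    obtain ⟨n, rfl⟩ := hs γ
    obtain ⟨g, hg, he⟩ := stab n (.of_norm n.2) (comm_of_cj (congrArg Subtype.val e))
    exact (mP _).2 ⟨g, hg, (key _ _).2 fun j hj => (he j hj).symm⟩
  have hP : normalizer (P : Set J.normalizerMonoidHom.range) ≤
      centralizer (P : Set J.normalizerMonoidHom.range) := by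
    intro γ hγ
    have m : γ ∈ (P : Subgroup _) := by
      refine st γ (Subtype.ext ?_)
      refine (uq _ (γ • (⟨t, tJ⟩ : J)).2 fun g hg => comm_of_cj ?_).resolve_left fun e => ?_
      · obtain ⟨g', hg', e⟩ := (mP _).1 (H72.inv_conj_mem_of_mem_normalizer hγ ((mP _).2 ⟨g, hg, rfl⟩))
        have e1 : φ ⟨g', hT hg'⟩ • (⟨t, tJ⟩ : J) = ⟨t, tJ⟩ := Subtype.ext (cj_eq (tc g' hg'))
        rw [e, mul_smul, mul_smul, inv_smul_eq_iff] at e1
        exact congrArg Subtype.val e1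
      · obtain ⟨n, rfl⟩ := hs γ
        exact cj_ne_one t1 n e
    refine mem_centralizer_iff.2 fun δ hδ => ?_
    obtain ⟨a, ha, rfl⟩ := (mP _).1 hδ
    obtain ⟨b, hb, rfl⟩ := (mP _).1 m
    rw [← map_mul, ← map_mul, key]
    exact ab a ha b hb
  have e0 : φ ⟨r0, n0.norm⟩ * φ ⟨r0, n0.norm⟩ * φ ⟨r0, n0.norm⟩ = 1 := by
    rw [← map_mul, ← map_mul, ← map_one φ]; exact congrArg φ (Subtype.ext h0)
  have e1 : φ ⟨r1, n1.norm⟩ * φ ⟨r1, n1.norm⟩ * φ ⟨r1, n1.norm⟩ = 1 := by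
    rw [← map_mul, ← map_mul, ← map_one φ]; exact congrArg φ (Subtype.ext h1)
  have := gamma0 P (x := (⟨t, tJ⟩ : J)) (x0 := 1) hJ (fun γ hγ => by
    obtain ⟨n, rfl⟩ := hs γ
    exact cj_ne_one t1 n (congrArg Subtype.val hγ)) st hP e0 e1
  exact (key (⟨r0, n0.norm⟩ * ⟨r1, n1.norm⟩) (⟨r1, n1.norm⟩ * ⟨r0, n0.norm⟩)).1 (by rw [map_mul, map_mul]; exact this)

/-- Two commuting actions of order three on an elementary abelian group. -/
theorem Sm.two_r (h : Sm G) {J : Subgroup G} (hJ : ∀ a ∈ J, ∀ b ∈ J, a * b = b * a) {t s u r0 r1 : G}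
    (tJ : t ∈ J) (sJ : s ∈ J) (uJ : u ∈ J) (J2 : ∀ a ∈ J, a * a = 1) (h0 : r0 * r0 * r0 = 1) (h1 : r1 * r1 * r1 = 1)
    (n0 : Nm r0 J) (n1 : Nm r1 J) (a0 : r0 * t * r0⁻¹ = s) (b0 : r0 * s * r0⁻¹ = s * t) (a1 : r1 * t * r1⁻¹ = u)
    (b1 : r1 * u * r1⁻¹ = u * t) (fp : ∀ j ∈ J, r0 * j * r0⁻¹ = j → j = 1) (us : u ≠ s) (us' : u * t ≠ s)
    (hc : ∀ j ∈ J, r0 * r1 * j * (r0 * r1)⁻¹ = r1 * r0 * j * (r1 * r0)⁻¹) : False := by
  have e1 : r1 * s * r1⁻¹ = r0 * u * r0⁻¹ := by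
    rw [← a0, ← a1]
    simpa [mul_assoc] using (hc t tJ).symm
  have c1 : r1 * (u * t) * r1⁻¹ = t := by rw [← b1, ← a1, cj3 h1]
  have jJ : s * (u * t) ∈ J := mul_mem sJ (mul_mem uJ tJ)
  have e2 : r0 * (s * (u * t)) * r0⁻¹ = r1 * (s * (u * t)) * r1⁻¹ := by
    have m := n0 u uJ
    calc _ = r0 * s * r0⁻¹ * (r0 * u * r0⁻¹) * (r0 * t * r0⁻¹) := by group
      _ = s * (t * (r0 * u * r0⁻¹) * s) := by rw [a0, b0]; group
      _ = r0 * u * r0⁻¹ * t := by rw [← hJ s sJ _ (mul_mem tJ m), ← mul_assoc, J2 s sJ, one_mul, hJ t tJ _ m]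
      _ = r1 * s * r1⁻¹ * (r1 * (u * t) * r1⁻¹) := by rw [c1, e1]
      _ = _ := by group
  have j1 : s * (u * t) ≠ 1 := fun e => us' (by rw [eq_inv_of_mul_eq_one_right e, inv_self (J2 s sJ)])
  generalize s * (u * t) = j at jJ e2 j1
  have sw : ∀ x ∈ J, r1⁻¹ * (r0 * x * r0⁻¹) * r1 = r0 * (r1⁻¹ * x * r1) * r0⁻¹ := fun x hx => by
    have := hc _ (n1.inv x hx)
    calc _ = r1⁻¹ * (r0 * r1 * (r1⁻¹ * x * r1⁻¹⁻¹) * (r0 * r1)⁻¹) * r1 := by group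
      _ = _ := by rw [this]; group
  have g1 : r1⁻¹ * r0 * j = j * (r1⁻¹ * r0) := comm_of_cj (by
    calc _ = r1⁻¹ * (r0 * j * r0⁻¹) * r1 := by group
      _ = j := by rw [e2]; group)
  have g2 : r1⁻¹ * r0 * (r0 * j * r0⁻¹) = r0 * j * r0⁻¹ * (r1⁻¹ * r0) := comm_of_cj (by
    calc _ = r1⁻¹ * (r0 * (r0 * j * r0⁻¹) * r0⁻¹) * r1 := by group
      _ = r0 * (r1⁻¹ * (r0 * j * r0⁻¹) * r1) * r0⁻¹ := sw _ (n0 j jJ)
      _ = _ := by rw [show r1⁻¹ * (r0 * j * r0⁻¹) * r1 = j by rw [e2]; group])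
  have nd := h.not_dvd (J2 j jJ) (J2 _ (n0 j jJ)) j1 (cj_ne_one j1 r0) (fun e => j1 (fp j jJ e.symm))
    (hJ j jJ _ (n0 j jJ)) g1 g2
  have g3 : Commute ((r1⁻¹ * r0) ^ 3) t := comm_of_cj (by
    have i1 := n1.inv
    have m1 : r1⁻¹ * t * r1 ∈ J := by simpa using i1 t tJ
    have m2 : r1⁻¹ * (r1⁻¹ * t * r1) * r1 ∈ J := by simpa using i1 _ m1
    have k3 : r1⁻¹ * (r1⁻¹ * (r1⁻¹ * t * r1) * r1) * r1 = t := by
      have := cj3 (ρ := r1⁻¹) (by rw [← mul_inv_rev, ← mul_inv_rev, ← mul_assoc, h1, inv_one]) t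
      simpa only [inv_inv] using this
    calc _ = r1⁻¹ * (r0 * (r1⁻¹ * (r0 * (r1⁻¹ * (r0 * t * r0⁻¹) * r1) * r0⁻¹) * r1) * r0⁻¹) * r1 := by
          simp only [pow_three', mul_inv_rev, inv_inv, mul_assoc]
      _ = t := by
        rw [sw t tJ, sw _ (n0 _ m1), sw _ m1, sw _ (n0 _ (n0 _ m2)), sw _ (n0 _ m2), sw _ m2, k3, cj3 h0])
  obtain ⟨k, hk⟩ := exists_pow_eq_self_of_coprime (x := r1⁻¹ * r0) (n := 3)
    ((Nat.Prime.coprime_iff_not_dvd Nat.prime_three).2 nd)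
  have g4 := cj_eq (hk ▸ g3.pow_left k : Commute (r1⁻¹ * r0) t)
  refine us ?_
  rw [← a1, ← a0]
  calc _ = r1 * (r1⁻¹ * r0 * t * (r1⁻¹ * r0)⁻¹) * r1⁻¹ := by rw [g4]
    _ = _ := by group

end H50.SC6
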