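import Mathlib
import Cfsg.Agent.Lib.SC6.S3
import Cfsg.Agent.Lib.SC6.Gam

/-! The case where the centraliser of an involution has a quotient `S₃`: two normal four-subgroups. -/

set_option autoImplicit false
set_option linter.unusedSectionVars false
set_option linter.unusedVariables false

namespace H50.SC6

open Subgroup H70
open scoped commutatorElement

variable {G : Type*} [Group G] [Finite G]

theorem comm_md {t a a' b b' : G} (ha : Md t a a') (hb : Md t b b') (h1 : a * t = t * a) (h2 : b' * t = t * b')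
    (e : a' * b' = b' * a') : a * b = b * a := hb.comm h1 (ha.comm h2 e.symm).symm

theorem comm_of_sq_odd {o j : G} (ho : Odd (orderOf o)) (h : o * o * j = j * (o * o)) : o * j = j * o := by
  obtain ⟨k, hk⟩ := exists_pow_eq_self_of_coprime (x := o) (n := 2) (Nat.coprime_two_left.2 ho)
  rw [← hk, pow_two]
  exact (show Commute (o * o) j from h).pow_left k

theorem card_sup2 {A : Subgroup G} {w : G} (hn : Nm w A) (hw : w * w ∈ A) :
    Nat.card (A ⊔ zpowers w : Subgroup G) ≤ 2 * Nat.card A := by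
  have := (le2_sup hn hw).card_le
  rwa [inf_eq_left.2 le_sup_left] at this

theorem fix_V4 {t s r z : G} (t2 : t * t = 1) (s2 : s * s = 1) (t1 : t ≠ 1) (s1 : s ≠ 1) (st : s ≠ t)
    (c : s * t = t * s) (rt : r * t * r⁻¹ = s) (rs : r * s * r⁻¹ = s * t) (hz : z ∈ V4 t s) (e : r * z = z * r) :
    z = 1 := by
  have e' := cj_eq e
  rcases (mem_V4 t2 s2 c).1 hz with h | h | h
  · refine ((mem_zt t2).1 h).resolve_right fun h => st ?_
    rw [← rt, ← h, e']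
  · rw [h, rs] at e'
    exact absurd (by simpa using e') t1
  · have : r * (s * t) * r⁻¹ = t := by
      calc _ = r * s * r⁻¹ * (r * t * r⁻¹) := by group
        _ = t := by rw [rs, rt, c, mul_assoc, s2, mul_one]
    rw [h, this] at e'
    exact absurd (by simpa using e') s1

namespace Tri
variable {T : Sylow 2 G} {Q : Subgroup G} {t y τ s s1 s2 u u1 u2 : G}

theorem m0 (c : Tri T Q t y τ s s1 s2) : Md t s (s1 * s2) := by
  have := (c.nrm c.gl c.f1.sT c.f1.s2).2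
  rwa [c.e2, c.e0] at this

theorem c12 (c : Tri T Q t y τ s s1 s2) : s1 * s2 = s2 * s1 := c.e2 ▸ (c.nrm c.gl c.f1.sT c.f1.s2).1

theorem test (c : Tri T Q t y τ s s1 s2) {b p p' : G} (f : Nf T t b) (hp : p ∈ Q) (m : Md t (τ * p * τ⁻¹) p')
    (e : b * p = p * b) : b * p' = p' * b :=
  comm_md ((f.md c.τT).symm c.t2) (m.symm c.t2) (c.tc b f.sT) (c.qt (c.nQ c.τT p hp)) (comm_cj e τ)

theorem alpha1 (c : Tri T Q t y τ s s1 s2) (d : Tri T Q t y τ u u1 u2) (hus : ¬ Md t u s)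
    (cl : ∀ a, Nf Q t a → Nf T t a ∨ Nf T t (y * a * y⁻¹) ∨ Nf T t (y * (y * a * y⁻¹) * y⁻¹)) :
    s * u = u * s ∧ s * u1 ≠ u1 * s ∧ s * u2 ≠ u2 * s := by
  have k1 := c.test c.f d.f1.sT d.τs1
  have k2 := c.test c.f d.f2.sT d.τs2
  suffices n : s * u1 ≠ u1 * s by
    refine ⟨d.m0.comm c.st (mem_Cn.1 (c.L0 u1 d.f1.sT u2 d.f2.sT (fun h => n (mem_Cn.1 h).2.symm)
      fun h => n (k2 (mem_Cn.1 h).2.symm))).2.symm, n, fun h => n (k2 h)⟩
  intro e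
  have tb : ∀ a a' b b', Md t (τ * a * τ⁻¹) a' → Md t (τ * b * τ⁻¹) b' → b' ∈ Q → Nf T t (a * b) →
      Md t (a' * b') (a * b) := fun a a' b b' h1 h2 hb f => by
    have := h1.mul c.t2 h2 (c.qt hb)
    rw [show τ * a * τ⁻¹ * (τ * b * τ⁻¹) = τ * (a * b) * τ⁻¹ by group] at this
    exact (this.symm c.t2).trans c.t2 (f.md c.τT)
  have fb : Nf Q t (s * u1) := c.nf_of (mul_mem c.f0.sT d.f1.sT) (sq_of_comm c.f0.s2 d.f1.s2 e) (fun h => by
      have m : Md t u1 s := .of_left c.t2 (by rwa [inv_self c.f0.s2])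
      exact d.n12 ((((d.τs1.symm c.t2).trans c.t2 (m.cj (c.tc τ c.τT))).trans c.t2 (c.f.md c.τT)).trans c.t2
        (m.symm c.t2))) fun q hq => by
    have := (c.f0.md hq).mul c.t2 (d.f1.md hq) (c.qt d.f1.sT)
    simpa [mul_assoc] using this
  have y1 : y * (s * u1) * y⁻¹ = s1 * u2 := by rw [← c.e1, ← d.e2]; group
  have y2 : y * (s1 * u2) * y⁻¹ = s2 * u := by rw [← c.e2, ← d.e0]; group
  have := cl _ fb
  rw [y1, y2] at this
  rcases this with f | f | f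
  · exact d.n12 (tb _ _ _ _ (c.f.md c.τT) d.τs1 d.f2.sT f).left
  · have m := tb _ _ _ _ c.τs1 d.τs2 d.f1.sT f
    have m' := ((Md.rfl' (a := s1)).mul c.t2 m (c.tc _ f.sT)).mul c.t2 (Md.rfl' (a := u1))
      (c.qt d.f1.sT)
    rw [mul_assoc, mul_assoc, d.f1.s2, mul_one, ← mul_assoc s1, c.f1.s2, one_mul, ← d.c12] at m'
    exact hus ((d.m0.trans c.t2 (m'.symm c.t2)).trans c.t2 (c.m0.symm c.t2))
  · exact c.n12 (((tb _ _ _ _ c.τs2 (d.f.md c.τT) d.f0.sT f).right (c.qt d.f0.sT)).symm c.t2)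

end Tri

/-- Two different normal four-subgroups of `T`. -/
structure Al (T : Sylow 2 G) (Q : Subgroup G) (t y τ s s1 s2 u u1 u2 : G) : Prop where
  c : Tri T Q t y τ s s1 s2
  d : Tri T Q t y τ u u1 u2
  ss : SS T Q t y τ
  us : ¬ Md t u s

namespace Al
variable {T : Sylow 2 G} {Q : Subgroup G} {t y τ s s1 s2 u u1 u2 : G} (h : Al T Q t y τ s s1 s2 u u1 u2)
include h

theorem symm : Al T Q t y τ u u1 u2 s s1 s2 := ⟨h.d, h.c, h.ss, fun e => h.us (e.symm h.c.t2)⟩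

theorem a1 : s * u = u * s ∧ s * u1 ≠ u1 * s ∧ s * u2 ≠ u2 * s :=
  h.c.alpha1 h.d h.us fun a f => h.ss.claim h.c.gl h.c.uq f

theorem cc {x : G} (hx : x ∈ KK Q s s1 ⊓ KK Q u u1) : x ∈ zpowers t := by
  have : Fact (Nat.Prime 2) := ⟨Nat.prime_two⟩
  obtain ⟨c, d, ss, us⟩ := id h
  revert x
  by_contra hn
  obtain ⟨x, hx, hxt, x2, hxc⟩ := H5.exists_step_of_le c.pQ (zpowers t) (N := KK Q s s1 ⊓ KK Q u u1)
    (fun x hx => (mem_KK.1 hx.1).1) (fun q hq => ((c.nTK (c.QT hq)).inf (d.nTK (c.QT hq))).norm) hn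
  have ny := c.nyK.inf d.nyK
  have xQ := (mem_KK.1 hx.1).1
  have cx : ∀ q ∈ Q, Md t (q * x * q⁻¹) x := fun q hq => .of_right c.t2 (c.qt xQ) (by
    have := inv_mem (hxc q hq)
    simpa [commutatorElement_def, mul_assoc] using this)
  obtain ⟨su, n1, n2⟩ := h.a1
  rw [pow_two] at x2
  rcases (mem_zt c.t2).1 x2 with e | e
  · have key : ∀ z ∈ KK Q s s1 ⊓ KK Q u u1, ¬ Nf T t z := fun z hz f =>
      (Al.a1 ⟨c, ⟨c.toS0, c.gl, c.uq, f, rfl, rfl⟩, ss, fun m =>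
        n1 ((m.symm c.t2).comm (c.qt d.f1.sT) (mem_KK.1 hz.2).2.2.symm).symm⟩).2.1 (mem_KK.1 (ny z hz).1).2.1.symm
    rcases ss.claim c.gl c.uq (c.nf_of xQ e hxt cx) with f | f | f
    exacts [key _ hx f, key _ (ny _ hx) f, key _ (ny _ (ny _ hx)) f]
  have mc : ∀ {a p : G}, a * p = p * a → a ∈ centralizer {p} := fun h => mem_centralizer_singleton_iff.2 h
  have cm : ∀ {a p : G}, a ∈ centralizer {p} → a * p = p * a := fun h => mem_centralizer_singleton_iff.1 h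
  obtain ⟨-, xs, xs1⟩ := mem_KK.1 hx.1
  obtain ⟨-, xu, xu1⟩ := mem_KK.1 hx.2
  have s1u1 : s1 * u1 = u1 * s1 := c.e1 ▸ d.e1 ▸ comm_cj su y
  have s2u2 : s2 * u2 = u2 * s2 := c.e2 ▸ d.e2 ▸ comm_cj s1u1 y
  have m1 : u1 * s2 ≠ s2 * u1 := fun e => n2 (c.e0 ▸ d.e2 ▸ comm_cj e.symm y)
  have m2 : u2 * s1 ≠ s1 * u2 := fun e => n1 (by
    have := comm_cj (comm_cj e.symm y) y
    rwa [c.e2, c.e0, d.e0, d.e1] at this)
  have fb : Nf Q t (s * u1 * x) := c.nf_of (mul_mem (mul_mem c.f0.sT d.f1.sT) xQ) (by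
      have e1 := c.f0.flip d.f1.sT n1.symm
      have e2 := cj_eq ((show Commute x s from xs).mul_right xu1)
      calc _ = s * u1 * (x * (s * u1) * x⁻¹) * (x * x) := by group
        _ = s * (u1 * s * u1⁻¹) * (u1 * u1) * t := by rw [e2, e]; group
        _ = 1 := by rw [e1, d.f1.s2, mul_one, ← mul_assoc, c.f0.s2, one_mul, c.t2])
    (fun hz => by
      have := zpowers_le.2 (mc c.st.symm) hz
      rw [mul_mem_cancel_right (mc xs), mul_mem_cancel_left (mc rfl)] at this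
      exact n1 (cm this).symm) fun q hq => by
    have := ((c.f0.md hq).mul c.t2 (d.f1.md hq) (c.qt d.f1.sT)).mul c.t2 (cx q hq) (c.qt xQ)
    simpa [mul_assoc] using this
  have hx1 := ny x hx
  have hx2 := ny _ hx1
  have y1 : y * (s * u1 * x) * y⁻¹ = s1 * u2 * (y * x * y⁻¹) := by rw [← c.e1, ← d.e2]; group
  have y2 : y * (s1 * u2 * (y * x * y⁻¹)) * y⁻¹ = s2 * u * (y * (y * x * y⁻¹) * y⁻¹) := by
    rw [← c.e2, ← d.e0]; group
  have := ss.claim c.gl c.uq fb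
  rw [y1, y2] at this
  generalize y * (y * x * y⁻¹) * y⁻¹ = x2 at *
  generalize y * x * y⁻¹ = x1 at *
  have W := fun z (hz : z ∈ KK Q s s1) w (hw : w ∈ W8 t s s1) =>
    mc (c.commW (c.qt (mem_KK.1 hz).1) (mem_KK.1 hz).2.1 (mem_KK.1 hz).2.2 hw)
  have W' := fun z (hz : z ∈ KK Q u u1) w (hw : w ∈ W8 t u u1) =>
    mc (d.commW (c.qt (mem_KK.1 hz).1) (mem_KK.1 hz).2.1 (mem_KK.1 hz).2.2 hw)
  rcases this with f | f | f
  · have := mc (c.test f c.f1.sT c.τs1 (cm (mul_mem (mul_mem (mc c.c01) (mc s1u1.symm)) (mc xs1))))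
    rw [mul_mem_cancel_right (W x hx.1 _ c.s2W), mul_mem_cancel_left (W s (c.WK (V4_W8 s_V4)) _ c.s2W)] at this
    exact m1 (cm this)
  · have := mc (c.test f c.f2.sT c.τs2 (cm (mul_mem (mul_mem (mc c.c12) (mc s2u2.symm)) (W x1 hx1.1 _ c.s2W))))
    rw [mul_mem_cancel_right (W x1 hx1.1 _ s1_W8), mul_mem_cancel_left (mc rfl)] at this
    exact m2 (cm this)
  · have := mc (c.test f d.f2.sT d.τs2 (cm (mul_mem (mul_mem (mc s2u2) (W' u (d.WK (V4_W8 s_V4)) _ d.s2W))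
      (W' x2 hx2.2 _ d.s2W))))
    rw [mul_mem_cancel_right (W' x2 hx2.2 _ s1_W8), mul_mem_cancel_right (mc d.c01)] at this
    exact m1 (cm this).symm

theorem nus1 : u * s1 ≠ s1 * u := fun e => h.symm.a1.2.1 e
theorem nus2 : u * s2 ≠ s2 * u := fun e => h.symm.a1.2.2 e

theorem mem_J {x : G} : x ∈ Cn (Cn T s) u ↔ x ∈ (T : Subgroup G) ∧ x * s = s * x ∧ x * u = u * x := by
  rw [mem_Cn, mem_Cn, and_assoc]

theorem J_symm : Cn (Cn T u) s = Cn (Cn T s) u := by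
  ext x
  rw [h.mem_J, h.symm.mem_J, and_comm (a := x * u = u * x)]

theorem tJ : t ∈ Cn (Cn T s) u := h.mem_J.2 ⟨h.c.tT, h.c.st.symm, h.d.st.symm⟩
theorem sJ : s ∈ Cn (Cn T s) u := h.mem_J.2 ⟨h.c.f.sT, rfl, h.a1.1⟩
theorem uJ : u ∈ Cn (Cn T s) u := h.mem_J.2 ⟨h.d.f.sT, h.a1.1.symm, rfl⟩

theorem JQ {x : G} (hx : x ∈ Cn (Cn T s) u) (hq : x ∈ Q) : x ∈ W8 t s u := by
  obtain ⟨c, d, ss, us⟩ := id h
  obtain ⟨su, n1, -⟩ := h.a1
  have k2 : ∀ z ∈ KK Q s s1, z * u = u * z → z ∈ W8 t s u := fun z hz e => by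
    obtain ⟨zQ, zs, zs1⟩ := mem_KK.1 hz
    by_cases e1 : z * u1 = u1 * z
    · exact V4_W8 (zpowers_le.2 t_V4 (h.cc ⟨hz, mem_KK.2 ⟨zQ, e, e1⟩⟩))
    · have := le2_Cn c.t2 (fun g hg => c.qt hg) d.f1.cj z zQ s c.f0.sT (fun m => e1 (mem_Cn.1 m).2)
        fun m => n1 (mem_Cn.1 m).2
      exact (mul_mem_cancel_right (V4_W8 s_V4)).1 (V4_W8 (zpowers_le.2 t_V4 (h.cc ⟨mul_mem hz (c.WK (V4_W8 s_V4)),
        mem_KK.2 ⟨mul_mem zQ c.f0.sT, (show Commute z u from e).mul_left su, (mem_Cn.1 this).2⟩⟩)))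
  obtain ⟨-, xs, xu⟩ := h.mem_J.1 hx
  by_cases e1 : x * s1 = s1 * x
  · exact k2 x (mem_KK.2 ⟨hq, xs, e1⟩) xu
  · have := le2_Cn c.t2 (fun g hg => c.qt hg) c.f1.cj x hq u d.f0.sT (fun m => e1 (mem_Cn.1 m).2)
      fun m => h.nus1 (mem_Cn.1 m).2
    exact (mul_mem_cancel_right s1_W8).1 (k2 _ (mem_KK.2 ⟨mul_mem hq d.f0.sT,
      (show Commute x s from xs).mul_left su.symm, (mem_Cn.1 this).2⟩) ((show Commute x u from xu).mul_left rfl))

theorem JOz {x : G} (hx : x ∈ Cn (Cn T s) u) (hq : x ∈ Q) : x ∈ Oz (Cn (Cn T s) u) := by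
  have m1 : t ∈ Oz (Cn (Cn T s) u) := ⟨h.tJ, h.c.t2, fun g hg => h.c.tc g (h.mem_J.1 hg).1⟩
  have m2 : s ∈ Oz (Cn (Cn T s) u) := ⟨h.sJ, h.c.f.s2, fun g hg => (h.mem_J.1 hg).2.1⟩
  have m3 : u ∈ Oz (Cn (Cn T s) u) := ⟨h.uJ, h.d.f.s2, fun g hg => (h.mem_J.1 hg).2.2⟩
  have : W8 t s u ≤ Oz (Cn (Cn T s) u) := sup_le (V4_le m1 m2) (zpowers_le.2 m3)
  exact this (h.JQ hx hq)

theorem LQ : Le2 Q (Cn (Cn T s) u) := h.c.le2.mono_right (Cn_le.trans Cn_le)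

theorem Jab {a b : G} (ha : a ∈ Cn (Cn T s) u) (hb : b ∈ Cn (Cn T s) u) : a * b = b * a := by
  by_cases h1 : a ∈ Q
  · exact ((h.JOz ha h1).2.2 b hb).symm
  by_cases h2 : b ∈ Q
  · exact (h.JOz hb h2).2.2 a ha
  have := (h.JOz (mul_mem (inv_mem ha) hb) (h.LQ.inv_mul ha hb h1 h2)).2.2 a ha
  calc a * b = a * (a * (a⁻¹ * b)) := by group
    _ = _ := by rw [this]; group

theorem cardJ : Nat.card (Cn (Cn T s) u) ≤ 16 := by
  have c := h.c
  have h1 := h.LQ.card_le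
  have h2 := card_le_of_le (show Q ⊓ Cn (Cn T s) u ≤ W8 t s u from fun x hx => h.JQ hx.2 hx.1)
  have h3 : Nat.card (W8 t s u) ≤ 2 * Nat.card (V4 t s) := card_sup2 (fun x hx => by
    rwa [cj_eq (comm_V4 h.d.st h.a1.1.symm hx)]) (h.d.f.s2 ▸ one_mem _)
  have h4 : Nat.card (V4 t s) ≤ 2 * Nat.card (zpowers t) := card_sup2 (nm_zt c.t2 c.st) (c.f.s2 ▸ one_mem _)
  rw [Nat.card_zpowers, ord2 c.t2 c.t1] at h4
  omega

theorem LJ : Le2 (Cn (Cn T s) u) (Cn T s) :=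
  le2_Cn h.c.t2 (fun g hg => h.c.tc g (Cn_le hg)) fun g hg => h.d.f.cj g (Cn_le hg)

theorem modJ : Nat.card (Cn (Cn T s) u) % 3 = 1 := by
  have c := h.c
  have h1 := card_le2 h.LJ Cn_le fun e => h.nus1 (mem_Cn.1 (e (c.KD (c.WK s1_W8)))).2.symm
  have h2 := card_le2 (le2_Cn c.t2 c.tc c.f.cj) Cn_le (c.f.main c.gl c.toCe c.uq).1
  have h3 := c.cardQ
  have h4 := c.mod2 c.gl le_rfl c.tQ c.yQ
  omega

theorem exists_r : ∃ r : G, r * r * r = 1 ∧ Nm r (Cn (Cn T s) u) ∧ r * t * r⁻¹ = s ∧ r * s * r⁻¹ = s * t := by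
  have c := h.c
  obtain ⟨-, om, r, r3, nD, rt, rs⟩ := c.f.main c.gl c.toCe c.uq
  refine ⟨r, r3, ?_, rt, rs⟩
  have r1 : r ≠ 1 := fun e => c.f.st (by rw [← rt, e]; simp)
  have nV : Nm r (V4 t s) := nm_V4 c.t2 c.f0.s2 c.st (rt ▸ s_V4) (rs ▸ mul_mem s_V4 t_V4)
  have fV : ∀ z ∈ V4 t s, r * z = z * r → z = 1 := fun z hz e =>
    fix_V4 c.t2 c.f.s2 c.t1 c.f.s1 c.f.st c.st rt rs hz e
  have pD : IsPGroup 2 (Cn T s) := T.isPGroup'.to_le Cn_le
  have uD : u ∈ Cn T s := Cn_le h.uJ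
  have nZ : Nm r (Cn T s ⊓ centralizer (Cn T s : Set G)) := fun z hz => ⟨nD z hz.1, mem_centralizer_iff.2 fun g hg => by
    have := comm_cj (mem_centralizer_iff.1 hz.2 _ (nD.inv g hg)) r
    simpa [mul_assoc] using this⟩
  have zQ : ∀ z ∈ Cn T s ⊓ centralizer (Cn T s : Set G), z ∈ Q → z ∈ V4 t s := fun z hz hq =>
    om.mem hz.1 (h.JOz (mem_Cn.2 ⟨hz.1, (mem_centralizer_iff.1 hz.2 u uD).symm⟩) hq).2.1 (mem_centralizer_iff.1 hz.2)
  have fp : FP (Cn T s ⊓ centralizer (Cn T s : Set G)) ⊥ r :=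
    FP.of_fix r3 nZ (fun d hd => by simp [mem_bot.1 hd]) (fun _ _ d hd => by simp [mem_bot.1 hd]) IsPGroup.of_bot
      bot_le fun z hz e => mem_bot.2 (by
        by_contra z1
        rcases c.gl.sm.fix r3 r1 pD hz.1 z1 e (mul_mem hz.1 hz.1) ((show Commute r z from e).mul_right e) with e' | e'
        · exact z1 (fV z (om.mem hz.1 e' (mem_centralizer_iff.1 hz.2)) e)
        · exact z1 (by simpa using e'))
  have ZV := fp.le_of_le2 nV bot_le fun a ha b hb h1 h2 => zQ _ (mul_mem ha hb)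
    (c.le2 a (Cn_le ha.1) b (Cn_le hb.1) (fun e => h1 (zQ a ha e)) fun e => h2 (zQ b hb e))
  intro x hx
  by_contra hx'
  have L : Le2 (V4 t s) (Cn (Cn T s) u) := fun a ha b hb h1 h2 => by
    have key : ∀ z ∈ Cn (Cn T s) u, r⁻¹ * z * r⁻¹⁻¹ ∈ Cn (Cn T s) u → z ∈ V4 t s := fun z hz hz' =>
      ZV ⟨Cn_le hz, mem_centralizer_iff.2 fun g hg => mem_centralizer_singleton_iff.1
        (h.LJ.le_of_mem (N := centralizer {z}) (fun w hw => mem_centralizer_singleton_iff.2 (h.Jab hw.1 hz))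
          (nD x (Cn_le hx)) hx' (mem_centralizer_singleton_iff.2 (by
            have := comm_cj (h.Jab hx hz') r
            simpa [mul_assoc] using this)) hg)⟩
    refine key _ (mul_mem ha hb) ?_
    have := h.LJ _ (nD.inv a (Cn_le ha)) _ (nD.inv b (Cn_le hb)) (fun e => h1 (key a ha e)) fun e => h2 (key b hb e)
    simpa [mul_assoc] using this
  have h1 := card_le2 L (V4_le h.tJ h.sJ) fun e => (c.memV.1 (e h.uJ)).elim (h.d.f.nzt c.t2) h.us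
  have h2 := mod_one r3 nV fV
  have h3 := h.modJ
  omega

theorem nTJ {g : G} (hg : g ∈ (T : Subgroup G)) : Nm g (Cn (Cn T s) u) := fun x hx => by
  obtain ⟨h1, h2, h3⟩ := h.mem_J.1 hx
  have k : ∀ a, Nf T t a → x * a = a * x → g * x * g⁻¹ * a = a * (g * x * g⁻¹) := fun a f e => by
    have := comm_cj ((f.md (inv_mem hg)).comm (h.c.tc x h1) e) g
    simpa [mul_assoc] using this
  exact h.mem_J.2 ⟨Nm.of_mem hg x h1, k s h.c.f h2, k u h.d.f h3⟩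

theorem stab (J2 : ∀ j ∈ Cn (Cn T s) u, j * j = 1) {n : G} (hn : Nm n (Cn (Cn T s) u)) (nt : n * t = t * n) :
    ∃ g ∈ (T : Subgroup G), ∀ j ∈ Cn (Cn T s) u, n * j * n⁻¹ = g * j * g⁻¹ := by
  have c := h.c
  obtain ⟨o, ho, oc, q, hq, i, hi⟩ := h.ss.dec n nt
  have key : ∀ w, n = o * q * w → w * s * w⁻¹ ∈ Q → w * s * w⁻¹ * u = u * (w * s * w⁻¹) := fun w e m => by
    have m1 := hn s h.sJ
    have e1 := cj_eq (oc _ (Nm.of_mem hq _ m))
    rw [show n * s * n⁻¹ = o * (q * (w * s * w⁻¹) * q⁻¹) * o⁻¹ by rw [e]; group, e1] at m1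
    exact (mem_Cn.1 ((h.nTJ (c.QT hq)).iff.1 m1)).2
  have fin : ∀ g ∈ (T : Subgroup G), n = o * g → ∀ j ∈ Cn (Cn T s) u, n * j * n⁻¹ = g * j * g⁻¹ := fun g hg e j hj => by
    have no : Nm o (Cn (Cn T s) u) := by
      rw [show o = n * g⁻¹ by rw [e]; group]
      exact hn.mul (h.nTJ (inv_mem hg))
    have : ∀ j ∈ Cn (Cn T s) u, o * j = j * o := fun j hj => by
      by_cases hjQ : j ∈ Q
      · exact oc j hjQ
      have oQ : Nm o Q := fun q hq => by rwa [cj_eq (oc q hq)]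
      have m := h.LQ.inv_mul hj (no j hj) hjQ fun e => hjQ (oQ.iff.1 e)
      have e1 := cj_eq (oc _ m)
      have e2 := J2 _ (mul_mem (inv_mem hj) (no j hj))
      refine comm_of_sq_odd ho (comm_of_cj ?_)
      calc _ = o * j * o⁻¹ * (o * (j⁻¹ * (o * j * o⁻¹)) * o⁻¹) := by group
        _ = j * (j⁻¹ * (o * j * o⁻¹) * (j⁻¹ * (o * j * o⁻¹))) := by rw [e1]; group
        _ = j := by rw [e2, mul_one]
    rw [← cj_eq (this _ (h.nTJ hg j hj)), e]; group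
  have yy : ∀ a : G, y * y * a * (y * y)⁻¹ = y * (y * a * y⁻¹) * y⁻¹ := fun a => by group
  have ut := h.d.st
  rcases hi with e | e
  · rcases pow_cases c.y3 i with e' | e' | e' <;> rw [e'] at e
    · exact ⟨q, c.QT hq, fin q (c.QT hq) (by rw [e, mul_one])⟩
    · have := key _ e (c.e1 ▸ c.f1.sT)
      rw [c.e1] at this
      exact absurd this.symm h.nus1
    · have := key _ e (by rw [yy, c.e1, c.e2]; exact c.f2.sT)
      rw [yy, c.e1, c.e2] at this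
      exact absurd this.symm h.nus2
  · have m0 := c.f.md c.τT
    rcases pow_cases c.y3 i with e' | e' | e' <;> rw [e'] at e
    · exact ⟨q * τ, mul_mem (c.QT hq) c.τT, fin _ (mul_mem (c.QT hq) c.τT) (by rw [e, one_mul, mul_assoc])⟩
    · have m := m0.cj c.yt
      rw [c.e1, show y * (τ * s * τ⁻¹) * y⁻¹ = y * τ * s * (y * τ)⁻¹ by group] at m
      exact absurd ((m.symm c.t2).comm ut (key _ e (m.mem c.tQ c.f1.sT)).symm) h.nus1
    · have m := (m0.cj c.yt).cj c.yt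
      rw [c.e1, c.e2, show y * (y * (τ * s * τ⁻¹) * y⁻¹) * y⁻¹ = y * y * τ * s * (y * y * τ)⁻¹ by group] at m
      exact absurd ((m.symm c.t2).comm ut (key _ e (m.mem c.tQ c.f2.sT)).symm) h.nus2

theorem false : False := by
  have c := h.c
  obtain ⟨r0, h0, n0, a0, b0⟩ := h.exists_r
  obtain ⟨r1, h1, n1, a1, b1⟩ := h.symm.exists_r
  rw [h.J_symm] at n1
  have r01 : r0 ≠ 1 := fun e => c.f.st (by rw [← a0, e]; simp)
  have fp := c.gl.sm.fp_bot h0 r01 (T.isPGroup'.to_le (Cn_le.trans Cn_le)) n0 h.modJ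
  have J2 : ∀ j ∈ Cn (Cn T s) u, j * j = 1 := fun j hj =>
    (fp.le_of_le2 (nm_Oz n0) bot_le (h.LQ.mono (fun x hx => h.JOz hx.2 hx.1) le_rfl) hj).2.1
  refine c.gl.sm.two_r (fun a ha b hb => h.Jab ha hb) h.tJ h.sJ h.uJ J2 h0 h1 n0 n1 a0 b0 a1 b1
    (fun j hj e => mem_bot.1 (fp.fp j hj (by rw [e]; simp))) (fun e => h.us (.inl e))
    (fun e => h.us (Md.symm c.t2 (.inr e.symm)))
    (gamma T h.cardJ h.tJ c.t1 (fun g hg => h.nTJ hg) c.tc (fun j hj e => c.uq j (h.mem_J.1 hj).1 (J2 j hj) e)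
      (fun a ha b hb j hj => ?_) (fun n hn nt => h.stab J2 hn nt) h0 h1 n0 n1)
  have m := commutator_mem_commutator (inv_mem ha) (inv_mem hb)
  have m1 := (le2_Cn c.t2 c.tc c.f.cj).comm_self m
  have m2 := (le2_Cn c.t2 c.tc h.d.f.cj).comm_self m
  have := cj_eq (h.Jab (mem_Cn.2 ⟨m1, (mem_Cn.1 m2).2⟩) hj)
  rw [commutatorElement_def] at this
  calc _ = b * a * (a⁻¹ * b⁻¹ * a⁻¹⁻¹ * b⁻¹⁻¹ * j * (a⁻¹ * b⁻¹ * a⁻¹⁻¹ * b⁻¹⁻¹)⁻¹) * (b * a)⁻¹ := by group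
    _ = _ := by rw [this]

end Al

theorem SS.not_nf {T : Sylow 2 G} {Q : Subgroup G} {t y τ s : G} (c : SS T Q t y τ) (h : Gl G) (hU : Uq T t) :
    ¬ Nf T t s := by
  intro f
  have d : Tri T Q t y τ s _ _ := ⟨c.toS0, h, hU, f, rfl, rfl⟩
  have key : ∀ u, Nf T t u → u ∈ W8 t s (y * s * y⁻¹) := fun u g => by
    by_contra hn
    exact Al.false ⟨d, ⟨c.toS0, h, hU, g, rfl, rfl⟩, c, fun m => hn (m.mem (V4_W8 t_V4) (V4_W8 s_V4))⟩
  refine d.beta fun a fa => ?_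
  rcases c.claim h hU fa with g | g | g
  · exact key _ g
  · exact d.nyW.iff.1 (key _ g)
  · exact d.nyW.iff.1 (d.nyW.iff.1 (key _ g))

end H50.SC6
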