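import Mathlib
import Cfsg.Agent.Lib.SC6.S4

/-! The case where an element of order three normalises a Sylow 2-subgroup. -/

set_option autoImplicit false
set_option linter.unusedSectionVars false
set_option linter.unusedVariables false

namespace H50.SC6

open Subgroup H70
open scoped commutatorElement

theorem abs_triv {V : Type*} [CommGroup V] (hV : IsPGroup 2 V) (A A' N N' : V →* V) (hA : ∀ v, A (A' v) = v)
    (hN : ∀ v, N (N' v) = v) (hN' : ∀ v, N' (N v) = v) (E1 : ∀ v, v * A v * A (A v) = 1)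
    (E2 : ∀ v, v * N (A v) * N (A (N (A v))) = 1) (E3 : ∀ v, v * N (N (A v)) * N (N (A (N (N (A v))))) = 1)
    {m : ℕ} (hm : Odd m) (hn : ∀ v, N^[m] v = v) (v : V) : N v = v := by
  have key : ∀ v, N v * N' v = v * v := fun v => by
    have a1 := congrArg N (E2 (A' (N' v)))
    have a2 := E2 (A' (N' (N' v)))
    have a3 := E3 (A' (N' (N' v)))
    have a4 := congrArg N (E1 (A' (N' v)))
    simp only [map_mul, hA, hN, map_one] at a1 a2 a3 a4
    calc N v * N' v = N v * N' v * (A' (N' (N' v)) * v * N (N (A v))) * (N (A' (N' v)) * v * N (A (N' v))) := by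
          rw [a3, a4, mul_one, mul_one]
      _ = v * v * (N (A' (N' v)) * N v * N (N (A v))) * (A' (N' (N' v)) * N' v * N (A (N' v))) := by ac_rfl
      _ = v * v := by rw [a1, a2, mul_one, mul_one]
  have fx : N (N v * v⁻¹) = N v * v⁻¹ := by
    have := key (N v)
    rw [hN'] at this
    rw [map_mul, map_inv, eq_mul_inv_of_mul_eq this, mul_right_comm, mul_inv_cancel_right]
  have it : ∀ k : ℕ, N^[k] v = (N v * v⁻¹) ^ k * v := fun k => by
    induction k with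
    | zero => simp
    | succ k ih => rw [Function.iterate_succ_apply', ih, map_mul, map_pow, fx, pow_succ, mul_assoc, inv_mul_cancel_right]
  have h1 : (N v * v⁻¹) ^ m = 1 := by simpa [hn] using (it m).symm
  obtain ⟨k, hk⟩ := hV (N v * v⁻¹)
  rw [← mul_inv_eq_one]
  exact orderOf_eq_one_iff.1 (Nat.eq_one_of_dvd_coprimes (Nat.Coprime.pow_left k (Nat.coprime_two_left.2 hm))
    (orderOf_dvd_of_pow_eq_one hk) (orderOf_dvd_of_pow_eq_one h1))

theorem exists_compl {M : Type*} [Group M] [Finite M] {y : M} (y3 : y * y * y = 1) (y1 : y ≠ 1)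
    (hC : ∀ g, g * y = y * g → Odd (orderOf g) → g = 1 ∨ g = y ∨ g = y * y) (hN : ∀ g, g * y * g⁻¹ ≠ y * y) :
    ∃ N : Subgroup M, N.Normal ∧ (∀ g, ∃ n ∈ N, ∃ k : ℕ, g = n * y ^ k) ∧ (∀ g ∈ N, g * g * g = 1 → g = 1) ∧
      ∀ g, ∀ k : ℕ, g ^ 2 ^ k = 1 → g ∈ N := by
  have : Fact (Nat.Prime 3) := ⟨Nat.prime_three⟩
  obtain ⟨P, hP⟩ := (pg3 y3 y1).exists_le_sylow
  have yP := hP (mem_zpowers y)
  have cs : ∀ g ∈ (P : Subgroup M), g = 1 ∨ g = y ∨ g = y * y := fun g hg => by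
    obtain ⟨z, hz, z1, hzc⟩ := H72.exists_mem_center_of_normal P.isPGroup' le_rfl (fun g hg => Nm.of_mem hg)
      (fun e => y1 (by rw [e] at yP; exact yP))
    refine hC g ?_ (odd_of_three P.isPGroup' hg)
    rcases hC z (hzc y yP).symm (odd_of_three P.isPGroup' hz) with e | e | e
    · exact absurd e z1
    · rw [← e]; exact hzc g hg
    · have c : Commute g (y * y) := e ▸ hzc g hg
      have := c.mul_right c
      rwa [sq_sq y3] at this
  have hn : normalizer (P : Set M) ≤ centralizer (P : Set M) := fun g hg => by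
    have c : Commute g y := by
      rcases cs _ (Nm.of_norm hg y yP) with e | e | e
      exacts [absurd e (cj_ne_one y1 g), comm_of_cj e, absurd e (hN g)]
    refine mem_centralizer_iff.2 fun a ha => ?_
    rcases cs a ha with e | e | e <;> rw [e]
    exacts [by simp, c.symm, (c.mul_right c).symm]
  have hc := MonoidHom.ker_transferSylow_isComplement' P hn
  refine ⟨(MonoidHom.transferSylow P hn).ker, inferInstance, fun g => ?_, fun g hg g3 => ?_, fun g k hk => ?_⟩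
  · obtain ⟨⟨n, p⟩, e⟩ := hc.existsUnique g |>.exists
    rcases cs p p.2 with e' | e' | e'
    · exact ⟨n, n.2, 0, by rw [← e, e', pow_zero]⟩
    · exact ⟨n, n.2, 1, by rw [← e, e', pow_one]⟩
    · exact ⟨n, n.2, 2, by rw [← e, e', pow_two]⟩
  · by_contra g1
    have := card_dvd_of_le (zpowers_le.2 hg)
    rw [Nat.card_zpowers, ord3 g3 g1, ← hc.index_eq_card] at this
    exact P.not_dvd_index this
  · obtain ⟨l, hl⟩ := P.isPGroup' (MonoidHom.transferSylow P hn g)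
    exact orderOf_eq_one_iff.1 (Nat.eq_one_of_dvd_coprimes (Nat.Coprime.pow k l (by norm_num : Nat.Coprime 2 3))
      (orderOf_dvd_of_pow_eq_one (by rw [← map_pow, hk, map_one])) (orderOf_dvd_of_pow_eq_one hl))

variable {G : Type*} [Group G] [Finite G]

/-- The map induced by conjugation on a section. -/
def qm {X Y : Subgroup G} [(Y.subgroupOf X).Normal] {g : G} (h1 : Nm g X) (h2 : Nm g Y) :
    X ⧸ Y.subgroupOf X →* X ⧸ Y.subgroupOf X :=
  QuotientGroup.map _ _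
    { toFun := fun d => ⟨g * d * g⁻¹, h1 d d.2⟩
      map_one' := Subtype.ext (by simp)
      map_mul' := fun a b => Subtype.ext (by simp [mul_assoc]) } fun n hn => by
    rw [mem_comap, mem_subgroupOf]
    exact h2 n hn

theorem qm_mk {X Y : Subgroup G} [(Y.subgroupOf X).Normal] {g : G} (h1 : Nm g X) (h2 : Nm g Y) (x : X) :
    qm h1 h2 (x : X ⧸ Y.subgroupOf X) = ((⟨g * x * g⁻¹, h1 x x.2⟩ : X) : X ⧸ Y.subgroupOf X) := rfl

theorem FP.surj {D N : Subgroup G} {ρ : G} (h : FP D N ρ) {x : G} (hx : x ∈ D) :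
    ∃ d ∈ D, x * (d * (ρ * d * ρ⁻¹)⁻¹)⁻¹ ∈ N := by
  have hn : (N.subgroupOf D).Normal := ⟨fun n hn g => by
    rw [mem_subgroupOf] at hn ⊢
    exact h.nn g g.2 n hn⟩
  have hfp : MonoidHom.FixedPointFree (qm h.nD h.nN) := by
    intro g hg
    obtain ⟨d, rfl⟩ := QuotientGroup.mk_surjective g
    rw [qm_mk, ← mul_inv_eq_one, ← QuotientGroup.mk_inv, ← QuotientGroup.mk_mul, QuotientGroup.eq_one_iff,
      mem_subgroupOf] at hg
    rw [QuotientGroup.eq_one_iff, mem_subgroupOf]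
    exact h.fp d d.2 hg
  obtain ⟨g, hg⟩ := hfp.commutatorMap_surjective ((⟨x, hx⟩ : D) : D ⧸ N.subgroupOf D)
  obtain ⟨d, rfl⟩ := QuotientGroup.mk_surjective g
  refine ⟨d, d.2, ?_⟩
  rw [MonoidHom.commutatorMap_apply, qm_mk, div_eq_mul_inv, eq_comm, ← mul_inv_eq_one, ← QuotientGroup.mk_inv,
    ← QuotientGroup.mk_mul, ← QuotientGroup.mk_inv, ← QuotientGroup.mk_mul, QuotientGroup.eq_one_iff,
    mem_subgroupOf] at hg
  exact hg

theorem triv {X Y : Subgroup G} (hX : IsPGroup 2 X) (nn : ∀ d ∈ X, Nm d Y)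
    (ab : ∀ a ∈ X, ∀ b ∈ X, a * b * a⁻¹ * b⁻¹ ∈ Y) {a n : G} (aX : Nm a X) (aY : Nm a Y) (nX : Nm n X) (nY : Nm n Y)
    (E : ∀ g, g = a ∨ g = n * a ∨ g = n * n * a → ∀ x ∈ X, x * (g * x * g⁻¹) * (g * (g * x * g⁻¹) * g⁻¹) ∈ Y)
    {m : ℕ} (hm : Odd m) (hn : ∀ x ∈ X, n ^ m * x * (n ^ m)⁻¹ * x⁻¹ ∈ Y) {x : G} (hx : x ∈ X) :
    n * x * n⁻¹ * x⁻¹ ∈ Y := by
  have hN : (Y.subgroupOf X).Normal := ⟨fun n hn g => by
    rw [mem_subgroupOf] at hn ⊢
    exact nn g g.2 n hn⟩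
  have eq : ∀ a b : X, (a : X ⧸ Y.subgroupOf X) = b ↔ (a * b⁻¹ : G) ∈ Y := fun a b => by
    rw [← mul_inv_eq_one, ← QuotientGroup.mk_inv, ← QuotientGroup.mk_mul, QuotientGroup.eq_one_iff, mem_subgroupOf]
    rfl
  let _ : CommGroup (X ⧸ Y.subgroupOf X) :=
    { (inferInstance : Group (X ⧸ Y.subgroupOf X)) with
      mul_comm := fun u v => by
        obtain ⟨u, rfl⟩ := QuotientGroup.mk_surjective u
        obtain ⟨v, rfl⟩ := QuotientGroup.mk_surjective v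
        rw [← QuotientGroup.mk_mul, ← QuotientGroup.mk_mul, eq]
        simpa [mul_assoc] using ab u u.2 v v.2 }
  have one : ∀ u v w : X, (u * v * w : G) ∈ Y → (u : X ⧸ Y.subgroupOf X) * v * w = 1 := fun u v w h => by
    rw [← QuotientGroup.mk_mul, ← QuotientGroup.mk_mul, QuotientGroup.eq_one_iff, mem_subgroupOf]
    exact h
  refine (eq ⟨_, nX x hx⟩ ⟨x, hx⟩).1 (abs_triv (hX.to_quotient _) (qm aX aY) (qm aX.inv aY.inv) (qm nX nY)
    (qm nX.inv nY.inv) (fun v => ?_) (fun v => ?_) (fun v => ?_) (fun v => ?_) (fun v => ?_) (fun v => ?_) hm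
    (fun v => ?_) ((⟨x, hx⟩ : X) : X ⧸ Y.subgroupOf X)) <;> obtain ⟨v, rfl⟩ := QuotientGroup.mk_surjective v
  · exact congrArg _ (Subtype.ext (by simp [mul_assoc]))
  · exact congrArg _ (Subtype.ext (by simp [mul_assoc]))
  · exact congrArg _ (Subtype.ext (by simp [mul_assoc]))
  · exact one _ _ _ (E a (.inl rfl) v v.2)
  · exact one _ _ _ (by simpa [mul_assoc] using E _ (.inr (.inl rfl)) v v.2)
  · exact one _ _ _ (by simpa [mul_assoc] using E _ (.inr (.inr rfl)) v v.2)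
  · have : ∀ k : ℕ, (qm nX nY)^[k] (v : X ⧸ Y.subgroupOf X) = qm (nX.pow k) (nY.pow k) v := fun k => by
      induction k with
      | zero =>
        rw [qm_mk, Function.iterate_zero_apply]
        exact congrArg _ (Subtype.ext (by simp))
      | succ k ih =>
        rw [Function.iterate_succ_apply', ih]
        exact congrArg _ (Subtype.ext (by simp [pow_succ', mul_assoc]))
    rw [this]
    exact (eq _ _).2 (hn v v.2)

/-- An element `y` of order three centralises `t` and normalises `T`. -/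
structure NN (T : Sylow 2 G) (t y : G) : Prop extends Ce T t where
  y3 : y * y * y = 1
  y1 : y ≠ 1
  yt : y * t = t * y
  yT : Nm y T

namespace NN
variable {T : Sylow 2 G} {t y : G}

theorem fp (c : NN T t y) (h : Gl G) {X Y : Subgroup G} (hX : X ≤ T) (hYX : Y ≤ X) (ht : t ∈ Y) (yX : Nm y X)
    (yY : Nm y Y) (nn : ∀ d ∈ X, Nm d Y) : FP X Y y :=
  FP.of_fix c.y3 yX yY nn (T.isPGroup'.to_le (hYX.trans hX)) hYX fun x hx e => by
    rcases h.sm.fix c.y3 c.y1 T.isPGroup' c.tT c.t1 c.yt (hX hx) e with e | e <;> rw [e]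
    exacts [one_mem _, ht]

theorem not_nf (c : NN T t y) (h : Gl G) (hU : Uq T t) {s : G} : ¬ Nf T t s := by
  intro f
  obtain ⟨hn, om, r, r3, nD, rt, -⟩ := f.main h c.toCe hU
  have r1 : r ≠ 1 := fun e => f.st (by rw [← rt, e]; simp)
  have cc := card_le2 (le2_Cn c.t2 c.tc f.cj) Cn_le hn
  have m := h.sm.mod_two c.y3 c.y1 T.isPGroup' c.yT c.tT c.t1 c.yt
  have fp := h.sm.fp_bot r3 r1 (T.isPGroup'.to_le Cn_le) nD (by omega)
  have fy := c.fp h le_rfl (zpowers_le.2 c.tT) (mem_zpowers t) c.yT (nm_zt c.t2 c.yt) fun d hd =>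
    nm_zt c.t2 (c.tc d hd)
  have m1 : y * s * y⁻¹ ∈ Cn T s := mem_Cn.2 ⟨c.yT s f.sT, (norm_inv c.t2 f.s2 (sq_cj f.s2 y) (sq_cj (sq_cj f.s2 y) y)
    (c.tc _ (c.yT _ (c.yT _ f.sT))) (fy.norm f.sT)).1.symm⟩
  have := om.mem m1 (sq_cj f.s2 y) fun g hg => fp.comm_of_le2_bot m1
    (le2_Cn c.t2 (fun g hg => c.tc g (Cn_le hg)) fun g hg => by
      have := (f.md (c.yT.inv g (Cn_le hg))).cj c.yt
      show Md t _ _
      simpa [mul_assoc] using this) hg
  refine f.nzt c.t2 (((mem_V4 c.t2 f.s2 (c.tc s f.sT)).1 this).elim (nm_zt c.t2 c.yt).iff.1 fun e => ?_)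
  exact fy.fp s f.sT (e.to_right (c.tc s f.sT))

theorem six (c : NN T t y) (h : Gl G) {g : G} (hg : Nm g T) (e : g * y = y * g) : ∃ k : ℕ, g = y ^ k ∨ g = t * y ^ k := by
  refine h.six t y c.t2 c.t1 c.y3 c.y1 c.yt g (comm_of_cj ?_) e
  refine (h.sm.fix c.y3 c.y1 T.isPGroup' c.tT c.t1 c.yt (hg t c.tT) ?_).resolve_left (cj_ne_one c.t1 g)
  have := comm_cj c.yt g
  rwa [cj_eq e] at this

theorem exists_N0 (c : NN T t y) (h : Gl G) : ∃ N : Subgroup G, (T : Subgroup G) ≤ N ∧ (∀ n ∈ N, Nm n T) ∧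
    (∀ g, Nm g T → Nm g N) ∧ (∀ g, Nm g T → ∃ n ∈ N, ∃ k : ℕ, g = n * y ^ k) ∧ FP N T y := by
  obtain ⟨N, hN, h1, h2, h3⟩ := exists_compl (M := normalizer ((T : Subgroup G) : Set G)) (y := ⟨y, c.yT.norm⟩)
    (Subtype.ext c.y3) (fun e => c.y1 (congrArg Subtype.val e)) (fun g e ho => by
      have e' : (g : G) * y = y * g := congrArg Subtype.val e
      rw [← Subgroup.orderOf_coe] at ho
      obtain ⟨k, hk⟩ := c.six h (.of_norm g.2) e'
      have gt : (g : G) * t = t * g := by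
        have c1 := (show Commute y t from c.yt).pow_left k
        rcases hk with e | e <;> rw [e]
        exacts [c1, (Commute.refl t).mul_left c1]
      exact ((h.six t y c.t2 c.t1 c.y3 c.y1 c.yt).three c.t2 c.t1 c.y3 c.yt gt e' ho).imp Subtype.ext
        (Or.imp Subtype.ext Subtype.ext)) fun g e => by
      have e' : (g : G) * y * (g : G)⁻¹ = y * y := congrArg Subtype.val e
      obtain ⟨m, ⟨j, rfl⟩, hm⟩ := exists_odd_pow T (Nm.of_norm g.2)
      have c2 : Commute ((g : G) * g) y := comm_of_cj (by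
        calc _ = g * (g * y * (g : G)⁻¹) * (g : G)⁻¹ := by group
          _ = g * (y * y) * (g : G)⁻¹ := by rw [e']
          _ = g * y * (g : G)⁻¹ * (g * y * (g : G)⁻¹) := by group
          _ = y := by rw [e', sq_sq c.y3])
      have e2 := cj_eq (c2.pow_left j)
      rw [pow_succ', pow_mul, pow_two] at hm
      generalize ((g : G) * g) ^ j = w at hm e2
      have m := mul_mem hm (c.yT _ (inv_mem hm))
      have : (g : G) * w * (y * (g * w)⁻¹ * y⁻¹) = y := by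
        calc _ = g * (w * y * w⁻¹) * (g : G)⁻¹ * y⁻¹ := by group
          _ = y := by rw [e2, e']; group
      rw [this] at m
      obtain ⟨k, hk⟩ := exists_pow_two T.isPGroup' m
      exact c.y1 (eq_one_of_two_three hk c.y3)
  have TN : (T : Subgroup G) ≤ N.map (normalizer ((T : Subgroup G) : Set G)).subtype := fun g hg => by
    obtain ⟨k, hk⟩ := exists_pow_two T.isPGroup' hg
    exact ⟨⟨g, le_normalizer hg⟩, h3 _ k (Subtype.ext hk), rfl⟩
  have nT : ∀ n ∈ N.map (normalizer ((T : Subgroup G) : Set G)).subtype, Nm n T := by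
    rintro _ ⟨n, -, rfl⟩
    exact .of_norm n.2
  have nN : ∀ g, Nm g T → Nm g (N.map (normalizer ((T : Subgroup G) : Set G)).subtype) := by
    rintro g hg _ ⟨n, hn, rfl⟩
    exact ⟨_, hN.conj_mem n hn ⟨g, hg.norm⟩, rfl⟩
  refine ⟨_, TN, nT, nN, fun g hg => ?_, FP.of_fix c.y3 (nN y c.yT) c.yT nT T.isPGroup' TN fun x hx e => ?_⟩
  · obtain ⟨n, hn, k, e⟩ := h1 ⟨g, hg.norm⟩
    exact ⟨n, ⟨n, hn, rfl⟩, k, congrArg Subtype.val e⟩
  · have key : ∀ k : ℕ, y ^ k ∈ N.map (normalizer ((T : Subgroup G) : Set G)).subtype → y ^ k = 1 := by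
      rintro k ⟨n, hn, e⟩
      rw [← e]
      exact congrArg Subtype.val (h2 n hn (Subtype.ext (by
        have := pow3 c.y3 k
        rwa [← e] at this)))
    obtain ⟨k, e | e⟩ := c.six h (nT x hx) e.symm
    · rw [e, key k (e ▸ hx)]; exact one_mem _
    · rw [e, key k ((mul_mem_cancel_left (TN c.tT)).1 (e ▸ hx)), mul_one]; exact c.tT

theorem sec (c : NN T t y) (h : Gl G) {N : Subgroup G} (nT : ∀ n ∈ N, Nm n T) (fp : FP N T y) {X Y : Subgroup G}
    (hX : X ≤ T) (hYX : Y ≤ X) (ht : t ∈ Y) (iX : ∀ g, Nm g T → Nm g X) (iY : ∀ g, Nm g T → Nm g Y)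
    (tr : ∀ g ∈ (T : Subgroup G), ∀ x ∈ X, g * x * g⁻¹ * x⁻¹ ∈ Y) {n : G} (hn : n ∈ N) {x : G} (hx : x ∈ X) :
    n * x * n⁻¹ * x⁻¹ ∈ Y := by
  have nn : ∀ d ∈ X, Nm d Y := fun d hd => iY d (.of_mem (hX hd))
  have fy := c.fp h hX hYX ht (iX y c.yT) (iY y c.yT) nn
  have key : ∀ n ∈ N, ∀ x ∈ X, x * (n * y * x * (n * y)⁻¹) * (n * y * (n * y * x * (n * y)⁻¹) * (n * y)⁻¹) ∈ Y := by
    intro n hn x hx
    obtain ⟨d, hd, hu⟩ := fp.surj hn
    have e : n * y = n * (d * (y * d * y⁻¹)⁻¹)⁻¹ * (d * y * d⁻¹) := by group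
    have dT := nT d hd
    have gX : Nm (d * y * d⁻¹) X := iX _ ((dT.mul c.yT).mul dT.inv)
    have gY : Nm (d * y * d⁻¹) Y := iY _ ((dT.mul c.yT).mul dT.inv)
    have k : x * (d * y * d⁻¹ * x * (d * y * d⁻¹)⁻¹) *
        (d * y * d⁻¹ * (d * y * d⁻¹ * x * (d * y * d⁻¹)⁻¹) * (d * y * d⁻¹)⁻¹) ∈ Y := by
      have := iY d dT _ (fy.norm ((iX d dT).inv x hx))
      simpa [mul_assoc] using this
    rw [e]
    generalize n * (d * (y * d * y⁻¹)⁻¹)⁻¹ = u at hu
    generalize d * y * d⁻¹ = g at gX gY k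
    have m1 := gX x hx
    have m2 := gX _ m1
    have a1 := tr u hu _ m1
    have a2 := tr u hu _ m2
    have a3 := iY u (.of_mem hu) _ (gY _ a1)
    have := mul_mem (mul_mem (nn x hx _ a1) (nn _ (mul_mem hx m1) _ (mul_mem a3 a2))) k
    simpa [mul_assoc] using this
  obtain ⟨m, hm, hT⟩ := exists_odd_pow T (nT n hn)
  refine triv (T.isPGroup'.to_le hX) nn (fun a ha b hb => tr a (hX ha) b hb) (iX y c.yT) (iY y c.yT)
    (iX n (nT n hn)) (iY n (nT n hn)) (fun g hg => ?_) hm (tr _ hT) hx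
  rcases hg with e | e | e <;> rw [e]
  · exact fun x hx => fy.norm hx
  · exact key n hn
  · exact key _ (mul_mem hn hn)

theorem uq (c : NN T t y) (h : Gl G) (hna : ¬ ∀ a ∈ (T : Subgroup G), ∀ b ∈ (T : Subgroup G), a * b = b * a) :
    Uq T t := by
  have : Fact (Nat.Prime 2) := ⟨Nat.prime_two⟩
  obtain ⟨N, TN, nT, nN, dec, fp⟩ := c.exists_N0 h
  let Z : Subgroup G := T ⊓ centralizer ((T : Subgroup G) : Set G)
  have iC : ∀ A : Subgroup G, ∀ g, Nm g T → Nm g A → Nm g (T ⊓ centralizer (A : Set G)) := fun A g h1 h2 z hz =>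
    ⟨h1 z hz.1, mem_centralizer_iff.2 fun a ha => by
      have := comm_cj (mem_centralizer_iff.1 hz.2 _ (h2.inv a ha)) g
      simpa [mul_assoc] using this⟩
  have iZ : ∀ g, Nm g T → Nm g Z := fun g hg => iC T g hg hg
  have zc : ∀ z ∈ Z, ∀ g ∈ (T : Subgroup G), g * z = z * g := fun z hz => mem_centralizer_iff.1 hz.2
  have tZ : t ∈ Z := ⟨c.tT, mem_centralizer_iff.2 c.tc⟩
  have i2 : ∀ g, Nm g T → Nm g (T ⊓ Act T Z) := fun g hg => hg.inf (nm_Act hg (iZ g hg))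
  have Z2 : Z ≤ (T : Subgroup G) ⊓ Act T Z := fun z hz => ⟨hz.1, mem_Act inf_le_left fun x hx => by
    rw [cj_eq (zc z hz x hx).symm]; simp⟩
  obtain ⟨g, hg, gZ, -, gc⟩ := H5.exists_step_of_le T.isPGroup' Z le_rfl le_normalizer fun e =>
    hna fun a ha b hb => zc b (e hb) a ha
  have g2 : g ∈ (T : Subgroup G) ⊓ Act T Z := ⟨hg, mem_Act inf_le_left gc⟩
  obtain ⟨b, hb, gb⟩ : ∃ b ∈ (T : Subgroup G), b * g ≠ g * b := by
    by_contra hh
    push Not at hh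
    exact gZ ⟨hg, mem_centralizer_iff.2 hh⟩
  have cZ : g * b * g⁻¹ * b⁻¹ ∈ Z := gc b hb
  have fixN : ∀ n ∈ N, n * (g * b * g⁻¹ * b⁻¹) * n⁻¹ = g * b * g⁻¹ * b⁻¹ := fun n hn => by
    have s1 := c.sec h nT fp inf_le_left Z2 tZ i2 iZ (fun u hu x hx => by
      have := inv_mem (hx.2.2.2 u hu)
      simpa [mul_assoc] using this) hn g2
    have s2 := c.sec h nT fp le_rfl (Y := T ⊓ centralizer ((T ⊓ Act T Z : Subgroup G) : Set G)) inf_le_left
      ⟨c.tT, mem_centralizer_iff.2 fun a ha => c.tc a ha.1⟩ (fun _ h => h) (fun g hg => iC _ g hg (i2 g hg))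
      (fun u hu x hx => mem_inf.2 ⟨mul_mem (Nm.of_mem hu x hx) (inv_mem hx), mem_centralizer_iff.2 fun a ha => comm_of_cj (by
        have e1 := zc _ (ha.2.2.2 u hu)
        have e2 := zc _ (ha.2.2.2 x hx)
        obtain ⟨p, hp⟩ : ∃ p, a * u * a⁻¹ * u⁻¹ = p := ⟨_, rfl⟩
        obtain ⟨q, hq⟩ : ∃ q, a * x * a⁻¹ * x⁻¹ = q := ⟨_, rfl⟩
        rw [hp] at e1
        rw [hq] at e2
        have a1 := cj_eq (e1 _ (Nm.of_mem hu x hx)).symm
        have a2 := cj_eq (e2 _ (inv_mem hu)).symm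
        have a3 := cj_eq (e2 _ (mul_mem (Nm.of_mem hu x hx) (inv_mem hx))).symm
        calc _ = a * u * a⁻¹ * (a * x * a⁻¹) * (a * u * a⁻¹)⁻¹ * (a * x * a⁻¹)⁻¹ := by group
          _ = p * u * (q * x) * (p * u)⁻¹ * (q * x)⁻¹ := by rw [← hp, ← hq]; group
          _ = p * (u * (q * x) * u⁻¹) * p⁻¹ * (q * x)⁻¹ := by group
          _ = u * (q * x) * u⁻¹ * (q * x)⁻¹ := by
            rw [cj_eq (e1 _ (Nm.of_mem hu _ (mul_mem (hq ▸ (ha.2.2.2 x hx).1) hx))).symm]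
          _ = (u * q * u⁻¹) * (u * x * u⁻¹ * x⁻¹) * q⁻¹ := by group
          _ = _ := by rw [cj_eq (e2 u hu), a3])⟩) hn hb
    obtain ⟨z, hz⟩ : ∃ z, n * g * n⁻¹ * g⁻¹ = z := ⟨_, rfl⟩
    obtain ⟨w, hw⟩ : ∃ w, n * b * n⁻¹ * b⁻¹ = w := ⟨_, rfl⟩
    rw [hz] at s1
    rw [hw] at s2
    have e1 := cj_eq (zc z s1 _ (Nm.of_mem hg _ (mul_mem s2.1 hb))).symm
    have e2 := cj_eq (mem_centralizer_iff.1 s2.2 g g2)
    have e3 := cj_eq (zc _ cZ w s2.1)
    calc _ = n * g * n⁻¹ * (n * b * n⁻¹) * (n * g * n⁻¹)⁻¹ * (n * b * n⁻¹)⁻¹ := by group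
      _ = z * (g * (w * b) * g⁻¹) * z⁻¹ * (w * b)⁻¹ := by rw [← hz, ← hw]; group
      _ = g * w * g⁻¹ * (g * b * g⁻¹ * b⁻¹) * w⁻¹ := by rw [e1]; group
      _ = _ := by rw [e2, e3]
  have c1 : g * b * g⁻¹ * b⁻¹ ≠ 1 := fun e => gb (comm_of_cj (mul_inv_eq_one.1 e)).symm
  generalize g * b * g⁻¹ * b⁻¹ = v at cZ fixN c1
  obtain ⟨w, hw, w2, w1, -⟩ := exists_inv_cent (T.isPGroup'.to_le (zpowers_le.2 cZ.1)) le_rfl (fun g hg => .of_mem hg)
    fun e => c1 (by simpa using e)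
  have wZ := zpowers_le.2 cZ hw
  obtain ⟨k, hk, e⟩ := c.toCe.fuse h ⟨wZ.1, w2, w1, zc w wZ⟩
  have tN : ∀ n ∈ N, n * t = t * n := fun n hn => by
    obtain ⟨i, rfl⟩ := hw
    have := comm_cj ((show Commute _ v from comm_of_cj (fixN _ (nN k hk n hn))).zpow_right i) k⁻¹
    rw [show v ^ i = k * t * k⁻¹ from e.symm] at this
    simpa [mul_assoc] using this
  intro z hz z2 zc'
  by_contra hh
  push Not at hh
  obtain ⟨k', hk', e'⟩ := c.toCe.fuse h ⟨hz, z2, hh.1, zc'⟩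
  obtain ⟨n, hn, i, rfl⟩ := dec k' hk'
  exact hh.2 (e'.symm.trans (cj_eq ((show Commute n t from tN n hn).mul_left
    ((show Commute y t from c.yt).pow_left i))))

end NN

theorem card_V4 {t s : G} (t2 : t * t = 1) (t1 : t ≠ 1) (s2 : s * s = 1) (st : s * t = t * s) (hs : s ∉ zpowers t) :
    Nat.card (V4 t s) = 4 := by
  rw [V4, card_le2 (le2_sup (nm_zt t2 st) (s2 ▸ one_mem _)) le_sup_left fun e => hs (e s_V4), Nat.card_zpowers,
    ord2 t2 t1]

theorem uq16 (h : Gl G) {T : Sylow 2 G} {t : G} (c : Ce T t) (hc : Nat.card T = 16)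
    (hna : ¬ ∀ a ∈ (T : Subgroup G), ∀ b ∈ (T : Subgroup G), a * b = b * a) : Uq T t := by
  intro z hz z2 zc
  by_contra hh
  push Not at hh hna
  have c4 := card_V4 c.t2 c.t1 z2 (c.tc z hz) fun e => ((mem_zt c.t2).1 e).elim hh.1 hh.2
  have L : ∀ x ∈ (T : Subgroup G), Le2 (Cn T x) T := fun x hx => by
    by_cases xV : x ∈ V4 t z
    · exact le2_of_le fun g hg => mem_Cn.2 ⟨hg, comm_V4 (c.tc g hg) (zc g hg) xV⟩
    have le : V4 t z ≤ Cn T x := V4_le (mem_Cn.2 ⟨c.tT, (c.tc x hx).symm⟩) (mem_Cn.2 ⟨hz, (zc x hx).symm⟩)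
    obtain ⟨d, hd⟩ := card_dvd_of_le le
    have d1 : d ≠ 1 := fun e => xV ((eq_of_le_of_card_ge le (by rw [hd, e, mul_one])).ge (mem_Cn.2 ⟨hx, rfl⟩))
    have d0 : d ≠ 0 := fun e => by rw [e] at hd; exact Nat.card_pos.ne' hd
    refine le2_of_card_le ?_
    rw [inf_eq_left.2 Cn_le, hd, c4]
    have : Nat.card (T : Subgroup G) = 16 := hc
    omega
  have act : ∀ x ∈ (T : Subgroup G), ∀ a ∈ (T : Subgroup G), ∀ b ∈ (T : Subgroup G), a * x ≠ x * a → b * x ≠ x * b →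
      a * x * a⁻¹ * x⁻¹ = b * x * b⁻¹ * x⁻¹ := fun x hx a ha b hb h1 h2 => by
    rw [act_eq (L x hx) ha hb (fun e => h1 (mem_Cn.1 e).2) (fun e => h2 (mem_Cn.1 e).2) fun q hq => (mem_Cn.1 hq).2]
  have all : ∀ x ∈ (T : Subgroup G), ∀ y ∈ (T : Subgroup G), ∀ a ∈ (T : Subgroup G), ∀ b ∈ (T : Subgroup G),
      y * x ≠ x * y → b * a ≠ a * b → y * x * y⁻¹ * x⁻¹ = b * a * b⁻¹ * a⁻¹ := fun x hx y hy a ha b hb h1 h2 => by
    obtain ⟨w, hw, w1, w2⟩ : ∃ w ∈ (T : Subgroup G), w * x ≠ x * w ∧ w * a ≠ a * w := by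
      by_cases e1 : y * a = a * y
      · by_cases e2 : b * x = x * b
        · refine ⟨y * b, mul_mem hy hb, fun e => h1 ?_, fun e => h2 ?_⟩
          · simpa using (show Commute (y * b) x from e).mul_left (show Commute b x from e2).inv_left |>.eq
          · simpa using (show Commute y a from e1).inv_left.mul_left (show Commute (y * b) a from e) |>.eq
        · exact ⟨b, hb, e2, h2⟩
      · exact ⟨y, hy, h1, e1⟩
    have := congrArg (·⁻¹) (act w hw x hx a ha w1.symm w2.symm)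
    rw [act x hx y hy w hw h1 w1, act a ha b hb w hw h2 w2]
    simpa [mul_assoc] using this
  obtain ⟨a, ha, b, hb, ab⟩ := hna
  have cT : a * b * a⁻¹ * b⁻¹ ∈ (T : Subgroup G) := mul_mem (Nm.of_mem ha b hb) (inv_mem hb)
  have inv : ∀ k, Nm k T → k * (a * b * a⁻¹ * b⁻¹) * k⁻¹ = a * b * a⁻¹ * b⁻¹ := fun k hk => by
    refine Eq.trans ?_ (all _ (hk b hb) _ (hk a ha) b hb a ha (fun e => ab (by
      have := comm_cj e k⁻¹
      simpa [mul_assoc] using this)) ab)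
    group
  have d : Ce T (a * b * a⁻¹ * b⁻¹) := ⟨cT, by
    nth_rewrite 1 [all b hb a ha a ha b hb ab (Ne.symm ab)]
    group, fun e => ab (comm_of_cj (mul_inv_eq_one.1 e)), fun g hg => comm_of_cj (inv g (.of_mem hg))⟩
  obtain ⟨k, hk, e⟩ := d.fuse h c
  obtain ⟨k', hk', e'⟩ := d.fuse h ⟨hz, z2, hh.1, zc⟩
  exact hh.2 (by rw [← e, ← e', inv k hk, inv k' hk'])

theorem not_nf16 (h : Gl G) {T : Sylow 2 G} {t s : G} (c : Ce T t) (hc : Nat.card T = 16) (hU : Uq T t) :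
    ¬ Nf T t s := by
  intro f
  obtain ⟨hn, om, r, r3, nD, rt, rs⟩ := f.main h c hU
  have r1 : r ≠ 1 := fun e => f.st (by rw [← rt, e]; simp)
  have cc := card_le2 (le2_Cn c.t2 c.tc f.cj) Cn_le hn
  have hc' : Nat.card (T : Subgroup G) = 16 := hc
  have st := c.tc s f.sT
  have le : V4 t s ≤ Cn T s := V4_le (mem_Cn.2 ⟨c.tT, st.symm⟩) (mem_Cn.2 ⟨f.sT, rfl⟩)
  have L : Le2 (V4 t s) (Cn T s) := le2_of_card_le (by
    rw [inf_eq_left.2 le, card_V4 c.t2 c.t1 f.s2 st (f.nzt c.t2)]; omega)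
  obtain ⟨v, hv, v1, vc⟩ := exists_fix r3 nD (by omega)
  have v2 : v * v = 1 := (h.sm.fix r3 r1 (T.isPGroup'.to_le Cn_le) hv v1 vc (mul_mem hv hv)
    ((show Commute r v from vc).mul_right vc)).resolve_right fun e => v1 (by simpa using e)
  have cV : ∀ g ∈ Cn T s, ∀ x ∈ V4 t s, g * x = x * g := fun g hg x hx => comm_V4 (c.tc g (Cn_le hg)) (mem_Cn.1 hg).2 hx
  refine v1 (fix_V4 c.t2 f.s2 c.t1 f.s1 f.st st rt rs ?_ vc)
  by_contra vV
  refine vV (om.mem hv v2 fun g hg => ?_)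
  by_cases gV : g ∈ V4 t s
  · exact (cV v hv g gV).symm
  · have := cV v hv _ (L v hv g hg vV gV)
    rw [mul_assoc] at this
    exact (mul_left_cancel this).symm

end H50.SC6
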