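import Mathlib
import Cfsg.Agent.Lib.SC6.N
import Cfsg.Agent.Lib.BG.Api.Core2
import Cfsg.Agent.Lib.GL.Basic
import Cfsg.Agent.S3331

/-! The structure of the centraliser of an involution. -/

set_option autoImplicit false
set_option linter.unusedSectionVars false
set_option linter.unusedVariables false

namespace H50.SC6

open Subgroup H70

variable {G : Type*} [Group G] [Finite G]

theorem exists_ce (h : Gl G) {t : G} (t2 : t * t = 1) (t1 : t ≠ 1) {E : Subgroup G} (hE : IsPGroup 2 E)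
    (tc : ∀ g ∈ E, g * t = t * g) : ∃ T : Sylow 2 G, Ce T t ∧ E ≤ T := by
  have : Fact (Nat.Prime 2) := ⟨Nat.prime_two⟩
  obtain ⟨P, hP⟩ := (pg2 t2).exists_le_sylow
  obtain ⟨z, hz, z2, z1, zc⟩ := exists_inv_cent P.isPGroup' le_rfl (fun g hg => .of_mem hg)
    fun e => t1 (by simpa [e] using hP (mem_zpowers t))
  have hE' : IsPGroup 2 (zpowers t ⊔ E : Subgroup G) := by
    rw [sup_comm]
    exact hE.to_sup_of_normal_right' (pg2 t2) fun g hg => (nm_zt t2 (tc g hg)).norm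
  obtain ⟨S, hS, h1, h2, h3⟩ := exists_over' h P z2 z1 zc t2 t1 hE' fun g hg =>
    mem_centralizer_singleton_iff.1 (sup_le (zpowers_le.2 (mem_centralizer_singleton_iff.2 rfl))
      (fun g hg => mem_centralizer_singleton_iff.2 (tc g hg)) hg)
  obtain ⟨T, hT⟩ := hS.exists_le_sylow
  have e : S = T := eq_of_le_of_card_ge hT (by
    rw [h3]; exact (Nat.card_congr (Sylow.equiv T P).toEquiv).le)
  exact ⟨T, ⟨hT (h1 (mem_sup_left (mem_zpowers t))), t2, t1, e ▸ h2⟩, le_sup_right.trans (h1.trans hT)⟩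

theorem s3_facts : (∀ a : Equiv.Perm (Fin 3), a * a * a = 1 → a ≠ 1 → ∃ b : Equiv.Perm (Fin 3), Equiv.Perm.sign b = -1) ∧
    (∀ a : Equiv.Perm (Fin 3), Equiv.Perm.sign a = 1 → a * a * a = 1) ∧
    (∀ a : Equiv.Perm (Fin 3), a * a * a = 1 → Equiv.Perm.sign a = 1) ∧
    (∀ a b : Equiv.Perm (Fin 3), a * a * a = 1 → a ≠ 1 → Equiv.Perm.sign b = -1 → b * a * b⁻¹ ≠ a) ∧
    (∀ a b c : Equiv.Perm (Fin 3), a * a * a = 1 → a ≠ 1 → Equiv.Perm.sign b = -1 →
      ∃ i < (3 : ℕ), c = a ^ i ∨ c = a ^ i * b) := by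
  refine ⟨by decide, by decide, by decide, by decide, by decide +kernel⟩

section
variable {t y : G} {L : Type*} [Group L] (f : centralizer ({t} : Set G) →* L)

/-- The kernel, as a subgroup of the ambient group. -/
def Kr : Subgroup G := f.ker.map (centralizer ({t} : Set G)).subtype

theorem mem_Kr {g : G} (hg : g * t = t * g) : g ∈ Kr f ↔ f ⟨g, mem_centralizer_singleton_iff.2 hg⟩ = 1 :=
  ⟨fun ⟨a, ha, e⟩ => by
    obtain rfl : (a : G) = g := e
    exact ha, fun e => ⟨_, e, rfl⟩⟩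

theorem Kr_c {g : G} (hg : g ∈ Kr f) : g * t = t * g := by
  obtain ⟨a, -, rfl⟩ := hg
  exact mem_centralizer_singleton_iff.1 a.2

theorem nm_Kr {g : G} (hg : g * t = t * g) : Nm g (Kr f) := by
  rintro _ ⟨a, ha, rfl⟩
  exact ⟨_, (inferInstance : f.ker.Normal).conj_mem a ha ⟨g, mem_centralizer_singleton_iff.2 hg⟩, rfl⟩

end

open H45 H69 in
theorem exists_Q {N : Subgroup G} (hN : Group.IsNilpotent N) : ∃ Q : Subgroup G, Q ≤ N ∧ IsPGroup 2 Q ∧
    (∀ g, Nm g N → Nm g Q) ∧ (∀ g ∈ N, ∀ k : ℕ, g ^ 2 ^ k = 1 → g ∈ Q) ∧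
    ∀ g ∈ N, ∃ o : G, Odd (orderOf o) ∧ (∀ q ∈ Q, o * q = q * o) ∧ ∃ q ∈ Q, g = o * q := by
  have : Fact (Nat.Prime 2) := ⟨Nat.prime_two⟩
  refine ⟨O[{2}] N, pcore_sub _ _, pcore_isPGroup 2 N, fun g hg => .of_norm (norm_pcore _ _ hg.norm),
    fun g hg k hk => nilpotent_sub_pcore_p hN (zpowers_le.2 hg) (fun a => ⟨k, Subtype.ext ?_⟩) (mem_zpowers g),
    fun g hg => ?_⟩
  · obtain ⟨a, i, rfl⟩ := a
    show (g ^ i) ^ 2 ^ k = 1
    rw [← zpow_natCast, ← zpow_mul, mul_comm, zpow_mul, zpow_natCast, hk, one_zpow]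
  · obtain ⟨o, ho, q, hq, e⟩ := (nilpotent_pcoreC {2} hN).symm.mulEq.exists_mul hg
    exact ⟨o, Nat.coprime_two_right.1 ((pcore_coprime 2 N).coprime_dvd_left (orderOf_dvd_natCard _ ho)),
      fun q hq => (mem_centralizer_iff.1 (cent_pcoreC' {2} N ho) q hq).symm, q, hq, e⟩

theorem case_three (h : Gl G) {t y : G} (t2 : t * t = 1) (t1 : t ≠ 1) (y3 : y * y * y = 1) (y1 : y ≠ 1)
    (yt : y * t = t * y) {L : Type*} [Group L] (f : centralizer ({t} : Set G) →* L) (hL : Nat.card L = 3)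
    (hN : Group.IsNilpotent (Kr f)) : ∃ T : Sylow 2 G, NN T t y := by
  obtain ⟨Q, QN, pQ, nQ, mQ, -⟩ := exists_Q hN
  obtain ⟨T, c, hT⟩ := exists_ce h t2 t1 pQ fun g hg => Kr_c f (QN hg)
  refine ⟨T, c, y3, y1, yt, fun g hg => hT (nQ y (nm_Kr f yt) g ?_)⟩
  obtain ⟨k, hk⟩ := exists_pow_two T.isPGroup' hg
  refine mQ g ((mem_Kr f (c.tc g hg)).2 ?_) k hk
  have : Finite L := Nat.finite_of_card_ne_zero (by omega)
  refine eq_one_of_two_three (k := k) (by rw [← map_pow, ← map_one f]; exact congrArg f (Subtype.ext hk)) ?_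
  rw [← pow_three', ← hL, pow_card_eq_one']

theorem case_S3 (h : Gl G) {t y : G} (t2 : t * t = 1) (t1 : t ≠ 1) (y3 : y * y * y = 1) (y1 : y ≠ 1)
    (yt : y * t = t * y) (f : centralizer ({t} : Set G) →* Equiv.Perm (Fin 3)) (hf : Function.Surjective f)
    (hN : Group.IsNilpotent (Kr f)) (hy : y ∉ Kr f) (ht : t ∈ Kr f) :
    ∃ (T : Sylow 2 G) (Q : Subgroup G) (τ : G), SS T Q t y τ := by
  have : Fact (Nat.Prime 3) := ⟨Nat.prime_three⟩
  have : Fact (Nat.Prime 2) := ⟨Nat.prime_two⟩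
  obtain ⟨Q, QN, pQ, nQ, mQ, dQ⟩ := exists_Q hN
  obtain ⟨s1, s2, s3, s4, s5⟩ := s3_facts
  let Y : centralizer ({t} : Set G) := ⟨y, mem_centralizer_singleton_iff.2 yt⟩
  have Y3 : Y * Y * Y = 1 := Subtype.ext y3
  have Y1 : Y ≠ 1 := fun e => y1 (congrArg Subtype.val e)
  have a3 : f Y * f Y * f Y = 1 := by rw [← map_mul, ← map_mul, Y3, map_one]
  have a1 : f Y ≠ 1 := fun e => hy ((mem_Kr f yt).2 e)
  obtain ⟨b, hb⟩ := s1 _ a3 a1
  obtain ⟨g, rfl⟩ := hf b
  have g3 : g * Y * g⁻¹ * (g * Y * g⁻¹) * (g * Y * g⁻¹) = 1 := by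
    calc _ = g * (Y * Y * Y) * g⁻¹ := by group
      _ = 1 := by rw [Y3]; group
  obtain ⟨m, hm, P, hP, -, hY, hg⟩ := H72.exists_conj_pgroup (H := (Equiv.Perm.sign.comp f).ker)
    (pg3 g3 (cj_ne_one Y1 g)) (pg3 Y3 Y1) (zpowers_le.2 (MonoidHom.mem_ker.2 (s3 (f (g * Y * g⁻¹))
      (by rw [← map_mul, ← map_mul, g3, map_one])))) (zpowers_le.2 (MonoidHom.mem_ker.2 (s3 _ a3)))
  have sg : Equiv.Perm.sign (f (m * g)) = -1 := by
    rw [map_mul, map_mul, hb, show Equiv.Perm.sign (f m) = 1 from hm, one_mul]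
  have hτ0 : ((m * g : centralizer ({t} : Set G)) : G) * y * ((m * g : centralizer ({t} : Set G)) : G)⁻¹ = y * y := by
    have mem : ((m * g : centralizer ({t} : Set G)) : G) * y * ((m * g : centralizer ({t} : Set G)) : G)⁻¹ ∈
        P.map (centralizer ({t} : Set G)).subtype := ⟨_, hg _ (mem_zpowers _), by simp [Y, mul_assoc]⟩
    rcases (h.six t y t2 t1 y3 y1 yt).sylow t2 t1 y3 y1 yt (hP.map (centralizer ({t} : Set G)).subtype) (by
      rintro _ ⟨a, -, rfl⟩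
      exact mem_centralizer_singleton_iff.1 a.2) ⟨Y, hY (mem_zpowers Y), rfl⟩ mem with e | e | e
    · exact absurd e (cj_ne_one y1 _)
    · refine absurd ?_ (s4 _ _ a3 a1 sg)
      rw [← map_inv, ← map_mul, ← map_mul]
      exact congrArg f (Subtype.ext e)
    · exact e
  generalize m * g = u at sg hτ0
  have ut : (u : G) * t = t * u := mem_centralizer_singleton_iff.1 u.2
  have c2 : (u : G) * u * y = y * (u * u) := comm_of_cj (by
    calc _ = u * (u * y * (u : G)⁻¹) * (u : G)⁻¹ := by group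
      _ = u * (y * y) * (u : G)⁻¹ := by rw [hτ0]
      _ = u * y * (u : G)⁻¹ * (u * y * (u : G)⁻¹) := by group
      _ = y := by rw [hτ0, sq_sq y3])
  have tQ : t ∈ Q := mQ t ht 1 (by rw [pow_one, pow_two, t2])
  have τt : (u : G) * u * u * t = t * (u * u * u) := ((show Commute (u : G) t from ut).mul_left ut).mul_left ut
  have τ2 : (u : G) * u * u * (u * u * u) ∈ Q := by
    rw [show (u : G) * u * u * (u * u * u) = (u * u) * (u * u) * (u * u) by simp only [mul_assoc]]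
    obtain ⟨k, e | e⟩ := h.six t y t2 t1 y3 y1 yt (u * u) ((show Commute (u : G) t from ut).mul_left ut) c2
    · rw [e, pow3 y3]; exact one_mem _
    · rw [e, ← pow_three', ((show Commute t y from yt.symm).pow_right k).mul_pow, pow_three' (y ^ k), pow3 y3, mul_one]
      exact pow_mem tQ 3
  have τy : (u : G) * u * u * y * ((u : G) * u * u)⁻¹ = y * y := by
    calc _ = u * (u * u * y * ((u : G) * u)⁻¹) * (u : G)⁻¹ := by group
      _ = _ := by rw [cj_eq c2, hτ0]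
  have sτ : Equiv.Perm.sign (f ⟨u * u * u, mem_centralizer_singleton_iff.2 τt⟩) = -1 := by
    rw [show (⟨u * u * u, mem_centralizer_singleton_iff.2 τt⟩ : centralizer ({t} : Set G)) = u * u * u from rfl,
      map_mul, map_mul, map_mul, map_mul, sg]
    simp
  generalize (u : G) * u * u = τ at τt τ2 τy sτ
  have nτ := nQ τ (nm_Kr f τt)
  have pτ : IsPGroup 2 (zpowers τ) := by
    obtain ⟨k, hk⟩ := exists_pow_two pQ τ2
    rintro ⟨_, i, rfl⟩
    refine ⟨k + 1, Subtype.ext ?_⟩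
    show (τ ^ i) ^ 2 ^ (k + 1) = 1
    rw [← zpow_natCast, ← zpow_mul, mul_comm, zpow_mul, zpow_natCast, pow_succ', pow_mul, pow_two, hk, one_zpow]
  obtain ⟨T, c, hT⟩ := exists_ce h t2 t1 (pτ.to_sup_of_normal_right' pQ (zpowers_le.2 nτ.norm)) fun g hg =>
    mem_centralizer_singleton_iff.1 (sup_le (zpowers_le.2 (mem_centralizer_singleton_iff.2 τt))
      (fun g hg => mem_centralizer_singleton_iff.2 (Kr_c f (QN hg))) hg)
  have key : ∀ g, ∀ hg : g ∈ (T : Subgroup G),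
      Equiv.Perm.sign (f ⟨g, mem_centralizer_singleton_iff.2 (c.tc g hg)⟩) = 1 → g ∈ Q := fun g hg e => by
    obtain ⟨k, hk⟩ := exists_pow_two T.isPGroup' hg
    exact mQ g ((mem_Kr f (c.tc g hg)).2 (eq_one_of_two_three (k := k)
      (by rw [← map_pow, ← map_one f]; exact congrArg f (Subtype.ext hk)) (s2 _ e))) k hk
  refine ⟨T, Q, τ, ⟨c, y3, y1, yt, le_sup_right.trans hT, fun a ha b hb h1 h2 => key _ (mul_mem ha hb) ?_,
    hT (mem_sup_left (mem_zpowers τ)), fun e => ?_, tQ, nQ y (nm_Kr f yt), τy⟩, fun g hg => ?_⟩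
  · have e1 := (Int.units_eq_one_or _).resolve_left fun e => h1 (key a ha e)
    have e2 := (Int.units_eq_one_or _).resolve_left fun e => h2 (key b hb e)
    have := congrArg₂ (· * ·) e1 e2
    simp only [← map_mul] at this
    exact this.trans (by simp)
  · rw [(mem_Kr f τt).1 (QN e), map_one] at sτ
    exact absurd sτ (by decide)
  · obtain ⟨i, -, e | e⟩ := s5 _ _ (f ⟨g, mem_centralizer_singleton_iff.2 hg⟩) a3 a1 sτ
    · rw [← map_pow, ← mul_inv_eq_one, ← map_inv, ← map_mul] at e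
      obtain ⟨o, ho, oc, q, hq, e'⟩ := dQ _ ⟨_, e, rfl⟩
      exact ⟨o, ho, oc, q, hq, i, .inl (by rw [← e']; simp [Y])⟩
    · rw [← map_pow, ← map_mul, ← mul_inv_eq_one, ← map_inv, ← map_mul] at e
      obtain ⟨o, ho, oc, q, hq, e'⟩ := dQ _ ⟨_, e, rfl⟩
      exact ⟨o, ho, oc, q, hq, i, .inr (by rw [← e']; simp [Y, mul_assoc])⟩

/-- A four-subgroup of the alternating group of degree five. -/
def V5 : Subgroup (Equiv.Perm (Fin 5)) where
  carrier := {σ | σ = 1 ∨ σ = Equiv.swap 0 1 * Equiv.swap 2 3 ∨ σ = Equiv.swap 0 2 * Equiv.swap 1 3 ∨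
    σ = Equiv.swap 0 3 * Equiv.swap 1 2}
  one_mem' := .inl rfl
  mul_mem' := by
    rintro _ _ (rfl | rfl | rfl | rfl) (rfl | rfl | rfl | rfl) <;> simp only [Set.mem_ofPred_eq] <;> decide
  inv_mem' := by
    rintro _ (rfl | rfl | rfl | rfl) <;> simp only [Set.mem_ofPred_eq] <;> decide

theorem case_A5 (h : Gl G) {t : G} (t2 : t * t = 1) (t1 : t ≠ 1)
    (f : centralizer ({t} : Set G) →* Equiv.Perm (Fin 5)) (hf : f.range = alternatingGroup (Fin 5))
    (hN : IsPGroup 2 f.ker) : ∃ (T : Sylow 2 G) (y : G), NN T t y := by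
  have : Fact (Nat.Prime 2) := ⟨Nat.prime_two⟩
  have pV : IsPGroup 2 V5 := by
    rintro ⟨_, (rfl | rfl | rfl | rfl)⟩ <;> exact ⟨1, Subtype.ext (by decide)⟩
  have cV : Nat.card V5 = 4 := by
    have : (V5 : Set (Equiv.Perm (Fin 5))) = ({1, Equiv.swap 0 1 * Equiv.swap 2 3, Equiv.swap 0 2 * Equiv.swap 1 3,
      Equiv.swap 0 3 * Equiv.swap 1 2} : Finset (Equiv.Perm (Fin 5))) := by
      ext σ; simp only [Finset.coe_insert, Finset.coe_singleton]; rfl
    rw [show Nat.card V5 = Nat.card (V5 : Set (Equiv.Perm (Fin 5))) from rfl, this, Nat.card_coe_set_eq,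
      Set.ncard_coe_finset]
    decide
  have VA : V5 ≤ f.range := by
    rw [hf]
    rintro _ (rfl | rfl | rfl | rfl) <;> simp [Equiv.Perm.mem_alternatingGroup]
  obtain ⟨T, c, hT⟩ := exists_ce h t2 t1 ((pV.comap_of_ker_isPGroup f hN).map (centralizer ({t} : Set G)).subtype) (by
    rintro _ ⟨a, -, rfl⟩
    exact mem_centralizer_singleton_iff.1 a.2)
  have hS : ((T : Subgroup G).subgroupOf (centralizer ({t} : Set G))).map f = V5 := by
    have le : V5 ≤ ((T : Subgroup G).subgroupOf (centralizer ({t} : Set G))).map f := fun v hv => by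
      obtain ⟨a, rfl⟩ := VA hv
      exact ⟨a, hT ⟨a, hv, rfl⟩, rfl⟩
    refine (eq_of_le_of_card_ge le ?_).symm
    obtain ⟨k, hk⟩ := ((H72.isPGroup_subgroupOf T.isPGroup').map f).exists_card_eq
    have d := card_dvd_of_le (hf ▸ map_le_range f ((T : Subgroup G).subgroupOf (centralizer ({t} : Set G))))
    rw [hk, nat_card_alternatingGroup] at d
    rw [hk, cV]
    by_contra hh
    have : 3 ≤ k := by
      by_contra h3
      have := Nat.pow_le_pow_right (n := 2) (by norm_num) (show k ≤ 2 by omega)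
      omega
    exact absurd ((pow_dvd_pow 2 this).trans d) (by simp [Nat.factorial])
  obtain ⟨a, ha⟩ : Equiv.swap (0 : Fin 5) 1 * Equiv.swap 0 2 ∈ f.range := by
    rw [hf]; simp [Equiv.Perm.mem_alternatingGroup]
  have na : Nm (a : G) T := fun g hg => by
    have m : f ⟨g, mem_centralizer_singleton_iff.2 (c.tc g hg)⟩ ∈ V5 := hS ▸ ⟨_, hg, rfl⟩
    refine hT ⟨a * ⟨g, mem_centralizer_singleton_iff.2 (c.tc g hg)⟩ * a⁻¹, ?_, rfl⟩
    show f _ ∈ V5
    rw [map_mul, map_mul, map_inv, ha]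
    rcases m with e | e | e | e <;> rw [e] <;> (show _ ∨ _ ∨ _ ∨ _) <;> decide
  have hd : 3 ∣ orderOf (a : G) := by
    rw [Subgroup.orderOf_coe, ← ord3 (ρ := f a) (by rw [ha]; decide) (by rw [ha]; decide)]
    exact orderOf_map_dvd f a
  have ho := orderOf_pow_orderOf_div (orderOf_pos (a : G)).ne' hd
  exact ⟨T, _, c, by rw [← pow_three', ← ho, pow_orderOf_eq_one], fun e => by rw [e, orderOf_one] at ho; omega,
    (show Commute (a : G) t from mem_centralizer_singleton_iff.1 a.2).pow_left _, na.pow _⟩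

/-- The subgroup generated by `t` in its centraliser. -/
def Zt (t : G) : Subgroup (centralizer ({t} : Set G)) := (zpowers t).subgroupOf _

instance Zt_normal (t : G) : (Zt t).Normal := ⟨fun n hn g => by
  obtain ⟨k, hk⟩ := hn
  have c : Commute (g : G) n := by
    rw [show (n : G) = t ^ k from hk.symm]
    exact (show Commute (g : G) t from mem_centralizer_singleton_iff.1 g.2).zpow_right k
  exact ⟨k, hk.trans (cj_eq c).symm⟩⟩

theorem mem_Zt {t : G} {a : centralizer ({t} : Set G)} : a ∈ Zt t ↔ (a : G) ∈ zpowers t := Iff.rfl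

theorem nil_Kr {t : G} (t2 : t * t = 1) {L : Type*} [Group L] (f : centralizer ({t} : Set G) →* L)
    (N : Subgroup (_ ⧸ Zt t)) (hN : Group.IsNilpotent N) (e : f.ker = N.comap (QuotientGroup.mk' (Zt t))) :
    Group.IsNilpotent (Kr f) := by
  have : Group.IsNilpotent f.ker := by
    rw [e]
    refine Subgroup.isNilpotent_of_ker_le_center ((QuotientGroup.mk' (Zt t)).subgroupComap N) (fun a ha => ?_)
    have : (a : centralizer ({t} : Set G)) ∈ Zt t := (QuotientGroup.eq_one_iff _).1 (congrArg Subtype.val ha)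
    refine mem_center_iff.2 fun g => Subtype.ext (Subtype.ext ?_)
    show (g : G) * a = a * g
    rcases (mem_zt t2).1 (mem_Zt.1 this) with e | e <;> rw [e]
    · simp
    · exact mem_centralizer_singleton_iff.1 g.1.2
  exact Group.nilpotent_of_mulEquiv (f.ker.equivMapOfInjective _ (subtype_injective _))

theorem sj {A L : Type*} [Group A] [Group L] (Z : Subgroup A) [Z.Normal] (N : Subgroup (A ⧸ Z)) [N.Normal]
    (e : ((A ⧸ Z) ⧸ N) ≃* L) : ∃ f : A →* L, Function.Surjective f ∧ f.ker = N.comap (QuotientGroup.mk' Z) := by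
  refine ⟨e.toMonoidHom.comp ((QuotientGroup.mk' N).comp (QuotientGroup.mk' Z)), fun a => ?_, ?_⟩
  · obtain ⟨a, rfl⟩ := e.surjective a
    obtain ⟨a, rfl⟩ := QuotientGroup.mk_surjective a
    obtain ⟨a, rfl⟩ := QuotientGroup.mk_surjective a
    exact ⟨a, rfl⟩
  · ext a; simp

theorem bar3 {t y : G} (t2 : t * t = 1) (t1 : t ≠ 1) (y3 : y * y * y = 1) (y1 : y ≠ 1) (yt : y * t = t * y) :
    orderOf ((⟨y, mem_centralizer_singleton_iff.2 yt⟩ : centralizer ({t} : Set G)) : _ ⧸ Zt t) = 3 := by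
  refine ord3 ?_ fun e => ?_
  · rw [← QuotientGroup.mk_mul, ← QuotientGroup.mk_mul, ← QuotientGroup.mk_one]
    exact congrArg _ (Subtype.ext y3)
  · rcases (mem_zt t2).1 (mem_Zt.1 ((QuotientGroup.eq_one_iff _).1 e)) with e | e
    · exact y1 e
    · exact t1 (eq_one_of_two_three (k := 1) (by rw [pow_one, pow_two, t2]) (by rw [← show y = t from e, y3]))

theorem bar_cent (h : Gl G) {t y : G} (t2 : t * t = 1) (t1 : t ≠ 1) (y3 : y * y * y = 1) (y1 : y ≠ 1)
    (yt : y * t = t * y) (Y : centralizer ({t} : Set G)) (hY : (Y : G) = y) :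
    centralizer ((zpowers (Y : _ ⧸ Zt t) : Subgroup (_ ⧸ Zt t)) : Set (_ ⧸ Zt t)) = zpowers (Y : _ ⧸ Zt t) := by
  subst hY
  refine le_antisymm (fun g hg => ?_) (zpowers_le.2 (mem_centralizer_iff.2 ?_))
  · obtain ⟨g, rfl⟩ := QuotientGroup.mk_surjective g
    have := mem_centralizer_iff.1 hg _ (mem_zpowers _)
    rw [← mul_inv_eq_one, mul_inv_rev, ← mul_assoc, ← QuotientGroup.mk_inv, ← QuotientGroup.mk_inv,
      ← QuotientGroup.mk_mul, ← QuotientGroup.mk_mul, ← QuotientGroup.mk_mul, QuotientGroup.eq_one_iff] at this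
    obtain ⟨n, hn, e⟩ := exists_fix_coset (pg2 t2) y3 (nm_zt t2 yt) (x := g) this
    have nt : n * t = t * n := by rcases (mem_zt t2).1 hn with e | e <;> simp [e]
    obtain ⟨k, hk⟩ := h.six t Y t2 t1 y3 y1 yt (n * g)
      ((show Commute n t from nt).mul_left (mem_centralizer_singleton_iff.1 g.2)) e.symm
    refine ⟨k, ?_⟩
    show (Y : _ ⧸ Zt t) ^ (k : ℤ) = g
    rw [zpow_natCast, ← QuotientGroup.mk_pow, QuotientGroup.eq, mem_Zt]
    have c := nm_zt t2 ((show Commute (Y : G) t from yt).pow_left k).inv_left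
    show ((Y : G) ^ k)⁻¹ * g ∈ zpowers t
    rcases hk with e | e
    · have := c _ (inv_mem hn)
      rwa [inv_inv, ← e, mul_assoc, inv_mul_cancel_left, e] at this
    · have := c _ (mul_mem (inv_mem hn) (mem_zpowers t))
      rwa [inv_inv, mul_assoc, mul_assoc, ← e, inv_mul_cancel_left] at this
  · rintro _ ⟨k, rfl⟩
    exact (Commute.refl _).zpow_left k

theorem case_L27 (h : Gl G) {t : G} (t2 : t * t = 1) (t1 : t ≠ 1)
    (e : (_ ⧸ Zt t) ≃* Matrix.ProjectiveSpecialLinearGroup (Fin 2) (ZMod 7)) :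
    ∃ T : Sylow 2 G, Ce T t ∧ Nat.card T = 16 := by
  have : Fact (Nat.Prime 2) := ⟨Nat.prime_two⟩
  have : Fact (Nat.Prime 7) := ⟨by norm_num⟩
  obtain ⟨T, c, -⟩ := exists_ce h t2 t1 IsPGroup.of_bot (fun g hg => by simp [mem_bot.1 hg])
  refine ⟨T, c, ?_⟩
  have cZ : Nat.card (Zt t) = 2 := by
    rw [Zt, Nat.card_congr (subgroupOfEquivOfLe (zpowers_le.2 (mem_centralizer_singleton_iff.2 rfl))).toEquiv,
      Nat.card_zpowers, ord2 t2 t1]
  have hT : (T : Subgroup G) ≤ centralizer {t} := fun g hg => mem_centralizer_singleton_iff.2 (c.tc g hg)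
  have c1 := H10.card_PSL_two (F := ZMod 7)
  rw [Nat.card_zmod] at c1
  have c0 := Nat.card_congr e.toEquiv
  have c2 := card_eq_card_quotient_mul_card_subgroup (Zt t)
  have c3 := (T.subtype hT).card_eq_multiplicity
  rw [show Nat.card (centralizer ({t} : Set G)) = 2 ^ 4 * 21 by rw [c2, cZ, c0]; norm_num at c1 ⊢; omega,
    Nat.factorization_mul (by norm_num) (by norm_num), Nat.prime_two.factorization_pow, Finsupp.add_apply,
    Finsupp.single_eq_same, Nat.factorization_eq_zero_of_not_dvd (by norm_num)] at c3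
  exact (Nat.card_congr (subgroupOfEquivOfLe hT).toEquiv).symm.trans c3

theorem tri (h : Gl G) {t y : G} (t2 : t * t = 1) (t1 : t ≠ 1) (y3 : y * y * y = 1) (y1 : y ≠ 1) (yt : y * t = t * y) :
    ∃ T : Sylow 2 G, Ce T t ∧ ((∃ y, NN T t y) ∨ (∃ Q y τ, SS T Q t y τ) ∨ Nat.card T = 16) := by
  have o3 := bar3 t2 t1 y3 y1 yt
  rcases Cfsg.Agent.S3331.result _ (by rw [Nat.card_zpowers, o3]) (bar_cent h t2 t1 y3 y1 yt ⟨y, _⟩ rfl) with
    ⟨N, hN, h1, h2, h3 | ⟨⟨e⟩⟩⟩ | ⟨N, hN, -, h2, ⟨e⟩⟩ | ⟨⟨e⟩⟩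
  · obtain ⟨f, -, k⟩ := sj _ N (MulEquiv.refl _)
    obtain ⟨T, c⟩ := case_three h t2 t1 y3 y1 yt f h3 (nil_Kr t2 f N h1 k)
    exact ⟨T, c.toCe, .inl ⟨y, c⟩⟩
  · obtain ⟨f, hf, k⟩ := sj _ N e
    obtain ⟨T, Q, τ, c⟩ := case_S3 h t2 t1 y3 y1 yt f hf (nil_Kr t2 f N h1 k)
      (fun m => by
        have m' := (mem_Kr f yt).1 m
        rw [← MonoidHom.mem_ker, k, mem_comap, QuotientGroup.mk'_apply] at m'
        have := orderOf_dvd_natCard N m'
        rw [o3] at this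
        exact absurd (Nat.Coprime.eq_one_of_dvd h2.symm this) (by norm_num))
      ((mem_Kr f rfl).2 (by
        rw [← MonoidHom.mem_ker, k, mem_comap, QuotientGroup.mk'_apply,
          (QuotientGroup.eq_one_iff _).2 (mem_Zt.2 (mem_zpowers t))]
        exact one_mem _))
    exact ⟨T, c.toCe, .inr (.inl ⟨Q, y, τ, c⟩)⟩
  · obtain ⟨f, hf, k⟩ := sj _ N e
    obtain ⟨T, y', c⟩ := case_A5 h t2 t1 ((alternatingGroup (Fin 5)).subtype.comp f) (by
        rw [MonoidHom.range_comp, MonoidHom.range_eq_top.2 hf, ← MonoidHom.range_eq_map, range_subtype]) (by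
        rintro ⟨a, ha⟩
        have m : a ∈ f.ker := Subtype.ext ha
        rw [k, mem_comap, QuotientGroup.mk'_apply] at m
        have := h2 _ m
        rw [← QuotientGroup.mk_pow, QuotientGroup.eq_one_iff] at this
        refine ⟨2, Subtype.ext (Subtype.ext ?_)⟩
        show (a : G) ^ (2 * 2) = 1
        rw [pow_mul]
        rcases (mem_zt t2).1 (mem_Zt.1 this) with e | e
        · rw [show (a : G) ^ 2 = 1 from e, one_pow]
        · rw [show (a : G) ^ 2 = t from e, pow_two, t2])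
    exact ⟨T, c.toCe, .inl ⟨y', c⟩⟩
  · obtain ⟨T, c, e⟩ := case_L27 h t2 t1 e
    exact ⟨T, c, .inr (.inr e)⟩

theorem main (h : Gl G) {t y : G} (t2 : t * t = 1) (t1 : t ≠ 1) (y3 : y * y * y = 1) (y1 : y ≠ 1) (yt : y * t = t * y) :
    ∃ T : Sylow 2 G, IsMulCommutative (T : Subgroup G) ∨ (Uq T t ∧ Cfsg.PRankLE 2 2 G) := by
  obtain ⟨T, c, hc⟩ := tri h t2 t1 y3 y1 yt
  refine ⟨T, ?_⟩
  by_cases hna : ∀ a ∈ (T : Subgroup G), ∀ b ∈ (T : Subgroup G), a * b = b * a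
  · exact .inl ⟨⟨fun a b => Subtype.ext (hna a a.2 b b.2)⟩⟩
  have key : Uq T t → (∀ s, ¬ Nf T t s) → Uq T t ∧ Cfsg.PRankLE 2 2 G := fun hU hn => ⟨hU, by
    by_contra hr
    obtain ⟨s, f⟩ := exists_nf c hU hr
    exact hn s f⟩
  refine .inr ?_
  rcases hc with ⟨y, d⟩ | ⟨Q, y, τ, d⟩ | d
  · exact key (d.uq h hna) fun s => d.not_nf h (d.uq h hna)
  · have := d.uq h fun e => hna fun a ha b hb => d.comm_of_small e ha hb
    exact key this fun s => d.not_nf h this
  · exact key (uq16 h c d hna) fun s => not_nf16 h c d (uq16 h c d hna)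

end H50.SC6
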